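import Mathlib

/-!
The final arithmetic.
-/

set_option autoImplicit false

namespace CfsgLib.SelfCentThree

/-- Orders left over by the counting: two real ones and the others excluded by Sylow arguments. -/
def candidates : List ℕ :=
  [60, 168, 84, 132, 420, 120, 264, 312, 1320, 240, 336, 528, 624, 816, 912, 1056, 1104, 1248, 1632, 1824,
    2208, 2400, 3264, 3648, 5520]

def inList (n : ℕ) : Bool := candidates.any fun a => Nat.beq a n

theorem mem_of_inList {n : ℕ} (h : inList n = true) : n ∈ candidates := by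
  simp only [inList, List.any_eq_true, Nat.beq_eq] at h
  obtain ⟨a, ha, rfl⟩ := h
  exact ha

/-- Check for Sylow 2-subgroups of order `t ∈ {4, 8}`. -/
def smallCheck (t a b : ℕ) (cb jb : ℕ) : Bool :=
  (List.range cb).all fun c => (List.range jb).all fun j =>
    !(Nat.beq (c % (2 * t)) t && !(Nat.beq (c % 3) 0) && Nat.beq (j % 2) 1 && !(Nat.beq (j % 3) 0) &&
      decide (3 * c * c < 4 * (3 * c * j)) && decide (4 * (3 * c * j) < a + b * c)) || inList (3 * c * j)

theorem small_four : smallCheck 4 63 126 43 17 = true := by decide +kernel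

theorem small_eight : smallCheck 8 144 144 50 14 = true := by decide +kernel

theorem of_smallCheck {t a b cb jb : ℕ} (h : smallCheck t a b cb jb = true) {c j : ℕ} (hc : c < cb) (hj : j < jb)
    (h1 : c % (2 * t) = t) (h2 : c % 3 ≠ 0) (h3 : j % 2 = 1) (h4 : j % 3 ≠ 0)
    (h5 : 3 * c * c < 4 * (3 * c * j)) (h6 : 4 * (3 * c * j) < a + b * c) : 3 * c * j ∈ candidates := by
  simp only [smallCheck, List.all_eq_true, List.mem_range, Bool.or_eq_true] at h
  rcases h c hc j hj with e | e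
  · simp [Nat.beq_eq, h1, h2, h3, h4, h5, h6] at e
  · exact mem_of_inList e

/-- Check for Sylow 2-subgroups of order at least sixteen. -/
def bigCheck : Bool :=
  (List.range 19).all fun m => (List.range 80).all fun j =>
    !(!(Nat.beq (m % 3) 0) && Nat.beq (j % 2) 1 && !(Nat.beq (j % 3) 0) &&
      decide (3 * (16 * m) * (16 * m) < 4 * (3 * (16 * m) * j))) ||
    ((List.range 14).all fun K =>
      !(decide (0 < K) && Nat.beq ((16 * m) % (2 * K * K)) 0 &&
        decide (3 * (16 * m) * j * (Nat.gcd (16 * m) 1024 - 6) <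
          9 * Nat.gcd (16 * m) 1024 * (1 + 2 * (16 * m) + (16 * m - 1) * (K + 1))))) || inList (3 * (16 * m) * j)

theorem big_ok : bigCheck = true := by decide +kernel

theorem of_bigCheck {m j K : ℕ} (hm : m < 19) (hj : j < 80) (hK : K < 14) (h1 : m % 3 ≠ 0) (h3 : j % 2 = 1)
    (h4 : j % 3 ≠ 0) (hK0 : 0 < K) (h5 : 2 * K * K ∣ 16 * m)
    (h6 : 3 * (16 * m) * (16 * m) < 4 * (3 * (16 * m) * j))
    (h7 : 3 * (16 * m) * j * (Nat.gcd (16 * m) 1024 - 6) <
      9 * Nat.gcd (16 * m) 1024 * (1 + 2 * (16 * m) + (16 * m - 1) * (K + 1))) :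
    3 * (16 * m) * j ∈ candidates := by
  have h := big_ok
  simp only [bigCheck, List.all_eq_true, List.mem_range, Bool.or_eq_true] at h
  rcases h m hm j hj with (e | e) | e
  · simp [Nat.beq_eq, h1, h3, h4, h6] at e
  · have e' := e K hK
    simp [Nat.beq_eq, hK0, Nat.mod_eq_zero_of_dvd h5, h7] at e'
  · exact mem_of_inList e

theorem eq_three_mul {g c : ℕ} (hc3 : ¬ 3 ∣ c) (hcg : c ∣ g) (h3 : 3 ∣ g) : ∃ j, g = 3 * c * j := by
  have : 3 * c ∣ g := ((Nat.prime_three.coprime_iff_not_dvd).2 hc3).mul_dvd_of_dvd_of_dvd h3 hcg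
  obtain ⟨j, hj⟩ := this
  exact ⟨j, hj⟩

/-- All the numerical information gives one of the candidates. -/
theorem mem_candidates (g c t : ℕ) (a : ℕ) (ht : t = 2 ^ a) (ha : 2 ≤ a) (hcg : c ∣ g) (hc3 : ¬ 3 ∣ c)
    (hg3 : 3 ∣ g) (hg9 : ¬ 9 ∣ g) (htc : t ∣ c) (hgt : ¬ 2 * t ∣ g) (hlow : 3 * c ^ 2 < 4 * g)
    (h4 : a = 2 → 4 * g < 63 + 126 * c) (h8 : a = 3 → g < 36 + 36 * c)
    (h16 : 4 ≤ a → ∃ K, 0 < K ∧ 2 * K ^ 2 ∣ c ∧ g * (t - 6) < 9 * t * (1 + 2 * c + (c - 1) * (K + 1))) :
    g ∈ candidates := by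
  obtain ⟨j, rfl⟩ := eq_three_mul hc3 hcg hg3
  have hj3 : j % 3 ≠ 0 := fun e => hg9 (by
    obtain ⟨k, rfl⟩ := Nat.dvd_of_mod_eq_zero e; exact ⟨c * k, by ring⟩)
  have hjodd : j % 2 = 1 := by
    by_contra e
    obtain ⟨k, rfl⟩ : 2 ∣ j := Nat.dvd_of_mod_eq_zero (by omega)
    obtain ⟨l, rfl⟩ := htc
    exact hgt ⟨3 * l * k, by ring⟩
  have hcodd : c % (2 * t) = t := by
    obtain ⟨l, rfl⟩ := htc
    have hl : l % 2 = 1 := by
      by_contra e
      obtain ⟨k, rfl⟩ : 2 ∣ l := Nat.dvd_of_mod_eq_zero (by omega)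
      exact hgt ⟨3 * k * j, by ring⟩
    rw [mul_comm 2 t, Nat.mul_mod_mul_left, hl, mul_one]
  have hc3' : c % 3 ≠ 0 := fun e => hc3 (Nat.dvd_of_mod_eq_zero e)
  have hlow' : 3 * c * c < 4 * (3 * c * j) := by rw [mul_assoc 3 c c, ← sq]; exact hlow
  have hcj : c < 4 * j := by
    refine Nat.lt_of_mul_lt_mul_left (a := 3 * c) ?_
    calc 3 * c * c < 4 * (3 * c * j) := hlow'
      _ = 3 * c * (4 * j) := by ring
  have hcpos : 0 < c := Nat.pos_of_ne_zero fun e => by simp [e] at hcodd; subst ht; exact absurd hcodd.symm (by positivity)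
  rcases Nat.lt_or_ge a 4 with hlt | hge
  · interval_cases a
    · subst ht
      have h := h4 rfl
      have hj : j < 17 := by
        by_contra hh; push Not at hh
        have : 12 * c * 17 ≤ 12 * c * j := Nat.mul_le_mul_left _ hh
        nlinarith
      have hc : c < 43 := by
        by_contra hh; push Not at hh
        nlinarith [Nat.mul_le_mul_left c hh, Nat.mul_le_mul_left c hcj.le]
      exact of_smallCheck small_four hc hj (by norm_num at hcodd ⊢; exact hcodd) hc3' hjodd hj3 hlow' h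
    · subst ht
      have h := h8 rfl
      have hj : j < 14 := by
        by_contra hh; push Not at hh
        have : 3 * c * 14 ≤ 3 * c * j := Nat.mul_le_mul_left _ hh
        have : 8 ≤ c := by norm_num at hcodd; omega
        nlinarith
      have hc : c < 50 := by
        by_contra hh; push Not at hh
        nlinarith [Nat.mul_le_mul_left c hh, Nat.mul_le_mul_left c hcj.le]
      exact of_smallCheck small_eight hc hj (by norm_num at hcodd ⊢; exact hcodd) hc3' hjodd hj3 hlow' (by omega)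
  · obtain ⟨K, hK0, hKd, hK⟩ := h16 hge
    have ht16 : 16 ≤ t := by
      rw [ht]; exact le_of_eq_of_le (by norm_num) (Nat.pow_le_pow_right (show 0 < 2 by norm_num) hge)
    have hK2 : 2 * K ^ 2 ≤ c := Nat.le_of_dvd hcpos hKd
    have hmain : 5 * (3 * c * j) < 72 * (c * (K + 3)) := by
      have h5 : 5 * t ≤ 8 * (t - 6) := by omega
      have he : 1 + 2 * c + (c - 1) * (K + 1) ≤ c * (K + 3) := by
        obtain ⟨c', rfl⟩ : ∃ c', c = c' + 1 := ⟨c - 1, by omega⟩
        simp only [Nat.add_sub_cancel]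
        nlinarith
      refine Nat.lt_of_mul_lt_mul_left (a := t) ?_
      calc t * (5 * (3 * c * j)) = 3 * c * j * (5 * t) := by ring
        _ ≤ 3 * c * j * (8 * (t - 6)) := Nat.mul_le_mul_left _ h5
        _ = 8 * (3 * c * j * (t - 6)) := by ring
        _ < 8 * (9 * t * (1 + 2 * c + (c - 1) * (K + 1))) := Nat.mul_lt_mul_of_pos_left hK (by norm_num)
        _ ≤ 8 * (9 * t * (c * (K + 3))) := by gcongr
        _ = t * (72 * (c * (K + 3))) := by ring
    have hj15 : 15 * j < 72 * (K + 3) := by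
      refine Nat.lt_of_mul_lt_mul_left (a := c) ?_
      calc c * (15 * j) = 5 * (3 * c * j) := by ring
        _ < 72 * (c * (K + 3)) := hmain
        _ = c * (72 * (K + 3)) := by ring
    have hK14 : K < 14 := by
      by_contra hh; push Not at hh
      nlinarith
    obtain ⟨m, rfl⟩ : 16 ∣ c := dvd_trans (by rw [ht]; exact dvd_trans (by norm_num) (pow_dvd_pow 2 hge) : 16 ∣ t) htc
    have hm : m < 19 := by nlinarith
    have hj80 : j < 80 := by omega
    have hgcd : Nat.gcd (16 * m) 1024 = t := by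
      subst ht
      have ha9 : a ≤ 10 := by
        by_contra hh; push Not at hh
        have : 2 ^ 11 ≤ 2 ^ a := Nat.pow_le_pow_right (by norm_num) hh
        have := Nat.le_of_dvd hcpos htc
        omega
      obtain ⟨l, hl⟩ := htc
      have hlodd : Nat.Coprime l 2 := by
        refine ((Nat.prime_two.coprime_iff_not_dvd).2 fun e => ?_).symm
        obtain ⟨l', rfl⟩ := e
        rw [hl, show 2 ^ a * (2 * l') = 2 * 2 ^ a * l' by ring, Nat.mul_mod_right] at hcodd
        exact absurd hcodd.symm (by positivity)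
      rw [hl, show (1024 : ℕ) = 2 ^ a * 2 ^ (10 - a) by rw [← pow_add, Nat.add_sub_cancel' ha9]; norm_num,
        Nat.gcd_mul_left, Nat.Coprime.gcd_eq_one (Nat.Coprime.pow_right _ hlodd), mul_one]
    have hm3 : m % 3 ≠ 0 := fun e => hc3' (by omega)
    exact of_bigCheck hm hj80 hK14 hm3 hjodd hj3 hK0 (by rwa [mul_assoc 2 K K, ← sq]) hlow'
      (by rw [hgcd]; exact hK)

end CfsgLib.SelfCentThree
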