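import Cfsg.Agent.Lib.SelfCentThree.Eight
import Cfsg.Agent.Lib.SelfCentThree.Arith
import Cfsg.Agent.Lib.SmallOrder.Auto

/-!
A simple group all of whose local subgroups are of type I has order 60 or 168.
-/

set_option autoImplicit false
set_option maxHeartbeats 400000

namespace CfsgLib.SelfCentThree

open CfsgLib.SmallOrder in
theorem candidates_excluded : ∀ n ∈ candidates, n = 60 ∨ n = 168 ∨ orderExcluded n = true := by
  decide +kernel

variable {G : Type*} [Group G] [Finite G] {x i : G}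

theorem card_of_locI [IsSimpleGroup G] (hna : ¬ IsMulCommutative G) (h : SC x) (hi : i * x * i⁻¹ = x⁻¹)
    (hloc : LocI x) : Nat.card G = 60 ∨ Nat.card G = 168 := by
  classical
  haveI : Fact (Nat.Prime 2) := ⟨Nat.prime_two⟩
  obtain ⟨hconj, hlow, hpairs⟩ := h.char_bounds hi
  have S : Setup x i := ⟨h, hi, hloc, hconj⟩
  have hio := h.orderOf_inverter hi
  set g := Nat.card G with hg
  set c := Nat.card (Subgroup.centralizer ({i} : Set G)) with hc
  set a := g.factorization 2 with ha
  have hsum := h.pairs_le.trans (Nat.add_le_add_left (le_of_eq (sum_split x i fun H => Nat.card H - 1)) 1)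
  have hcg : c ∣ g := Subgroup.card_subgroup_dvd_card _
  have hc3 : ¬ 3 ∣ c := fun e => by
    haveI : Fact (Nat.Prime 3) := ⟨Nat.prime_three⟩
    obtain ⟨w, hw⟩ := exists_prime_orderOf_dvd_card' (G := Subgroup.centralizer ({i} : Set G)) 3 e
    rw [← Subgroup.orderOf_coe] at hw
    have hw' := h.sc_of_dvd (y := (w : G)) (hw ▸ dvd_rfl)
    have hiw := hw'.cent i (Subgroup.mem_centralizer_singleton_iff.1 w.2).symm
    have := Subgroup.orderOf_dvd_natCard _ hiw
    rw [hio, hw'.card_zpowers] at this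
    norm_num at this
  obtain ⟨m, hgm, hm3⟩ := h.card_eq
  have h2g : 2 ∣ g := hio ▸ orderOf_dvd_natCard i
  have ha1 : 1 ≤ a := Nat.prime_two.factorization_pos_of_dvd Nat.card_pos.ne' h2g
  set T : Sylow 2 G := default
  have hTc : Nat.card T = 2 ^ a := T.card_eq_multiplicity
  have ha2 : 2 ≤ a := by
    by_contra hlt
    have ha' : a = 1 := by omega
    haveI : IsCyclic T := isCyclic_of_prime_card (p := 2) (by rw [hTc, ha', pow_one])
    have hmin : g.minFac = 2 := Nat.minFac_eq_two_iff g |>.2 h2g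
    have hcomp := IsCyclic.isComplement' (G := G) hmin (P := T) inferInstance
    rcases Subgroup.Normal.eq_bot_or_eq_top (MonoidHom.normal_ker (MonoidHom.transferSylow T ((inferInstance : IsCyclic T).normalizer_le_centralizer hmin))) with e | e
    · rw [e] at hcomp
      have := hcomp.card_mul
      rw [Subgroup.card_bot, one_mul, hTc, ha', pow_one] at this
      have : g = 2 := this.symm
      haveI := isCyclic_of_prime_card (α := G) (p := 2) this
      exact hna ⟨⟨(IsCyclic.commGroup (α := G)).mul_comm⟩⟩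
    · rw [e] at hcomp
      have := hcomp.card_mul
      rw [Subgroup.card_top, hTc, ha', pow_one] at this
      have : 0 < g := Nat.card_pos
      omega
  have htc : 2 ^ a ∣ c := by
    haveI : Nontrivial T := by
      refine Finite.one_lt_card_iff_nontrivial.1 ?_
      rw [hTc]; exact Nat.one_lt_two_pow (by omega)
    haveI hZ := T.isPGroup'.center_nontrivial
    obtain ⟨z, hz⟩ := exists_prime_orderOf_dvd_card' (G := Subgroup.center T) 2 (by
      obtain ⟨n, hn, hn'⟩ := (T.isPGroup'.to_subgroup (Subgroup.center T)).nontrivial_iff_card.1 hZ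
      rw [hn']; exact dvd_pow_self 2 hn.ne')
    rw [← Subgroup.orderOf_coe, ← Subgroup.orderOf_coe] at hz
    obtain ⟨u, hu⟩ := isConj_iff.1 (hconj i _ hio hz)
    rw [← hTc, hc, ← card_cj u (Subgroup.centralizer ({i} : Set G))]
    refine Subgroup.card_dvd_of_le fun w hw => ?_
    rw [mem_cj, Subgroup.mem_centralizer_singleton_iff]
    have := congrArg Subtype.val (Subgroup.mem_center_iff.1 z.2 ⟨w, hw⟩)
    simp only [Subgroup.coe_mul] at this
    rw [← hu] at this
    calc u⁻¹ * w * u * i = u⁻¹ * (w * (u * i * u⁻¹)) * u := by group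
      _ = i * (u⁻¹ * w * u) := by rw [this]; group
  -- `g = 3 · 2^a · M`
  obtain ⟨M, hM⟩ : 3 * 2 ^ a ∣ g :=
    (Nat.Coprime.pow_right a (by norm_num : Nat.Coprime 3 2)).mul_dvd_of_dvd_of_dvd ⟨m, hgm⟩ (Nat.ordProj_dvd g 2)
  have hgt : ¬ 2 * 2 ^ a ∣ g := by
    rw [← pow_succ']; exact Nat.pow_succ_factorization_not_dvd Nat.card_pos.ne' Nat.prime_two
  have hM2 : ¬ 2 ∣ M := fun ⟨k, hk⟩ => hgt ⟨3 * k, by rw [hM, hk]; ring⟩
  have hM3 : ¬ 3 ∣ M := fun ⟨k, hk⟩ => hm3 ⟨2 ^ a * k, by
    have h1 : g = 3 * (3 * (2 ^ a * k)) := by rw [hM, hk]; ring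
    have h2 : g = 3 * m := hgm
    omega⟩
  obtain ⟨hod, hod4⟩ := S.sum_od (t := 2 ^ a) (M := M) hM
    (pow_dvd_pow 2 (le_of_lt (lt_of_lt_of_le Nat.lt_two_pow_self (Nat.le_of_dvd Nat.card_pos ⟨3 * M, by rw [← hg, hM]; ring⟩))))
  have hodsub : ∑ H ∈ od x, (Nat.card H - 1) ≤ ∑ H ∈ od x, Nat.card H :=
    Finset.sum_le_sum fun H _ => Nat.sub_le _ _
  have hA : ∑ H ∈ evA x i, (Nat.card H - 1) ≤ 2 * c := S.sum_evA
  have hg9 : ¬ 9 ∣ g := fun e => hm3 (by omega)
  have hfin : g ∈ candidates := by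
    refine mem_candidates g c (2 ^ a) a rfl ha2 hcg hc3 ⟨m, hgm⟩ hg9 htc hgt hlow (fun e => ?_) (fun e => ?_) (fun e => ?_)
    · -- no subgroup normalised by `i` is even
      have hB : evB x i = ∅ := Finset.eq_empty_of_forall_notMem fun H hH => by
        have := S.evB_two_part hH; rw [← hg, ← ha] at this; omega
      rw [hB, Finset.sum_empty] at hsum
      have h4' := hod4 (by rw [e]; norm_num) (dvd_pow_self 2 (by omega)) hM2 hM3 inferInstance
      rw [e] at hM
      norm_num at hM
      omega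
    · have hA0 : evA x i = ∅ := Finset.eq_empty_of_forall_notMem fun H hH => by
        have := S.evA_mod hH; rw [← hg, ← ha, e] at this; norm_num at this
      have hB := S.sum_evB_eight (by rw [← hg, ← ha, e]; norm_num)
      rw [hA0, Finset.sum_empty] at hsum
      rw [e] at hM
      norm_num at hM
      rw [← hc] at hB
      omega
    · obtain ⟨K, hK0, hK, hB⟩ := S.sum_evB
      refine ⟨K, hK0, hK, ?_⟩
      rw [← hc] at hB
      have ht : 16 ≤ 2 ^ a := le_of_eq_of_le (by norm_num) (Nat.pow_le_pow_right (show 0 < 2 by norm_num) e)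
      set t := 2 ^ a
      set E := 1 + 2 * c + (c - 1) * (K + 1)
      have hlt : g < 9 * (E + 2 * M) := by omega
      obtain ⟨u, hu⟩ : ∃ u, t = u + 6 := ⟨t - 6, by omega⟩
      rw [hu, Nat.add_sub_cancel]
      rw [hu] at hM
      nlinarith
  rcases candidates_excluded g hfin with e | e | e
  · exact Or.inl e
  · exact Or.inr e
  · exact absurd rfl (CfsgLib.SmallOrder.card_ne_of_orderExcluded hna e)

end CfsgLib.SelfCentThree
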