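import Cfsg.Agent.Lib.SelfCentThree.TwoFinal
import Cfsg.Agent.Lib.SelfCentThree.Simple

/-!
Groups with a self-centralising subgroup of order three.
-/

set_option autoImplicit false
set_option maxHeartbeats 400000

namespace CfsgLib.SelfCentThree

universe u

variable {G : Type u} [Group G] [Finite G] {x : G} {L Y E : Subgroup G}

theorem HasA5.le_kernel (hA : HasA5 L E) (hY : ¬ 3 ∣ Nat.card Y) (hYL : Y ≤ L)
    (hn : L ≤ Subgroup.normalizer (Y : Set G)) : Y ≤ E := by
  obtain ⟨-, -, -, f, hf, hker⟩ := hA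
  haveI : IsSimpleGroup A5 := alternatingGroup.isSimpleGroup (by simp)
  have hnor : ((Y.subgroupOf L).map f).Normal :=
    Subgroup.Normal.map ((Subgroup.normal_subgroupOf_iff_le_normalizer hYL).2 hn) f hf
  rcases hnor.eq_bot_or_eq_top with h0 | h0
  · intro y hy
    refine (hker ⟨y, hYL hy⟩).1 (Subgroup.mem_bot.1 ?_)
    rw [← h0]
    exact Subgroup.mem_map_of_mem f (Subgroup.mem_subgroupOf.2 hy)
  · exfalso
    refine hY ?_
    have := Subgroup.card_map_dvd (Y.subgroupOf L) f
    rw [h0, Subgroup.card_top, Nat.card_congr (Subgroup.subgroupOfEquivOfLe hYL).toEquiv] at this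
    refine dvd_trans ?_ this
    rw [Nat.card_eq_fintype_card]; decide

theorem SC.exists_inverter [IsSimpleGroup G] (hna : ¬ IsMulCommutative G) (h : SC x) :
    ∃ i, i * x * i⁻¹ = x⁻¹ := by
  by_contra hno
  haveI : Fact (Nat.Prime 3) := ⟨Nat.prime_three⟩
  obtain ⟨P, hP⟩ := h.exists_sylow
  have hcomp : Subgroup.normalizer ((P : Subgroup G) : Set G) ≤ Subgroup.centralizer ((P : Subgroup G) : Set G) := by
    intro a ha
    rw [hP] at ha ⊢
    have hmem := (h.mem_normalizer_cases ha).resolve_right fun e => hno ⟨a, e⟩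
    rw [Subgroup.mem_centralizer_iff]
    intro b hb
    obtain ⟨i, rfl⟩ := Subgroup.mem_zpowers_iff.1 hmem
    obtain ⟨j, rfl⟩ := Subgroup.mem_zpowers_iff.1 hb
    exact (Commute.refl _).zpow_zpow j i
  have hk := MonoidHom.ker_transferSylow_isComplement' P hcomp
  rcases ((MonoidHom.transferSylow P hcomp).normal_ker).eq_bot_or_eq_top with e | e
  · have htop : Subgroup.zpowers x = ⊤ := by
      rw [← hP]; have := hk.sup_eq_top; rwa [e, bot_sup_eq] at this
    refine hna ⟨⟨fun a b => ?_⟩⟩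
    obtain ⟨j, rfl⟩ := Subgroup.mem_zpowers_iff.1 (htop ▸ Subgroup.mem_top a : a ∈ Subgroup.zpowers x)
    obtain ⟨k, rfl⟩ := Subgroup.mem_zpowers_iff.1 (htop ▸ Subgroup.mem_top b : b ∈ Subgroup.zpowers x)
    exact ((Commute.refl x).zpow_zpow j k).eq
  · have := hk.disjoint
    rw [e, disjoint_iff, top_inf_eq, hP, Subgroup.zpowers_eq_bot] at this
    exact h.ne_one this

/-- No local subgroup is of type II. -/
theorem not_typeII [IsSimpleGroup G] (h : SC x) {i : G} (hi : i * x * i⁻¹ = x⁻¹)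
    (hprop : ∀ L : Subgroup G, L ≠ ⊤ → x ∈ L → Concl L) {D : Subgroup G} (hD : D ≠ ⊥) (hDi : Inv3 x D) :
    ¬ TypeII (Subgroup.normalizer (D : Set G)) := by
  classical
  intro hII
  obtain ⟨hconj, -, -⟩ := h.char_bounds hi
  -- `E` qualifies if its normaliser is not soluble
  let P : Subgroup G → Prop := fun E => E ≠ ⊥ ∧ Inv3 x E ∧ ¬ Group.IsSolvable (Subgroup.normalizer (E : Set G))
  have hstep : ∀ {D : Subgroup G}, D ≠ ⊥ → Inv3 x D → TypeII (Subgroup.normalizer (D : Set G)) →
      ∃ E, HasA5 (Subgroup.normalizer (D : Set G)) E ∧ D ≤ E ∧ P E := by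
    intro D hD hDi hII
    obtain ⟨E, hE⟩ := hasA5_of_typeII hII
    have hDE : D ≤ E := hE.le_kernel hDi.1 Subgroup.le_normalizer le_rfl
    have hle := hE.le_normalizer
    obtain ⟨-, -, h2, f, hf, -⟩ := id hE
    refine ⟨E, hE, hDE, fun e => hD (le_bot_iff.1 (e ▸ hDE)),
      ⟨not_three_of_two_group (isPGroup_two_of_exp fun e he => by rw [← sq]; exact h2 e he), hle hDi.2⟩, fun hs => ?_⟩
    haveI := hs
    exact not_solvable_of_surjective f hf
      (Group.isSolvable_of_isSolvable_injective (f := Subgroup.inclusion hle) (Subgroup.inclusion_injective hle))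
  obtain ⟨E0, -, -, hE0⟩ := hstep hD hDi hII
  haveI : Nonempty {E // P E} := ⟨⟨E0, hE0⟩⟩
  obtain ⟨⟨E, hE⟩, hmax⟩ := Finite.exists_max (fun E : {E // P E} => Nat.card E.1)
  obtain ⟨hEne, hEi, hEs⟩ := hE
  rcases hprop _ (normalizer_ne_top h hEne hEi) hEi.2 with hI | hII' | hL
  · exact hEs hI.isSolvable
  · obtain ⟨E', hA, hle, hE'⟩ := hstep hEne hEi hII'
    have heq : E = E' := Subgroup.eq_of_le_of_card_ge hle (hmax ⟨E', hE'⟩)
    rw [← heq] at hA
    obtain ⟨s, T⟩ := exists_two h hi hEne hEi hA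
    exact no_two hprop hconj T
  · exact not_l7 hEi.2 h hEne hEi Subgroup.le_normalizer le_rfl hL

theorem card_of_proper [IsSimpleGroup G] (hna : ¬ IsMulCommutative G) (h : SC x)
    (hprop : ∀ L : Subgroup G, L ≠ ⊤ → x ∈ L → Concl L) : Nat.card G = 60 ∨ Nat.card G = 168 := by
  obtain ⟨i, hi⟩ := h.exists_inverter hna
  refine card_of_locI hna h hi fun D hD hDi => ?_
  rcases hprop _ (normalizer_ne_top h hD hDi) hDi.2 with hI | hII | hL
  · exact h.locI_of_typeI hDi.2 hI
  · exact absurd hII (not_typeII h hi hprop hD hDi)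
  · exact absurd hL (not_l7 hDi.2 h hD hDi Subgroup.le_normalizer le_rfl)

theorem classify_simple : ∀ (n : ℕ) (G : Type u) [Group G] [Finite G], Nat.card G ≤ n → IsSimpleGroup G →
    ¬ IsMulCommutative G → ∀ y : G, SC y → Nat.card G = 60 ∨ Nat.card G = 168 := by
  intro n
  induction n with
  | zero => intro G _ _ hle; exact absurd hle (not_le.2 Nat.card_pos)
  | succ n ih =>
    intro G _ _ hle hs hna y hy
    haveI := hs
    refine card_of_proper hna hy fun L hL hyL => concl_of_simple (fun H _ _ hH => ih H ?_) (hy.restrict hyL)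
    have hlt : Nat.card L < Nat.card G := lt_of_not_ge fun hge => hL (Subgroup.eq_top_of_le_card L hge)
    omega

theorem SC.concl (h : SC x) : Concl G :=
  concl_of_simple (fun H _ _ _ => classify_simple (Nat.card H) H le_rfl) h

end CfsgLib.SelfCentThree
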