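import Cfsg.Agent.Lib.SelfCentThree.Basic
import Cfsg.Agent.S0033

/-!
Fixed-point-free action of an element of order three, and of `Sym(3)`, on a subgroup of order prime
to three.
-/

set_option autoImplicit false

namespace CfsgLib.SelfCentThree

variable {G : Type*} [Group G] [Finite G] {x y i : G} {Y : Subgroup G}

theorem conj_mem_of_mem_normalizer {a : G} (ha : a ∈ Subgroup.normalizer (Y : Set G)) (hy : y ∈ Y) :
    a * y * a⁻¹ ∈ Y := (Subgroup.mem_normalizer_iff.1 ha y).1 hy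

theorem conj'_mem_of_mem_normalizer {a : G} (ha : a ∈ Subgroup.normalizer (Y : Set G)) (hy : y ∈ Y) :
    a⁻¹ * y * a ∈ Y := by
  simpa using conj_mem_of_mem_normalizer (inv_mem ha) hy

theorem diff_aux {H : Type*} [Group H] {a b d : H} (c : Commute a b) (t : a * b * d = 1) :
    d * a⁻¹ * (a * b⁻¹)⁻¹ = (a ^ 3)⁻¹ := by
  rw [eq_inv_of_mul_eq_one_right t]
  have c' : Commute b a⁻¹ := c.symm.inv_right
  calc (a * b)⁻¹ * a⁻¹ * (a * b⁻¹)⁻¹ = b⁻¹ * (a⁻¹ * a⁻¹ * b) * a⁻¹ := by group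
    _ = b⁻¹ * (b * (a⁻¹ * a⁻¹)) * a⁻¹ := by rw [(c'.mul_right c').eq]
    _ = (a ^ 3)⁻¹ := by simp [pow_succ, mul_assoc]

variable (h : SC x) (hY : ¬ 3 ∣ Nat.card Y) (hx : x ∈ Subgroup.normalizer (Y : Set G))

include h hY hx

/-- The other form of the identity: `y · ˣ²y · ˣy = 1`. -/
theorem SC.triple' (hy : y ∈ Y) : y * (x⁻¹ * y * x) * (x * y * x⁻¹) = 1 := by
  simpa using h.inv.triple hY (inv_mem hx) hy

theorem SC.commute_conj (hy : y ∈ Y) : Commute (x * y * x⁻¹) (x⁻¹ * y * x) := by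
  have h1 := h.triple hY hx hy
  have h2 := h.triple' hY hx hy
  rw [← h2] at h1
  rw [mul_assoc, mul_assoc (y)] at h1
  exact mul_left_cancel h1

theorem SC.commute_self_conj (hy : y ∈ Y) : Commute y (x * y * x⁻¹) := by
  have h1 := h.commute_conj hY hx (conj'_mem_of_mem_normalizer hx hy)
  rw [show x * (x⁻¹ * y * x) * x⁻¹ = y by group] at h1
  have h2 : x⁻¹ * (x⁻¹ * y * x) * x = x * y * x⁻¹ := by
    calc x⁻¹ * (x⁻¹ * y * x) * x = x⁻¹ * x⁻¹ * y * (x⁻¹ * x⁻¹)⁻¹ := by simp [mul_assoc]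
      _ = x * y * x⁻¹ := by
        rw [show x⁻¹ * x⁻¹ = x by
          rw [h.inv_eq]
          calc x * x * (x * x) = x ^ 3 * x := by simp [pow_succ, mul_assoc]
            _ = x := by rw [h.pow_three, one_mul]]
  rwa [h2] at h1

theorem SC.conj_ne (hy : y ∈ Y) (hy1 : y ≠ 1) : x * y * x⁻¹ ≠ y := fun e =>
  hy1 (h.fpf hY hy (mul_inv_eq_iff_eq_mul.1 e).symm)

theorem SC.isNilpotent : Group.IsNilpotent Y := by
  classical
  rcases subsingleton_or_nontrivial Y with hs | hs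
  · infer_instance
  obtain ⟨⟨y, hy⟩, hy1⟩ := exists_ne (1 : Y)
  let φ : Y ≃* Y := Y.normalizerMonoidHom ⟨x, hx⟩
  have hφ : ∀ z : Y, (φ z : G) = x * z * x⁻¹ := fun z => by
    simp [φ, Subgroup.normalizerMonoidHom]
    rfl
  refine Cfsg.Agent.S0033.result φ (fun z hz => Subtype.ext ?_) 3 Nat.prime_three ?_
  · by_contra hne
    exact h.conj_ne hY hx z.2 hne ((hφ z).symm.trans (congrArg Subtype.val hz))
  · refine orderOf_eq_prime ?_ fun e => ?_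
    · have : (⟨x, hx⟩ : Subgroup.normalizer (Y : Set G)) ^ 3 = 1 := Subtype.ext (by simpa using h.pow_three)
      rw [show φ ^ 3 = Y.normalizerMonoidHom (⟨x, hx⟩ ^ 3) from (map_pow _ _ _).symm, this, map_one]
    · have h2 := hφ ⟨y, hy⟩
      rw [e] at h2
      exact h.conj_ne hY hx hy (fun e' => hy1 (Subtype.ext e')) h2.symm

theorem SC.card_mod_three : Nat.card Y % 3 = 1 := by
  classical
  haveI := Fintype.ofFinite Y
  haveI : Fact (Nat.Prime 3) := ⟨Nat.prime_three⟩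
  let σ : Equiv.Perm Y :=
    { toFun := fun z => ⟨x * z * x⁻¹, conj_mem_of_mem_normalizer hx z.2⟩
      invFun := fun z => ⟨x⁻¹ * z * x, conj'_mem_of_mem_normalizer hx z.2⟩
      left_inv := fun z => Subtype.ext (show x⁻¹ * (x * (z : G) * x⁻¹) * x = z by group)
      right_inv := fun z => Subtype.ext (show x * (x⁻¹ * (z : G) * x) * x⁻¹ = z by group) }
  have hσ : σ ^ 3 ^ 1 = 1 := by
    ext z
    show x * (x * (x * (z : G) * x⁻¹) * x⁻¹) * x⁻¹ = z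
    calc x * (x * (x * (z : G) * x⁻¹) * x⁻¹) * x⁻¹ = x ^ 3 * z * (x ^ 3)⁻¹ := by
          simp [pow_succ, mul_assoc]
      _ = z := by rw [h.pow_three]; simp
  have hfix : σ.supportᶜ = {1} := by
    ext z
    simp only [Finset.mem_compl, Equiv.Perm.mem_support, not_not, Finset.mem_singleton]
    refine ⟨fun e => Subtype.ext ?_, fun e => ?_⟩
    · by_contra hne
      exact h.conj_ne hY hx z.2 hne (congrArg Subtype.val e)
    · subst e; exact Subtype.ext (show x * (1 : G) * x⁻¹ = 1 by group)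
  have := Equiv.Perm.card_compl_support_modEq hσ
  rw [hfix, Finset.card_singleton, ← Nat.card_eq_fintype_card] at this
  exact this.symm

theorem SC.cube_injective {a b : G} (ha : a ∈ Y) (hb : b ∈ Y) (e : a ^ 3 = b ^ 3) : a = b := by
  have hc : (Nat.card Y).Coprime 3 := ((Nat.prime_three.coprime_iff_not_dvd).2 hY).symm
  exact congrArg Subtype.val ((powCoprime hc).injective (a₁ := ⟨a, ha⟩) (a₂ := ⟨b, hb⟩)
    (Subtype.ext (by simpa using e)))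

/-- The map `y ↦ ˣy · (ˣ²y)⁻¹` squares to `y ↦ y⁻³`. -/
theorem SC.diff_diff (hy : y ∈ Y) :
    x * ((x * y * x⁻¹) * (x⁻¹ * y * x)⁻¹) * x⁻¹ *
      (x⁻¹ * ((x * y * x⁻¹) * (x⁻¹ * y * x)⁻¹) * x)⁻¹ = (y ^ 3)⁻¹ := by
  have c1 := h.commute_self_conj hY hx hy
  have c2 := h.commute_conj hY hx hy
  have t1 := h.triple hY hx hy
  have e1 : x * (x * y * x⁻¹) * x⁻¹ = x⁻¹ * y * x := by
    calc x * (x * y * x⁻¹) * x⁻¹ = (x * x) * y * (x * x)⁻¹ := by group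
      _ = x⁻¹ * y * x := by rw [← h.inv_eq, inv_inv]
  have e2 : x⁻¹ * (x⁻¹ * y * x) * x = x * y * x⁻¹ := by rw [← e1]; group
  have hl : x * ((x * y * x⁻¹) * (x⁻¹ * y * x)⁻¹) * x⁻¹ = (x⁻¹ * y * x) * y⁻¹ := by
    calc _ = (x * (x * y * x⁻¹) * x⁻¹) * (x * (x⁻¹ * y * x) * x⁻¹)⁻¹ := by group
      _ = _ := by rw [e1, show x * (x⁻¹ * y * x) * x⁻¹ = y by group]
  have hr : x⁻¹ * ((x * y * x⁻¹) * (x⁻¹ * y * x)⁻¹) * x = y * (x * y * x⁻¹)⁻¹ := by
    calc _ = (x⁻¹ * (x * y * x⁻¹) * x) * (x⁻¹ * (x⁻¹ * y * x) * x)⁻¹ := by simp [mul_assoc]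
      _ = _ := by rw [e2, show x⁻¹ * (x * y * x⁻¹) * x = y by group]
  rw [hl, hr]
  exact diff_aux c1 t1

section Inverting

variable (hi2 : i * i = 1) (hix : i * x * i⁻¹ = x⁻¹) (hi : i ∈ Subgroup.normalizer (Y : Set G))

include hi2 hix hi

theorem SC.inverted_eq {p : G} (hp : p ∈ Y) (hpi : i * p * i⁻¹ = p⁻¹) :
    (x * p * x⁻¹)⁻¹ * (i * (x * p * x⁻¹) * i⁻¹) = p := by
  have hxi : i * x⁻¹ * i⁻¹ = x := by rw [show i * x⁻¹ * i⁻¹ = (i * x * i⁻¹)⁻¹ by group, hix, inv_inv]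
  have e : i * (x * p * x⁻¹) * i⁻¹ = x⁻¹ * p⁻¹ * x := by
    calc i * (x * p * x⁻¹) * i⁻¹ = (i * x * i⁻¹) * (i * p * i⁻¹) * (i * x⁻¹ * i⁻¹) := by group
      _ = x⁻¹ * p⁻¹ * x := by rw [hix, hpi, hxi]
  rw [e]
  have t := h.triple hY hx (inv_mem hp)
  rw [mul_assoc] at t
  have := eq_inv_of_mul_eq_one_right t
  rw [inv_inv] at this
  calc (x * p * x⁻¹)⁻¹ * (x⁻¹ * p⁻¹ * x) = x * p⁻¹ * x⁻¹ * (x⁻¹ * p⁻¹ * x) := by group
    _ = p := this

/-- `|Y| = |C_Y(i)|²`. -/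
theorem SC.card_eq_sq : Nat.card Y = Nat.card (Y ⊓ Subgroup.centralizer {i} : Subgroup G) ^ 2 := by
  classical
  have hii : i⁻¹ = i := inv_eq_of_mul_eq_one_right hi2
  have hiy : ∀ {u : G}, i * (i * u * i⁻¹) * i⁻¹ = u := fun {u} => by
    calc i * (i * u * i⁻¹) * i⁻¹ = (i * i) * u * (i * i)⁻¹ := by group
      _ = u := by rw [hi2]; simp
  let I := {p : G // p ∈ Y ∧ i * p * i⁻¹ = p⁻¹}
  let C := {c : G // c ∈ Y ∧ i * c * i⁻¹ = c}
  have hC : Nat.card (Y ⊓ Subgroup.centralizer {i} : Subgroup G) = Nat.card C := by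
    refine Nat.card_congr (Equiv.subtypeEquivRight fun c => ?_)
    rw [Subgroup.mem_inf, Subgroup.mem_centralizer_singleton_iff, mul_inv_eq_iff_eq_mul]
    exact and_congr_right fun _ => eq_comm
  -- `Y = C × I`
  let F : C × I → Y := fun z => ⟨z.1.1 * (x * z.2.1 * x⁻¹),
    mul_mem z.1.2.1 (conj_mem_of_mem_normalizer hx z.2.2.1)⟩
  have hF : Function.Bijective F := by
    refine ⟨fun ⟨c, p⟩ ⟨c', p'⟩ e => ?_, fun ⟨w, hw⟩ => ?_⟩
    · have e' : (c : G) * (x * p * x⁻¹) = c' * (x * p' * x⁻¹) := congrArg Subtype.val e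
      have hφ : ∀ (c : C) (p : I), ((c : G) * (x * p * x⁻¹))⁻¹ * (i * ((c : G) * (x * p * x⁻¹)) * i⁻¹) = p := by
        intro c p
        calc _ = (x * (p : G) * x⁻¹)⁻¹ * ((c : G)⁻¹ * (i * c * i⁻¹)) * (i * (x * p * x⁻¹) * i⁻¹) := by group
          _ = (p : G) := by rw [c.2.2, inv_mul_cancel, mul_one, h.inverted_eq hY hx hi2 hix hi p.2.1 p.2.2]
      have hp : (p : G) = p' := by rw [← hφ c p, e', hφ]
      rw [hp] at e'
      exact Prod.ext (Subtype.ext (mul_right_cancel e')) (Subtype.ext hp)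
    · let p : I := ⟨w⁻¹ * (i * w * i⁻¹), mul_mem (inv_mem hw) (conj_mem_of_mem_normalizer hi hw), by
        calc i * (w⁻¹ * (i * w * i⁻¹)) * i⁻¹ = (i * w * i⁻¹)⁻¹ * (i * (i * w * i⁻¹) * i⁻¹) := by group
          _ = (w⁻¹ * (i * w * i⁻¹))⁻¹ := by rw [hiy]; group⟩
      have hp := h.inverted_eq hY hx hi2 hix hi p.2.1 p.2.2
      refine ⟨(⟨w * (x * p * x⁻¹)⁻¹, mul_mem hw (inv_mem (conj_mem_of_mem_normalizer hx p.2.1)), ?_⟩, p),
        Subtype.ext (show w * (x * (p : G) * x⁻¹)⁻¹ * (x * p * x⁻¹) = w by group)⟩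
      have e : i * w * i⁻¹ = w * (p : G) := (mul_inv_cancel_left w _).symm
      have e2 : i * (x * (p : G) * x⁻¹) * i⁻¹ = (x * p * x⁻¹) * p := by
        exact inv_mul_eq_iff_eq_mul.1 hp
      calc i * (w * (x * (p : G) * x⁻¹)⁻¹) * i⁻¹
          = (i * w * i⁻¹) * (i * (x * p * x⁻¹) * i⁻¹)⁻¹ := by group
        _ = w * (x * p * x⁻¹)⁻¹ := by rw [e, e2]; group
  have hxi : i * x⁻¹ * i⁻¹ = x := by rw [show i * x⁻¹ * i⁻¹ = (i * x * i⁻¹)⁻¹ by group, hix, inv_inv]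
  let D : G → G := fun u => (x * u * x⁻¹) * (x⁻¹ * u * x)⁻¹
  have hDmem : ∀ {u}, u ∈ Y → D u ∈ Y := fun hu =>
    mul_mem (conj_mem_of_mem_normalizer hx hu) (inv_mem (conj'_mem_of_mem_normalizer hx hu))
  have hDinj : ∀ {u v}, u ∈ Y → v ∈ Y → D u = D v → u = v := by
    intro u v hu hv e
    have e1 := h.diff_diff hY hx hu
    have e2 := h.diff_diff hY hx hv
    simp only [D] at e
    rw [e] at e1
    exact h.cube_injective hY hx hu hv (inv_injective (e1.symm.trans e2))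
  have hiD : ∀ u, i * D u * i⁻¹ = (x⁻¹ * (i * u * i⁻¹) * x) * (x * (i * u * i⁻¹) * x⁻¹)⁻¹ := fun u => by
    calc i * D u * i⁻¹ = (i * x * i⁻¹) * (i * u * i⁻¹) * (i * x⁻¹ * i⁻¹) *
          ((i * x⁻¹ * i⁻¹) * (i * u * i⁻¹) * (i * x * i⁻¹))⁻¹ := by simp only [D]; group
      _ = _ := by rw [hix, hxi]
  have h1 : Nat.card C ≤ Nat.card I := Nat.card_le_card_of_injective
    (fun c => ⟨D c, hDmem c.2.1, by rw [hiD, c.2.2]; simp [D, mul_assoc]⟩)
    fun a b e => Subtype.ext (hDinj a.2.1 b.2.1 (congrArg Subtype.val e))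
  have h2 : Nat.card I ≤ Nat.card C := Nat.card_le_card_of_injective
    (fun p => ⟨D p, hDmem p.2.1, by
      rw [hiD, p.2.2]
      have := (h.commute_conj hY hx p.2.1).inv_left
      calc (x⁻¹ * (p : G)⁻¹ * x) * (x * (p : G)⁻¹ * x⁻¹)⁻¹ = (x⁻¹ * p * x)⁻¹ * (x * p * x⁻¹) := by group
        _ = D p := ((h.commute_conj hY hx p.2.1).inv_right).eq.symm⟩)
    fun a b e => Subtype.ext (hDinj a.2.1 b.2.1 (congrArg Subtype.val e))
  rw [hC, ← Nat.card_eq_of_bijective F hF, Nat.card_prod, le_antisymm h2 h1, sq]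

end Inverting

end CfsgLib.SelfCentThree
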