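import Mathlib

/-!
A self-centralising element of order three: first properties.
-/

set_option autoImplicit false

namespace CfsgLib.SelfCentThree

variable {G : Type*} [Group G] {x y g : G}

/-- An element of order three whose centraliser is the subgroup it generates. -/
structure SC (x : G) : Prop where
  order : orderOf x = 3
  cent : ∀ g : G, g * x = x * g → g ∈ Subgroup.zpowers x

theorem SC.pow_three (h : SC x) : x ^ 3 = 1 := h.order ▸ pow_orderOf_eq_one x

theorem SC.ne_one (h : SC x) : x ≠ 1 := fun e => by simpa [e] using h.order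

theorem SC.inv_eq (h : SC x) : x⁻¹ = x * x := by
  refine inv_eq_of_mul_eq_one_right ?_
  have := h.pow_three
  rwa [pow_succ, pow_two, mul_assoc] at this

theorem SC.card_zpowers (h : SC x) : Nat.card (Subgroup.zpowers x) = 3 := by
  rw [Nat.card_zpowers, h.order]

theorem SC.mem_zpowers_cases (h : SC x) (hg : g ∈ Subgroup.zpowers x) : g = 1 ∨ g = x ∨ g = x⁻¹ := by
  obtain ⟨k, rfl⟩ := Subgroup.mem_zpowers_iff.1 hg
  rw [← zpow_mod_orderOf, h.order]
  have h0 : 0 ≤ k % (3 : ℤ) := Int.emod_nonneg _ (by norm_num)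
  have h1 : k % (3 : ℤ) < 3 := Int.emod_lt_of_pos _ (by norm_num)
  have : k % (3 : ℤ) = 0 ∨ k % (3 : ℤ) = 1 ∨ k % (3 : ℤ) = 2 := by omega
  rcases this with e | e | e <;> push_cast <;> rw [e]
  · exact Or.inl (zpow_zero x)
  · exact Or.inr (Or.inl (zpow_one x))
  · exact Or.inr (Or.inr (by rw [h.inv_eq]; exact zpow_two x))

theorem SC.inv (h : SC x) : SC x⁻¹ :=
  ⟨by rw [orderOf_inv, h.order], fun g hg => by
    rw [Subgroup.zpowers_inv]
    refine h.cent g ?_
    have := (show Commute g x⁻¹ from hg).inv_right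
    rwa [inv_inv] at this⟩

theorem SC.conj (h : SC x) (c : G) : SC (c * x * c⁻¹) := by
  refine ⟨((MulAut.conj c).orderOf_eq x).trans h.order, fun g hg => ?_⟩
  have h2 : c⁻¹ * g * c ∈ Subgroup.zpowers x := by
    refine h.cent _ ?_
    calc c⁻¹ * g * c * x = c⁻¹ * (g * (c * x * c⁻¹)) * c := by group
      _ = c⁻¹ * ((c * x * c⁻¹) * g) * c := by rw [hg]
      _ = x * (c⁻¹ * g * c) := by group
  obtain ⟨k, hk⟩ := Subgroup.mem_zpowers_iff.1 h2
  exact Subgroup.mem_zpowers_iff.2 ⟨k, by rw [conj_zpow, hk]; group⟩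

/-- Restriction to a subgroup. -/
theorem SC.restrict (h : SC x) {L : Subgroup G} (hx : x ∈ L) : SC (⟨x, hx⟩ : L) := by
  refine ⟨by rw [Subgroup.orderOf_mk, h.order], fun g hg => ?_⟩
  obtain ⟨k, hk⟩ := Subgroup.mem_zpowers_iff.1 (h.cent g (congrArg Subtype.val hg))
  exact Subgroup.mem_zpowers_iff.2 ⟨k, Subtype.ext (by simpa using hk)⟩

section Finite

variable [Finite G]

theorem SC.card_sylow (h : SC x) (P : Sylow 3 G) (hP : x ∈ (P : Subgroup G)) :
    (P : Subgroup G) = Subgroup.zpowers x := by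
  haveI : Fact (Nat.Prime 3) := ⟨Nat.prime_three⟩
  refine le_antisymm (fun g hg => ?_) (Subgroup.zpowers_le.2 hP)
  haveI : Nontrivial (P : Subgroup G) := ⟨⟨⟨x, hP⟩, 1, fun e => h.ne_one (congrArg Subtype.val e)⟩⟩
  haveI := P.isPGroup'.center_nontrivial
  obtain ⟨z, hz⟩ := exists_ne (1 : Subgroup.center (P : Subgroup G))
  have hzc : ∀ p ∈ (P : Subgroup G), ((z : (P : Subgroup G)) : G) * p = p * ((z : (P : Subgroup G)) : G) :=
    fun p hp => (congrArg Subtype.val (Subgroup.mem_center_iff.1 z.2 ⟨p, hp⟩)).symm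
  have hz1 : ((z : (P : Subgroup G)) : G) ≠ 1 := fun e => hz (Subtype.ext (Subtype.ext e))
  have hzx := h.mem_zpowers_cases (h.cent _ (hzc x hP))
  refine h.cent g ?_
  rcases hzx with e | e | e
  · exact absurd e hz1
  · have := hzc g hg; rw [e] at this; exact this.symm
  · have := hzc g hg; rw [e] at this
    have h' : Commute x⁻¹ g := this
    simpa using (h'.inv_left).symm.eq

theorem SC.exists_sylow (h : SC x) : ∃ P : Sylow 3 G, (P : Subgroup G) = Subgroup.zpowers x := by
  haveI : Fact (Nat.Prime 3) := ⟨Nat.prime_three⟩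
  obtain ⟨P, hP⟩ := (IsPGroup.of_card (n := 1) (by rw [h.card_zpowers, pow_one]) :
    IsPGroup 3 (Subgroup.zpowers x)).exists_le_sylow
  exact ⟨P, h.card_sylow P (hP (Subgroup.mem_zpowers x))⟩

/-- Any element of order divisible by three has order three and is self-centralising. -/
theorem SC.sc_of_dvd (h : SC x) (hy : 3 ∣ orderOf y) : SC y := by
  haveI : Fact (Nat.Prime 3) := ⟨Nat.prime_three⟩
  have key : ∀ w : G, orderOf w = 3 → SC w := by
    intro w hw
    obtain ⟨P, hP⟩ := h.exists_sylow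
    obtain ⟨Q, hQ⟩ := (IsPGroup.of_card (n := 1) (by rw [Nat.card_zpowers, hw, pow_one]) :
      IsPGroup 3 (Subgroup.zpowers w)).exists_le_sylow
    obtain ⟨c, hc⟩ := MulAction.exists_smul_eq G P Q
    have hm := hQ (Subgroup.mem_zpowers w)
    rw [← hc, Sylow.coe_subgroup_smul, hP] at hm
    obtain ⟨v, hv, hvw⟩ := hm
    have hv1 : v ≠ 1 := fun e => by subst e; simp at hvw; simp [← hvw] at hw
    rcases h.mem_zpowers_cases hv with e | e | e
    · exact absurd e hv1
    · rw [← hvw, e]; exact h.conj c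
    · rw [← hvw, e]; exact h.inv.conj c
  obtain ⟨m, hm⟩ := hy
  have hm0 : m ≠ 0 := fun e => (orderOf_pos y).ne' (by rw [hm, e, mul_zero])
  have hw : orderOf (y ^ m) = 3 := by
    rw [orderOf_pow' y hm0, hm, Nat.gcd_eq_right (dvd_mul_left m 3), Nat.mul_div_cancel _ (Nat.pos_of_ne_zero hm0)]
  have hy' := (key _ hw).cent y (Commute.self_pow y m).eq
  have hd : orderOf y ∣ 3 := by
    rw [← Nat.card_zpowers y, ← (key _ hw).card_zpowers]
    exact Subgroup.card_dvd_of_le (Subgroup.zpowers_le.2 hy')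
  refine key y (Nat.dvd_antisymm hd ?_)
  rw [hm]; exact dvd_mul_right 3 m

theorem SC.card_eq (h : SC x) : ∃ m, Nat.card G = 3 * m ∧ ¬ 3 ∣ m := by
  haveI : Fact (Nat.Prime 3) := ⟨Nat.prime_three⟩
  obtain ⟨P, hP⟩ := h.exists_sylow
  refine ⟨(P : Subgroup G).index, ?_, P.not_dvd_index⟩
  rw [← Subgroup.card_mul_index (P : Subgroup G), hP, h.card_zpowers]

/-- If the image of an element has order three, so has the element. -/
theorem SC.sc_of_image (h : SC x) {L : Subgroup G} {K : Type*} [Group K] (f : L →* K) {a : L}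
    (ha : orderOf (f a) = 3) : SC (a : G) := by
  refine h.sc_of_dvd ?_
  rw [Subgroup.orderOf_coe, ← ha]
  exact orderOf_map_dvd f a

/-- An element of order three fixes nothing in a subgroup of order prime to three. -/
theorem SC.fpf (h : SC x) {Y : Subgroup G} (hY : ¬ 3 ∣ Nat.card Y) (hy : y ∈ Y) (hc : y * x = x * y) :
    y = 1 := by
  have h3 : orderOf y ∣ 3 := by
    rw [← h.card_zpowers, ← Nat.card_zpowers]
    exact Subgroup.card_dvd_of_le (Subgroup.zpowers_le.2 (h.cent y hc))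
  rcases (Nat.dvd_prime Nat.prime_three).1 h3 with e | e
  · exact orderOf_eq_one_iff.1 e
  · exact absurd (e ▸ Subgroup.orderOf_dvd_natCard Y hy) hY

/-- The identity behind everything: `y · ˣy · ˣ²y = 1`. -/
theorem SC.triple (h : SC x) {Y : Subgroup G} (hY : ¬ 3 ∣ Nat.card Y)
    (hx : x ∈ Subgroup.normalizer (Y : Set G)) (hy : y ∈ Y) :
    y * (x * y * x⁻¹) * (x⁻¹ * y * x) = 1 := by
  classical
  have hyn : y ∈ Subgroup.normalizer (Y : Set G) := Subgroup.le_normalizer hy
  set N := Subgroup.normalizer (Y : Set G)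
  set f := QuotientGroup.mk' (Y.subgroupOf N)
  have hfy : f ⟨y, hyn⟩ = 1 := (QuotientGroup.eq_one_iff (⟨y, hyn⟩ : N)).2 (Subgroup.mem_subgroupOf.2 hy)
  have hfx : orderOf (f ⟨x, hx⟩) = 3 := by
    have hp : (⟨x, hx⟩ : N) ^ 3 = 1 := Subtype.ext (by simpa using h.pow_three)
    refine orderOf_eq_prime (by rw [← map_pow, hp, map_one]) ?_
    intro e
    have hxY : (⟨x, hx⟩ : N) ∈ Y.subgroupOf N := (QuotientGroup.eq_one_iff (⟨x, hx⟩ : N)).1 e
    exact hY (h.order ▸ Subgroup.orderOf_dvd_natCard Y (Subgroup.mem_subgroupOf.1 hxY))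
  have := (h.sc_of_image f (a := ⟨y * x, mul_mem hyn hx⟩) (by
    rw [show (⟨y * x, mul_mem hyn hx⟩ : N) = ⟨y, hyn⟩ * ⟨x, hx⟩ from rfl, map_mul, hfy, one_mul, hfx])).pow_three
  have hx3 := h.inv_eq
  calc y * (x * y * x⁻¹) * (x⁻¹ * y * x) = y * x * y * (x⁻¹ * x⁻¹) * y * x := by group
    _ = y * x * y * x * y * x := by
      rw [show x⁻¹ * x⁻¹ = x by rw [hx3]; calc x * x * (x * x) = x ^ 3 * x := by simp [pow_succ, mul_assoc]
                                                   _ = x := by rw [h.pow_three, one_mul]]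
    _ = (y * x) ^ 3 := by rw [pow_succ, pow_two]; group
    _ = 1 := this

end Finite

end CfsgLib.SelfCentThree
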