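import Cfsg.Agent.Lib.SelfCentThree.Sizes

/-!
Sums over the maximal invariant subgroups.
-/

set_option autoImplicit false
set_option maxHeartbeats 400000

namespace CfsgLib.SelfCentThree

variable {G : Type*} [Group G] [Finite G] {x i : G} {H : Subgroup G}

/-- The hypotheses on the counterexample. -/
structure Setup (x i : G) : Prop where
  sc : SC x
  inv : i * x * i⁻¹ = x⁻¹
  loc : LocI x
  conj : ∀ u v : G, orderOf u = 2 → orderOf v = 2 → IsConj u v

section

open Classical in
/-- Even, not normalised by `i`. -/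
noncomputable def evA (x i : G) : Finset (Subgroup G) :=
  (hs x).filter fun H => 2 ∣ Nat.card H ∧ i ∉ Subgroup.normalizer (H : Set G)

open Classical in
/-- Even, normalised by `i`. -/
noncomputable def evB (x i : G) : Finset (Subgroup G) :=
  (hs x).filter fun H => 2 ∣ Nat.card H ∧ i ∈ Subgroup.normalizer (H : Set G)

open Classical in
/-- Of odd order. -/
noncomputable def od (x : G) : Finset (Subgroup G) :=
  (hs x).filter fun H => ¬ 2 ∣ Nat.card H

theorem mem_evA : H ∈ evA x i ↔ H ∈ hs x ∧ 2 ∣ Nat.card H ∧ i ∉ Subgroup.normalizer (H : Set G) := by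
  simp [evA]

theorem mem_evB : H ∈ evB x i ↔ H ∈ hs x ∧ 2 ∣ Nat.card H ∧ i ∈ Subgroup.normalizer (H : Set G) := by
  simp [evB]

theorem mem_od : H ∈ od x ↔ H ∈ hs x ∧ ¬ 2 ∣ Nat.card H := by simp [od]

theorem sum_split (x i : G) (f : Subgroup G → ℕ) :
    ∑ H ∈ hs x, f H = ∑ H ∈ evA x i, f H + ∑ H ∈ evB x i, f H + ∑ H ∈ od x, f H := by
  classical
  rw [evA, evB, od, Finset.sum_filter, Finset.sum_filter, Finset.sum_filter, ← Finset.sum_add_distrib,
    ← Finset.sum_add_distrib]
  refine Finset.sum_congr rfl fun H _ => ?_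
  by_cases h2 : 2 ∣ Nat.card H <;> by_cases hn : i ∈ Subgroup.normalizer (H : Set G) <;> simp [h2, hn]

end

variable (S : Setup x i)

include S

theorem Setup.card_evA_le : (evA x i).card ≤ 2 := by
  classical
  haveI : Fact (Nat.Prime 2) := ⟨Nat.prime_two⟩
  rcases (evA x i).eq_empty_or_nonempty with e | ⟨H₁, h₁⟩
  · simp [e]
  · refine (Finset.card_le_card (t := {H₁, cj i H₁}) fun H hH => ?_).trans Finset.card_le_two
    obtain ⟨m1, p1, n1⟩ := mem_evA.1 h₁
    obtain ⟨m2, p2, n2⟩ := mem_evA.1 hH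
    rcases S.loc.related_of_prime S.sc S.inv (mem_hs.1 m1).1 (mem_hs.1 m2).1 p1 p2 (Or.inr n1) (Or.inr n2) with e | e <;>
      simp [e]

theorem Setup.sum_evA : ∑ H ∈ evA x i, (Nat.card H - 1) ≤
    2 * Nat.card (Subgroup.centralizer ({i} : Set G)) := by
  refine (Finset.sum_le_card_nsmul _ _ (Nat.card (Subgroup.centralizer ({i} : Set G))) fun H hH => ?_).trans ?_
  · obtain ⟨m1, p1, -⟩ := mem_evA.1 hH
    exact (Nat.sub_le _ _).trans (Nat.le_of_dvd Nat.card_pos
      (card_dvd_centralizer S.sc (mem_hs.1 m1).1.1 S.conj (S.sc.orderOf_inverter S.inv) p1))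
  · rw [smul_eq_mul]; exact Nat.mul_le_mul_right _ S.card_evA_le

theorem Setup.two_pow_mod {H : Subgroup G} (hH : Inv3 x H) :
    2 ^ (Nat.card H).factorization 2 % 3 = 1 := by
  haveI : Fact (Nat.Prime 2) := ⟨Nat.prime_two⟩
  obtain ⟨P, hP, hc, -, hn⟩ := exists_part S.sc hH 2
  have hPi := hH.of_le hP (hn hH.2)
  rw [← hc]
  exact S.sc.card_mod_three hPi.1 hPi.2

theorem Setup.evA_two_part (hH : H ∈ evA x i) :
    (Nat.card G).factorization 2 = (Nat.card H).factorization 2 := by
  haveI : Fact (Nat.Prime 2) := ⟨Nat.prime_two⟩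
  obtain ⟨m1, p1, n1⟩ := mem_evA.1 hH
  have h1 := S.loc.part_not_dvd S.sc S.inv (mem_hs.1 m1).1 p1 (Or.inr n1)
  rw [Nat.prime_two.pow_dvd_iff_le_factorization Nat.card_pos.ne', not_le] at h1
  exact le_antisymm (Nat.lt_succ_iff.1 h1)
    ((Nat.factorization_le_iff_dvd Nat.card_pos.ne' Nat.card_pos.ne').2 (Subgroup.card_subgroup_dvd_card H) 2)

theorem Setup.evA_mod (hH : H ∈ evA x i) : 2 ^ (Nat.card G).factorization 2 % 3 = 1 := by
  rw [S.evA_two_part hH]
  exact S.two_pow_mod (mem_hs.1 (mem_evA.1 hH).1).1.1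

theorem Setup.evB_two_part (hH : H ∈ evB x i) :
    2 ≤ (Nat.card H).factorization 2 ∧
      (Nat.card H).factorization 2 + 1 ≤ (Nat.card G).factorization 2 := by
  haveI : Fact (Nat.Prime 2) := ⟨Nat.prime_two⟩
  obtain ⟨m1, p1, n1⟩ := mem_evB.1 hH
  obtain ⟨hm, -⟩ := mem_hs.1 m1
  have hmod := S.two_pow_mod hm.1
  have hpos := Nat.prime_two.factorization_pos_of_dvd Nat.card_pos.ne' p1
  refine ⟨?_, ?_⟩
  · by_contra hlt
    rw [show (Nat.card H).factorization 2 = 1 by omega] at hmod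
    norm_num at hmod
  · rw [← Nat.prime_two.pow_dvd_iff_le_factorization Nat.card_pos.ne', pow_succ']
    refine (Nat.mul_dvd_mul_left 2 (Nat.ordProj_dvd (Nat.card H) 2)).trans ?_
    exact (two_mul_card_dvd_centralizer S.sc hm.1 S.conj S.inv n1 p1).trans (Subgroup.card_subgroup_dvd_card _)

theorem Setup.sum_evB : ∃ K : ℕ, 0 < K ∧ 2 * K ^ 2 ∣ Nat.card (Subgroup.centralizer ({i} : Set G)) ∧
    ∑ H ∈ evB x i, (Nat.card H - 1) ≤ (Nat.card (Subgroup.centralizer ({i} : Set G)) - 1) * (K + 1) := by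
  classical
  haveI := Fintype.ofFinite G
  set C := Subgroup.centralizer ({i} : Set G)
  let k : Subgroup G → ℕ := fun H => Nat.card (H ⊓ C : Subgroup G)
  have hsq : ∀ H ∈ evB x i, Nat.card H = k H ^ 2 := fun H hH => by
    obtain ⟨m1, -, n1⟩ := mem_evB.1 hH
    obtain ⟨hm, -⟩ := mem_hs.1 m1
    exact S.sc.card_eq_sq hm.1.1 hm.1.2 (S.sc.inverter_sq S.inv) S.inv n1
  rcases (evB x i).eq_empty_or_nonempty with e | hne
  · refine ⟨1, one_pos, ?_, by simp [e]⟩
    have hiC : i ∈ C := Subgroup.mem_centralizer_singleton_iff.2 rfl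
    simpa [← S.sc.orderOf_inverter S.inv] using Subgroup.orderOf_dvd_natCard C hiC
  obtain ⟨H₀, h₀, hmax⟩ := Finset.exists_max_image _ k hne
  refine ⟨k H₀, Nat.card_pos, ?_, ?_⟩
  · rw [← hsq H₀ h₀]
    obtain ⟨m1, p1, n1⟩ := mem_evB.1 h₀
    exact two_mul_card_dvd_centralizer S.sc (mem_hs.1 m1).1.1 S.conj S.inv n1 p1
  calc ∑ H ∈ evB x i, (Nat.card H - 1) ≤ ∑ H ∈ evB x i, (k H - 1) * (k H₀ + 1) := by
        refine Finset.sum_le_sum fun H hH => ?_
        have hk : 0 < k H := Nat.card_pos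
        rw [hsq H hH]
        calc k H ^ 2 - 1 = (k H - 1) * (k H + 1) := by
              rw [mul_comm, ← Nat.sq_sub_sq, one_pow]
          _ ≤ _ := Nat.mul_le_mul_left _ (Nat.add_le_add_right (hmax H hH) 1)
    _ = (∑ H ∈ evB x i, (k H - 1)) * (k H₀ + 1) := (Finset.sum_mul ..).symm
    _ ≤ _ := by
        refine Nat.mul_le_mul_right _ ?_
        have hc : ∀ A : Subgroup G, ((Finset.univ.filter fun a : G => a ∈ A).erase 1).card = Nat.card A - 1 :=
          fun A => by
            rw [Finset.card_erase_of_mem (by simp [A.one_mem]), ← Fintype.card_subtype, ← Nat.card_eq_fintype_card]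
        rw [← hc C]
        simp only [k, ← hc]
        rw [← Finset.card_biUnion]
        · refine Finset.card_le_card fun a ha => ?_
          simp only [Finset.mem_biUnion, Finset.mem_erase, Finset.mem_filter, Finset.mem_univ, true_and] at ha ⊢
          obtain ⟨H, -, ha1, ha2⟩ := ha
          exact ⟨ha1, (Subgroup.mem_inf.1 ha2).2⟩
        · intro A hA B hB hAB
          rw [Function.onFun, Finset.disjoint_left]
          intro a ha hb
          simp only [Finset.mem_erase, Finset.mem_filter, Finset.mem_univ, true_and] at ha hb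
          have := S.loc.disjoint S.sc (mem_hs.1 (mem_evB.1 hA).1).1 (mem_hs.1 (mem_evB.1 hB).1).1 hAB
          exact ha.1 (Subgroup.mem_bot.1 (this ▸ ⟨ha.2.1, hb.2.1⟩))

theorem Setup.od_spec {A B : Subgroup G} (hA : A ∈ od x) (hB : B ∈ od x) :
    (Nat.card A).Coprime (Nat.card B) ∨ B = A ∨ B = cj i A := by
  by_cases hcop : (Nat.card A).Coprime (Nat.card B)
  · exact Or.inl hcop
  right
  obtain ⟨p, hp, hpA, hpB⟩ := Nat.Prime.not_coprime_iff_dvd.1 hcop
  haveI := Fact.mk hp
  have hp2 : p ≠ 2 := fun e => (mem_od.1 hA).2 (e ▸ hpA)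
  exact S.loc.related_of_prime S.sc S.inv (mem_hs.1 (mem_od.1 hA).1).1 (mem_hs.1 (mem_od.1 hB).1).1 hpA hpB
    (Or.inl hp2) (Or.inl hp2)

theorem Setup.od_card (hA : H ∈ od x) : 7 ≤ Nat.card H ∧ ¬ 3 ∣ Nat.card H ∧ ¬ 2 ∣ Nat.card H := by
  obtain ⟨m, h2⟩ := mem_od.1 hA
  obtain ⟨hm, hne⟩ := mem_hs.1 m
  have h1 := S.sc.card_mod_three hm.1.1 hm.1.2
  have : 1 < Nat.card H := (Subgroup.one_lt_card_iff_ne_bot H).2 hne
  exact ⟨by omega, hm.1.1, h2⟩

omit S in
omit [Group G] [Finite G] in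
theorem prod_of_coprime (R : Finset ℕ) (h7 : ∀ o ∈ R, 7 ≤ o)
    (hcop : ∀ a ∈ R, ∀ b ∈ R, a ≠ b → a.Coprime b) (M : ℕ) (hM : 0 < M) (hd : ∀ o ∈ R, o ∣ M) :
    (∏ o ∈ R, o) ∣ M ∧ (R = ∅ ∨ (∃ o, R = {o}) ∨ 7 * ∑ o ∈ R, o ≤ 2 * ∏ o ∈ R, o) := by
  classical
  induction R using Finset.induction with
  | empty => simp
  | insert a s ha ih =>
    obtain ⟨hdiv, hcase⟩ := ih (fun o ho => h7 o (Finset.mem_insert_of_mem ho))
      (fun p hp q hq => hcop p (Finset.mem_insert_of_mem hp) q (Finset.mem_insert_of_mem hq))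
      (fun o ho => hd o (Finset.mem_insert_of_mem ho))
    have hc : a.Coprime (∏ o ∈ s, o) := Nat.Coprime.prod_right fun o ho =>
      hcop a (Finset.mem_insert_self a s) o (Finset.mem_insert_of_mem ho) fun e => ha (e ▸ ho)
    refine ⟨by rw [Finset.prod_insert ha]; exact hc.mul_dvd_of_dvd_of_dvd (hd a (Finset.mem_insert_self a s)) hdiv, ?_⟩
    have h7a := h7 a (Finset.mem_insert_self a s)
    rcases hcase with e | ⟨o, e⟩ | e
    · subst e; exact Or.inr (Or.inl ⟨a, rfl⟩)
    · subst e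
      have h7o := h7 o (Finset.mem_insert_of_mem (Finset.mem_singleton_self o))
      refine Or.inr (Or.inr ?_)
      rw [Finset.sum_insert ha, Finset.prod_insert ha, Finset.sum_singleton, Finset.prod_singleton]
      nlinarith
    · rcases s.eq_empty_or_nonempty with rfl | ⟨o, ho⟩
      · exact Or.inr (Or.inl ⟨a, rfl⟩)
      refine Or.inr (Or.inr ?_)
      rw [Finset.sum_insert ha, Finset.prod_insert ha]
      have hs1 : 1 ≤ ∏ o ∈ s, o :=
        Finset.one_le_prod' fun o ho => le_trans (by norm_num) (h7 o (Finset.mem_insert_of_mem ho))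
      have h7s : 7 ≤ ∏ o ∈ s, o :=
        (h7 o (Finset.mem_insert_of_mem ho)).trans (Nat.le_of_dvd (by omega) (Finset.dvd_prod_of_mem _ ho))
      nlinarith

theorem Setup.sum_od {t M : ℕ} (hG : Nat.card G = 3 * t * M) (ht2 : t ∣ 2 ^ Nat.card G) :
    ∑ H ∈ od x, Nat.card H ≤ 2 * M ∧
      (t = 4 → 2 ∣ t → ¬ 2 ∣ M → ¬ 3 ∣ M → IsSimpleGroup G → 7 * ∑ H ∈ od x, Nat.card H ≤ 4 * M) := by
  classical
  set R := (od x).image (fun H : Subgroup G => Nat.card H) with hR
  have hMpos : 0 < M := Nat.pos_of_ne_zero fun e => Nat.card_pos.ne' (show Nat.card G = 0 by rw [hG, e, mul_zero])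
  have h7 : ∀ o ∈ R, 7 ≤ o := fun o ho => by
    obtain ⟨H, hH, rfl⟩ := Finset.mem_image.1 ho; exact (S.od_card hH).1
  have hd : ∀ o ∈ R, o ∣ M := fun o ho => by
    obtain ⟨H, hH, rfl⟩ := Finset.mem_image.1 ho
    obtain ⟨-, h3, h2⟩ := S.od_card hH
    have hc : (Nat.card H).Coprime (3 * t) := Nat.Coprime.mul_right (coprime_of_not_three h3)
      (Nat.Coprime.coprime_dvd_right ht2 (Nat.Coprime.pow_right _ ((Nat.prime_two.coprime_iff_not_dvd).2 h2).symm))
    exact hc.dvd_of_dvd_mul_left (hG ▸ Subgroup.card_subgroup_dvd_card H)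
  have hcop : ∀ a ∈ R, ∀ b ∈ R, a ≠ b → a.Coprime b := fun a ha b hb hab => by
    obtain ⟨A, hA, rfl⟩ := Finset.mem_image.1 ha
    obtain ⟨B, hB, rfl⟩ := Finset.mem_image.1 hb
    rcases S.od_spec hA hB with e | e | e
    · exact e
    · exact absurd (congrArg (fun K : Subgroup G => Nat.card K) e).symm hab
    · exact absurd (by rw [e, card_cj]) hab
  obtain ⟨hdiv, hcase⟩ := prod_of_coprime R h7 hcop M hMpos hd
  have hsum : ∑ H ∈ od x, Nat.card H ≤ 2 * ∑ o ∈ R, o := by
    rw [Finset.mul_sum, ← Finset.sum_fiberwise_of_maps_to (t := R) (g := fun H : Subgroup G => Nat.card H)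
      (fun H hH => Finset.mem_image_of_mem _ hH)]
    refine Finset.sum_le_sum fun o ho => ?_
    rw [Finset.sum_congr rfl (g := fun _ => o) (fun H hH => (Finset.mem_filter.1 hH).2), Finset.sum_const,
      smul_eq_mul]
    refine Nat.mul_le_mul_right _ ?_
    obtain ⟨A, hA, rfl⟩ := Finset.mem_image.1 ho
    refine (Finset.card_le_card (t := {A, cj i A}) fun B hB => ?_).trans Finset.card_le_two
    obtain ⟨hB1, hB2⟩ := Finset.mem_filter.1 hB
    rcases S.od_spec hA hB1 with e | e | e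
    · exfalso
      rw [hB2] at e
      have := (S.od_card hA).1
      rw [Nat.coprime_self] at e
      omega
    · simp [e]
    · simp [e]
  have hpM := Nat.le_of_dvd hMpos hdiv
  constructor
  · rcases hcase with e | ⟨o, e⟩ | e
    · rw [e, Finset.sum_empty] at hsum; omega
    · rw [e] at hsum hpM; simp only [Finset.sum_singleton, Finset.prod_singleton] at hsum hpM; omega
    · omega
  · intro ht _ hM2 hM3 hsimp
    rcases hcase with e | ⟨o, e⟩ | e
    · rw [e, Finset.sum_empty] at hsum; omega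
    · rw [e] at hsum; simp only [Finset.sum_singleton] at hsum
      have hoR : o ∈ R := by rw [e]; exact Finset.mem_singleton_self o
      obtain ⟨j, hj⟩ := hd o hoR
      have hj2 : ¬ 2 ∣ j := fun e => hM2 (hj ▸ e.mul_left o)
      have hj3 : ¬ 3 ∣ j := fun e => hM3 (hj ▸ e.mul_left o)
      by_cases hj1 : j = 1
      · exfalso
        obtain ⟨H, hH, hHc⟩ := Finset.mem_image.1 hoR
        obtain ⟨hm, hne⟩ := mem_hs.1 (mem_od.1 hH).1
        set L := Subgroup.normalizer (H : Set G)
        have hLtop : L ≠ ⊤ := fun htop => by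
          haveI : H.Normal := Subgroup.normalizer_eq_top_iff.1 htop
          rcases Subgroup.Normal.eq_bot_or_eq_top ‹H.Normal› with e' | e'
          · exact hne e'
          · exact hm.1.1 (e' ▸ (S.sc.order ▸ Subgroup.orderOf_dvd_natCard ⊤ (Subgroup.mem_top x)))
        have h3 : 3 * Nat.card H ≤ Nat.card L := by
          rcases (S.loc.normalizer_spec S.sc hm hne hm.1 le_rfl Subgroup.le_normalizer).2 with e' | e' <;>
            rw [e'] <;> omega
        have hidx : L.index ≤ 4 := by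
          have := Subgroup.card_mul_index L
          rw [hG, ht, hj, hj1, ← hHc] at this
          have hH7 := (S.od_card hH).1
          by_contra h5
          push Not at h5
          nlinarith [Nat.mul_le_mul h3 h5]
        let f : G →* Equiv.Perm (G ⧸ L) := MulAction.toPermHom G (G ⧸ L)
        have hf : Function.Injective f := by
          rw [← MonoidHom.ker_eq_bot_iff, ← Subgroup.normalCore_eq_ker]
          haveI := Subgroup.normalCore_normal L
          rcases Subgroup.Normal.eq_bot_or_eq_top (Subgroup.normalCore_normal L) with e' | e'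
          · exact e'
          · exact absurd (top_le_iff.1 (e' ▸ Subgroup.normalCore_le L)) hLtop
        have h24 := Nat.card_le_card_of_injective f hf
        rw [Nat.card_perm, ← Subgroup.index_eq_card] at h24
        have := h24.trans (Nat.factorial_le hidx)
        rw [hG, ht, hj, hj1, ← hHc] at this
        have hH7 := (S.od_card hH).1
        norm_num [Nat.factorial] at this
        omega
      · have hj5 : 5 ≤ j := by
          rcases Nat.lt_or_ge j 5 with hlt | hge
          · interval_cases j <;> first | omega | simp_all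
          · exact hge
        calc 7 * ∑ H ∈ od x, Nat.card H ≤ 7 * (2 * o) := Nat.mul_le_mul_left _ hsum
          _ ≤ 4 * M := by rw [hj]; nlinarith
    · omega

end CfsgLib.SelfCentThree
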