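import Cfsg.Agent.Lib.SelfCentThree.Structure
import Cfsg.Agent.Lib.CharDeep.ClassSum
import Cfsg.Agent.Lib.DihedralEight.Order
import Cfsg.Agent.Lib.Char.Linear
import Cfsg.Agent.Lib.Char.Conj

/-!
The two numerical consequences of character theory.
-/

set_option autoImplicit false
set_option maxHeartbeats 400000

open scoped ComplexConjugate

namespace CfsgLib.SelfCentThree

variable {G : Type*} [Group G] [Finite G] {x i : G}

/-- A sum of cube roots of unity which is real is an integer. -/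
theorem exists_int_of_cube_roots (s : Multiset ℂ) (hs : ∀ z ∈ s, z ^ 3 = 1) (hr : (s.sum).im = 0) :
    ∃ m : ℤ, s.sum = m := by
  set ω : ℂ := Complex.exp (2 * Real.pi * Complex.I / (3 : ℕ))
  have hω : IsPrimitiveRoot ω 3 := Complex.isPrimitiveRoot_exp 3 (by norm_num)
  have h2 : ω ^ 2 = -1 - ω := by
    have := hω.geom_sum_eq_zero (by norm_num : 1 < 3)
    simp [Finset.sum_range_succ] at this
    linear_combination this
  have key : ∃ a b : ℤ, s.sum = a + b * ω := by
    clear hr
    induction s using Multiset.induction_on with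
    | empty => exact ⟨0, 0, by simp⟩
    | cons z s ih =>
      obtain ⟨a, b, hab⟩ := ih fun w hw => hs w (Multiset.mem_cons_of_mem hw)
      obtain ⟨k, hk, rfl⟩ := hω.eq_pow_of_pow_eq_one (hs z (Multiset.mem_cons_self z s))
      rw [Multiset.sum_cons, hab]
      interval_cases k
      · exact ⟨a + 1, b, by push_cast; ring⟩
      · exact ⟨a, b + 1, by push_cast; ring⟩
      · exact ⟨a - 1, b - 1, by push_cast; rw [h2]; ring⟩
  obtain ⟨a, b, hab⟩ := key
  have him : ω.im ≠ 0 := by
    intro h0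
    have hre : ω = (ω.re : ℂ) := Complex.ext (by simp) (by simp [h0])
    have h3 := hω.pow_eq_one
    have hne := hω.ne_one (by norm_num)
    rw [hre] at h3 hne
    norm_cast at h3 hne
    exact hne ((pow_eq_one_iff_of_ne_zero (by norm_num : 3 ≠ 0)).1 h3 |>.resolve_right fun h => by
      have := h.2; revert this; decide)
  refine ⟨a, ?_⟩
  rw [hab] at hr
  simp at hr
  rcases hr with h | h
  · rw [hab, h]; simp
  · exact absurd h him

theorem SC.exists_int_value (h : SC x) (hi : i * x * i⁻¹ = x⁻¹) {χ : G → ℂ}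
    (hχ : Cfsg.IsIrrCharacter G χ) : ∃ m : ℤ, χ x = m := by
  have hreal : conj (χ x) = χ x := by
    rw [← Char.IsCharacter.apply_inv (Char.IsIrrCharacter.isCharacter hχ)]
    exact Char.IsClassFunction.eq_of_isConj (Char.IsIrrCharacter.isClassFunction hχ)
      (isConj_iff.2 ⟨i, hi⟩).symm
  obtain ⟨d, ρ, -, rfl⟩ := hχ
  obtain ⟨s, -, hsum, -, hroot⟩ := Char.exists_eigen_multiset ρ x
  rw [hsum] at hreal ⊢
  exact exists_int_of_cube_roots s (fun z hz => h.order ▸ hroot z hz) (Complex.conj_eq_iff_im.1 hreal)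

theorem abs_int_le_degree {χ : G → ℂ} (hχ : Cfsg.IsIrrCharacter G χ) {g : G} {m : ℤ} (hm : χ g = m)
    {d : ℕ} (hd : χ 1 = d) : |m| ≤ d := by
  obtain ⟨n, ρ, -, rfl⟩ := hχ
  obtain ⟨μ, -, hμ, -, hk⟩ := Char.exists_eigenvalues ρ g
  have h1 := hk 1
  rw [pow_one, hm] at h1
  simp only [pow_one] at h1
  have hn : (Module.finrank ℂ (Fin n → ℂ) : ℂ) = d := by rw [← hd, Representation.char_one]
  have hn' : Module.finrank ℂ (Fin n → ℂ) = d := by exact_mod_cast hn
  have : ‖(m : ℂ)‖ ≤ (d : ℝ) := by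
    rw [h1]
    refine (norm_sum_le _ _).trans_eq ?_
    simp [hμ, ← hn']
  rw [Complex.norm_intCast] at this
  exact_mod_cast this

/-- An irreducible character of a simple group attaining its degree off the identity is principal. -/
theorem eq_principal_of_apply_eq_degree [IsSimpleGroup G] (χ : Cfsg.IrrCharacter G) {g : G} (hg : g ≠ 1)
    (he : (χ : G → ℂ) g = (χ : G → ℂ) 1) : χ = Char.principalIrr := by
  cases nonempty_fintype G
  classical
  obtain ⟨_, n, ρ, hρ, rfl⟩ := χ
  have hk : ρ.ker = ⊤ := by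
    refine (MonoidHom.normal_ker ρ).eq_bot_or_eq_top.resolve_left fun e => hg ?_
    have h1 : ρ g = LinearMap.id := (Char.character_eq_degree_iff ρ g).1 (he.trans ρ.char_one)
    rw [← Subgroup.mem_bot, ← e]
    exact MonoidHom.mem_ker.2 h1
  have hconst : ∀ a : G, ρ.character a = ρ.character 1 := fun a => by
    have : ρ a = 1 := MonoidHom.mem_ker.1 (hk ▸ Subgroup.mem_top a)
    simp only [Representation.character, this, map_one]
  refine Subtype.ext (Char.eq_of_classInner_ne_zero ⟨n, ρ, hρ, rfl⟩ Char.principalIrr.2 ?_)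
  simp only [Cfsg.classInner, Char.principalIrr_apply, map_one, mul_one, hconst, Finset.sum_const,
    Finset.card_univ, nsmul_eq_mul]
  refine mul_ne_zero (inv_ne_zero (Nat.cast_ne_zero.2 Nat.card_pos.ne')) (mul_ne_zero ?_ ?_)
  · exact Nat.cast_ne_zero.2 Fintype.card_ne_zero
  · exact Char.IsIrrCharacter.apply_one_ne_zero (⟨n, ρ, hρ, rfl⟩ : Cfsg.IsIrrCharacter G ρ.character)

/-- The inverting elements are conjugate. -/
theorem SC.inverters_conj (h : SC x) (hi : i * x * i⁻¹ = x⁻¹) {w : G} (hw : w * x * w⁻¹ = x⁻¹) :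
    IsConj i w := by
  have hk := h.inverts_mul hi hw
  have hxi : i * x⁻¹ = x * i := by
    have := congrArg (fun u => u⁻¹) hi
    simp only [mul_inv_rev, inv_inv] at this
    calc i * x⁻¹ = (i * x⁻¹ * i⁻¹) * i := by group
      _ = x * i := by rw [mul_assoc i, this]
  rcases h.mem_zpowers_cases hk with e | e | e
  · rw [inv_mul_eq_one] at e; rw [e]
  · rw [inv_mul_eq_iff_eq_mul] at e
    refine isConj_iff.2 ⟨x⁻¹ ^ 2, ?_⟩
    have hxi' : i * x = x⁻¹ * i := mul_inv_eq_iff_eq_mul.1 hi
    calc x⁻¹ ^ 2 * i * (x⁻¹ ^ 2)⁻¹ = x⁻¹ * (x⁻¹ * i) * x * x := by simp [pow_two, mul_assoc]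
      _ = x⁻¹ * (i * x) * x * x := by rw [hxi']
      _ = (x⁻¹ * i) * (x * x * x) := by simp [mul_assoc]
      _ = i * x := by
        rw [show x * x * x = x ^ 3 by simp [pow_succ], h.pow_three, mul_one, hxi']
      _ = w := e.symm
  · rw [inv_mul_eq_iff_eq_mul] at e
    refine isConj_iff.2 ⟨x⁻¹, ?_⟩
    calc x⁻¹ * i * x⁻¹⁻¹ = x⁻¹ * (i * x) := by group
      _ = x⁻¹ * (x⁻¹ * i) := by rw [mul_inv_eq_iff_eq_mul.1 hi]
      _ = x * i := by rw [← mul_assoc, show x⁻¹ * x⁻¹ = x by rw [← mul_inv_rev, ← h.inv_eq, inv_inv]]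
      _ = w := by rw [← hxi, e]

theorem SC.card_inverters (h : SC x) (hi : i * x * i⁻¹ = x⁻¹) :
    Nat.card {w : G // w * x * w⁻¹ = x⁻¹} = 3 := by
  rw [← h.card_zpowers]
  refine Nat.card_congr
    { toFun := fun w => ⟨i⁻¹ * w, h.inverts_mul hi w.2⟩
      invFun := fun k => ⟨i * k, ?_⟩
      left_inv := fun w => Subtype.ext (show i * (i⁻¹ * (w : G)) = w by group)
      right_inv := fun k => Subtype.ext (show i⁻¹ * (i * (k : G)) = k by group) }
  obtain ⟨j, hj⟩ := Subgroup.mem_zpowers_iff.1 k.2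
  calc i * (k : G) * x * (i * k)⁻¹ = i * ((k : G) * x * (k : G)⁻¹) * i⁻¹ := by group
    _ = x⁻¹ := by rw [← hj, ((Commute.refl x).zpow_left j).eq, mul_inv_cancel_right, hi]

theorem SC.orderOf_inverter (h : SC x) (hi : i * x * i⁻¹ = x⁻¹) : orderOf i = 2 := by
  haveI : Fact (Nat.Prime 2) := ⟨Nat.prime_two⟩
  refine orderOf_eq_prime (by rw [sq]; exact h.inverter_sq hi) fun e => ?_
  exact h.inverter_not_mem hi (e ▸ one_mem _)

/-- The three characters and the class sums at `x`. -/
theorem SC.class_coeff [Fintype G] [DecidableEq G] (h : SC x) (hi : i * x * i⁻¹ = x⁻¹) [IsSimpleGroup G] :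
    ∃ (χ : Cfsg.IrrCharacter G) (d : ℕ), 0 < d ∧ (χ : G → ℂ) 1 = d ∧ χ ≠ Char.principalIrr ∧
      (χ : G → ℂ) x = 1 ∧
      ∀ (a b : G) [DecidablePred (IsConj a)] [DecidablePred (IsConj b)],
        (((Finset.univ.filter (IsConj a) ×ˢ Finset.univ.filter (IsConj b)).filter
          (fun p => p.1 * p.2 = x)).card : ℂ) =
        ((Finset.univ.filter (IsConj a)).card : ℂ) * ((Finset.univ.filter (IsConj b)).card : ℂ) /
          (Nat.card G : ℂ) *
          (1 + (χ : G → ℂ) a * (χ : G → ℂ) b / d -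
            (if IsConj a x then -1 else 1 + (χ : G → ℂ) a) *
              (if IsConj b x then -1 else 1 + (χ : G → ℂ) b) / (d + 1)) := by
  classical
  choose f hf using fun χ : Cfsg.IrrCharacter G => h.exists_int_value hi χ.2
  have hC : Nat.card (Subgroup.centralizer ({x} : Set G)) = 3 := by
    rw [show Subgroup.centralizer ({x} : Set G) = Subgroup.zpowers x from le_antisymm
      (fun g hg => h.cent g (Subgroup.mem_centralizer_singleton_iff.1 hg))
      (Subgroup.zpowers_le.2 (Subgroup.mem_centralizer_singleton_iff.2 rfl)), h.card_zpowers]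
  have hsq : ∑ χ : Cfsg.IrrCharacter G, f χ ^ 2 = 3 := by
    have := Char.sum_mul_conj x x
    rw [if_pos (IsConj.refl x), hC] at this
    simp only [hf, map_intCast, ← Int.cast_mul] at this
    rw [← Int.cast_sum] at this
    have h2 : ∑ χ : Cfsg.IrrCharacter G, f χ * f χ = 3 := by exact_mod_cast this
    simpa [pow_two] using h2
  set T := Finset.univ.filter (fun χ : Cfsg.IrrCharacter G => f χ ≠ 0)
  have hT : ∑ χ ∈ T, f χ ^ 2 = 3 := by
    rw [← hsq]
    refine Finset.sum_subset (Finset.subset_univ _) fun χ _ hχ => ?_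
    simp only [T, Finset.mem_filter, Finset.mem_univ, true_and, not_not] at hχ
    simp [hχ]
  have hf1 : f Char.principalIrr = 1 := by
    have := hf Char.principalIrr
    rw [Char.principalIrr_apply] at this
    exact_mod_cast this.symm
  have hpT : Char.principalIrr ∈ T := by simp [T, hf1]
  have hpos : ∀ χ ∈ T, 1 ≤ f χ ^ 2 := fun χ hχ => by
    simp only [T, Finset.mem_filter, Finset.mem_univ, true_and] at hχ
    have h0 : 0 < f χ ^ 2 := by positivity
    omega
  have hval : ∀ χ ∈ T, f χ = 1 ∨ f χ = -1 := fun χ hχ => by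
    have h1 := Finset.single_le_sum (fun ψ hψ => (zero_le_one.trans (hpos ψ hψ))) hχ
    rw [hT] at h1
    have h2 : f χ ≠ 0 := by simpa [T] using hχ
    have h3 : -1 ≤ f χ ∧ f χ ≤ 1 := by constructor <;> nlinarith
    omega
  have hcard : T.card = 3 := by
    have : (T.card : ℤ) = 3 := by
      rw [← hT, Finset.card_eq_sum_ones]; push_cast
      exact Finset.sum_congr rfl fun χ hχ => by rcases hval χ hχ with e | e <;> simp [e]
    exact_mod_cast this
  obtain ⟨χ, ψ, hne, hTe⟩ : ∃ χ ψ, χ ≠ ψ ∧ T.erase Char.principalIrr = {χ, ψ} :=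
    Finset.card_eq_two.1 (by rw [Finset.card_erase_of_mem hpT, hcard])
  have hχT : χ ∈ T.erase Char.principalIrr := by rw [hTe]; simp
  have hψT : ψ ∈ T.erase Char.principalIrr := by rw [hTe]; simp
  have hsum : ∀ F : Cfsg.IrrCharacter G → ℂ, (∀ ξ, f ξ = 0 → F ξ = 0) →
      ∑ ξ, F ξ = F Char.principalIrr + (F χ + F ψ) := by
    intro F hF
    rw [← Finset.sum_subset (Finset.subset_univ T) (fun ξ _ hξ => hF ξ (by simpa [T] using hξ)),
      ← Finset.add_sum_erase T F hpT, hTe, Finset.sum_pair hne]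
  obtain ⟨dχ, hdχ, hχ1⟩ := Char.IsIrrCharacter.exists_degree χ.2
  obtain ⟨dψ, hdψ, hψ1⟩ := Char.IsIrrCharacter.exists_degree ψ.2
  have hcol : ∀ g : G, ¬ IsConj g x →
      1 + ((χ : G → ℂ) g * f χ + (ψ : G → ℂ) g * f ψ) = 0 := fun g hg => by
    have := Char.sum_mul_conj g x
    rw [if_neg hg, hsum _ (fun ξ hξ => by rw [hf ξ, hξ]; simp)] at this
    simpa [hf, hf1, Char.principalIrr_apply] using this
  have h1x : ¬ IsConj (1 : G) x := fun e => h.ne_one (isConj_one_right.1 e)
  have h10 := hcol 1 h1x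
  rw [hχ1, hψ1] at h10
  have h10' : (1 : ℤ) + (dχ * f χ + dψ * f ψ) = 0 := by exact_mod_cast h10
  have hsign : (f χ = 1 ∧ f ψ = -1) ∨ (f χ = -1 ∧ f ψ = 1) := by
    rcases hval χ (Finset.mem_erase.1 hχT).2 with e | e <;> rcases hval ψ (Finset.mem_erase.1 hψT).2 with e' | e' <;>
      rw [e, e'] at h10' <;> first | omega | simp [e, e']
  have main : ∀ (χ ψ : Cfsg.IrrCharacter G) (d d' : ℕ),
      (∀ F : Cfsg.IrrCharacter G → ℂ, (∀ ξ, f ξ = 0 → F ξ = 0) → ∑ ξ, F ξ = F Char.principalIrr + (F χ + F ψ)) →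
      f χ = 1 → f ψ = -1 → 0 < d → (χ : G → ℂ) 1 = d → (ψ : G → ℂ) 1 = d' → χ ≠ Char.principalIrr →
      (∀ g : G, ¬ IsConj g x → 1 + ((χ : G → ℂ) g * f χ + (ψ : G → ℂ) g * f ψ) = 0) →
      ∃ (χ : Cfsg.IrrCharacter G) (d : ℕ), 0 < d ∧ (χ : G → ℂ) 1 = d ∧ χ ≠ Char.principalIrr ∧
      (χ : G → ℂ) x = 1 ∧
      ∀ (a b : G) [DecidablePred (IsConj a)] [DecidablePred (IsConj b)],
        (((Finset.univ.filter (IsConj a) ×ˢ Finset.univ.filter (IsConj b)).filter
          (fun p => p.1 * p.2 = x)).card : ℂ) =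
        ((Finset.univ.filter (IsConj a)).card : ℂ) * ((Finset.univ.filter (IsConj b)).card : ℂ) /
          (Nat.card G : ℂ) *
          (1 + (χ : G → ℂ) a * (χ : G → ℂ) b / d -
            (if IsConj a x then -1 else 1 + (χ : G → ℂ) a) *
              (if IsConj b x then -1 else 1 + (χ : G → ℂ) b) / (d + 1)) := by
    intro χ ψ d d' hsum e e' hd hχ1 hψ1 hχp hcol
    have hd' : (d' : ℂ) = d + 1 := by
      have := hcol 1 h1x
      rw [hχ1, hψ1, e, e'] at this
      push_cast at this
      linear_combination -this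
    have hψv : ∀ g : G, (ψ : G → ℂ) g = if IsConj g x then -1 else 1 + (χ : G → ℂ) g := fun g => by
      split_ifs with hg
      · rw [Char.IsClassFunction.eq_of_isConj (Char.IsIrrCharacter.isClassFunction ψ.2) hg, hf ψ, e']; norm_num
      · have := hcol g hg
        rw [e, e'] at this
        push_cast at this
        linear_combination -this
    refine ⟨χ, d, hd, hχ1, hχp, by rw [hf χ, e]; norm_num, fun a b _ _ => ?_⟩
    rw [CharDeep.ClassSum.card_pairs a b x, hsum _ (fun ξ hξ => by rw [hf ξ, hξ]; simp)]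
    congr 1
    rw [hψ1, hχ1, hd', hψv a, hψv b, Char.principalIrr_apply, Char.principalIrr_apply, Char.principalIrr_apply,
      Char.principalIrr_apply, hf χ, hf ψ, e, e']
    push_cast
    simp only [map_one, map_neg]
    ring
  rcases hsign with ⟨e, e'⟩ | ⟨e, e'⟩
  · exact main χ ψ dχ dψ hsum e e' hdχ hχ1 hψ1 (Finset.mem_erase.1 hχT).1 hcol
  · exact main ψ χ dψ dχ (fun F hF => by rw [hsum F hF]; ring) e' e hdψ hψ1 hχ1 (Finset.mem_erase.1 hψT).1
      (fun g hg => by rw [← hcol g hg]; ring)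

/-- The numerical consequences. -/
theorem SC.char_bounds [IsSimpleGroup G] (h : SC x) (hi : i * x * i⁻¹ = x⁻¹) :
    (∀ u v : G, orderOf u = 2 → orderOf v = 2 → IsConj u v) ∧
      3 * Nat.card (Subgroup.centralizer ({i} : Set G)) ^ 2 < 4 * Nat.card G ∧
      Nat.card G < 9 * Nat.card {y : G // orderOf y = 3 ∧ orderOf (y⁻¹ * x) = 3} := by
  classical
  cases nonempty_fintype G
  obtain ⟨χ, d, hd, hχ1, hχp, hχx, hN⟩ := h.class_coeff hi
  have hd0 : (d : ℂ) ≠ 0 := Nat.cast_ne_zero.2 hd.ne'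
  have hd1 : (d : ℂ) + 1 ≠ 0 := by exact_mod_cast (Nat.succ_ne_zero d)
  have hG0 : (Nat.card G : ℂ) ≠ 0 := Nat.cast_ne_zero.2 Nat.card_pos.ne'
  have hio := h.orderOf_inverter hi
  have hnx : ∀ u : G, orderOf u = 2 → ¬ IsConj u x := fun u hu e => by
    obtain ⟨c, hc⟩ := isConj_iff.1 e
    have := (MulAut.conj c).orderOf_eq u
    rw [MulAut.conj_apply, hc, h.order, hu] at this
    omega
  -- pairs of involutions with product `x`
  have hpairs : ∀ u : G, orderOf u = 2 → ∃ w, w * x * w⁻¹ = x⁻¹ ∧ IsConj u w := by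
    intro u hu
    by_contra hcon
    push Not at hcon
    have h0 := hN u u
    rw [Finset.card_eq_zero.2] at h0
    · rw [if_neg (hnx u hu), Nat.cast_zero, eq_comm, mul_eq_zero, div_eq_zero_iff] at h0
      have hA : ((Finset.univ.filter (IsConj u)).card : ℂ) ≠ 0 :=
        Nat.cast_ne_zero.2 (Finset.card_ne_zero.2 ⟨u, Finset.mem_filter.2 ⟨Finset.mem_univ _, IsConj.refl u⟩⟩)
      simp only [mul_eq_zero, hA, hG0, or_self, false_or] at h0
      field_simp at h0
      have h2 : ((χ : G → ℂ) u - d) ^ 2 = 0 := by linear_combination h0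
      have h3 : (χ : G → ℂ) u = (χ : G → ℂ) 1 := by rw [hχ1]; exact sub_eq_zero.1 (pow_eq_zero_iff two_ne_zero |>.1 h2)
      exact hχp (eq_principal_of_apply_eq_degree χ (fun e => by simp [e] at hu) h3)
    · refine Finset.filter_eq_empty_iff.2 fun p hp => ?_
      simp only [Finset.mem_product, Finset.mem_filter, Finset.mem_univ, true_and] at hp
      intro e
      refine hcon p.1 ?_ hp.1
      have hp1 : ∀ q, IsConj u q → q * q = 1 := fun q hq => by
        obtain ⟨c, rfl⟩ := isConj_iff.1 hq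
        have := pow_orderOf_eq_one u
        rw [hu, sq] at this
        calc c * u * c⁻¹ * (c * u * c⁻¹) = c * (u * u) * c⁻¹ := by group
          _ = 1 := by rw [this]; group
      calc p.1 * x * p.1⁻¹ = (p.1 * p.1) * p.2 * p.1⁻¹ := by rw [← e]; group
        _ = p.2 * p.1⁻¹ := by rw [hp1 _ hp.1, one_mul]
        _ = x⁻¹ := by
          rw [← e, mul_inv_rev, inv_eq_of_mul_eq_one_right (hp1 _ hp.2)]
  have hconj : ∀ u v : G, orderOf u = 2 → orderOf v = 2 → IsConj u v := fun u v hu hv => by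
    obtain ⟨w, hw, huw⟩ := hpairs u hu
    obtain ⟨w', hw', hvw⟩ := hpairs v hv
    exact huw.trans ((h.inverters_conj hw hw').trans hvw.symm)
  refine ⟨hconj, ?_, ?_⟩
  · have h3 : ((Finset.univ.filter (IsConj i) ×ˢ Finset.univ.filter (IsConj i)).filter
        (fun p => p.1 * p.2 = x)).card = 3 := by
      rw [← h.card_inverters hi, Nat.card_eq_fintype_card, Fintype.card_subtype]
      refine Finset.card_bij (fun p _ => p.1) (fun p hp => ?_) (fun p hp q hq e => ?_) (fun w hw => ?_)
      · simp only [Finset.mem_filter, Finset.mem_product, Finset.mem_univ, true_and] at hp ⊢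
        have hp1 : ∀ q, IsConj i q → q * q = 1 := fun q hq => by
          obtain ⟨c, rfl⟩ := isConj_iff.1 hq
          calc c * i * c⁻¹ * (c * i * c⁻¹) = c * (i * i) * c⁻¹ := by group
            _ = 1 := by rw [h.inverter_sq hi]; group
        calc p.1 * x * p.1⁻¹ = (p.1 * p.1) * p.2 * p.1⁻¹ := by rw [← hp.2]; group
          _ = p.2 * p.1⁻¹ := by rw [hp1 _ hp.1.1, one_mul]
          _ = x⁻¹ := by rw [← hp.2, mul_inv_rev, inv_eq_of_mul_eq_one_right (hp1 _ hp.1.2)]
      · simp only [Finset.mem_filter] at hp hq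
        refine Prod.ext e (mul_left_cancel (a := p.1) ?_)
        rw [hp.2, e, hq.2]
      · simp only [Finset.mem_filter, Finset.mem_univ, true_and] at hw
        have hw2 : w * x * (w * x) = 1 := by
          have := mul_inv_eq_iff_eq_mul.1 hw
          rw [← mul_assoc, this, mul_assoc x⁻¹, h.inverter_sq hw, mul_one, inv_mul_cancel]
        have hwx : orderOf (w * x) = 2 := by
          haveI : Fact (Nat.Prime 2) := ⟨Nat.prime_two⟩
          refine orderOf_eq_prime (by rw [sq]; exact hw2) fun e => h.inverter_not_mem hw ?_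
          rw [eq_inv_of_mul_eq_one_left e]; exact inv_mem (Subgroup.mem_zpowers x)
        refine ⟨(w, w * x), ?_, rfl⟩
        simp only [Finset.mem_filter, Finset.mem_product, Finset.mem_univ, true_and]
        refine ⟨⟨h.inverters_conj hi hw, hconj i _ hio hwx⟩, ?_⟩
        rw [← mul_assoc, h.inverter_sq hw, one_mul]
    have hn : ((Finset.univ.filter (IsConj i)).card : ℂ) * Nat.card (Subgroup.centralizer ({i} : Set G)) =
        Nat.card G := by
      rw [← Fintype.card_subtype, ← Nat.card_eq_fintype_card, ← Nat.cast_mul,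
        Char.card_isConj_mul_card_centralizer]
    obtain ⟨u, hu⟩ := CfsgLib.DihedralEight.exists_int_invol χ hio
    have hud := abs_int_le_degree χ.2 hu hχ1
    have hf := hN i i
    rw [h3, if_neg (hnx i hio), hu] at hf
    set n : ℂ := ((Finset.univ.filter (IsConj i)).card : ℂ)
    set c : ℕ := Nat.card (Subgroup.centralizer ({i} : Set G))
    have hc0 : (c : ℂ) ≠ 0 := Nat.cast_ne_zero.2 Nat.card_pos.ne'
    rw [eq_div_iff hc0 |>.2 hn] at hf
    field_simp at hf
    have key : (Nat.card G : ℤ) * ((d : ℤ) - u) ^ 2 = 3 * (c : ℤ) ^ 2 * d * (d + 1) := by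
      have : ((Nat.card G : ℤ) : ℂ) * (((d : ℤ) : ℂ) - u) ^ 2 =
          3 * ((c : ℤ) : ℂ) ^ 2 * ((d : ℤ) : ℂ) * (((d : ℤ) : ℂ) + 1) := by
        push_cast
        push_cast at hf
        linear_combination -hf
      exact_mod_cast this
    have hb : ((d : ℤ) - u) ^ 2 ≤ 4 * (d : ℤ) ^ 2 := by
      have := abs_le.1 hud
      nlinarith
    have hg : (0 : ℤ) < Nat.card G := by exact_mod_cast Nat.card_pos
    have hc : (0 : ℤ) < (c : ℤ) := by exact_mod_cast Nat.card_pos
    have hdpos : (0 : ℤ) < d := by exact_mod_cast hd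
    have : (3 * (c : ℤ) ^ 2) * (d : ℤ) ^ 2 < (4 * (Nat.card G : ℤ)) * (d : ℤ) ^ 2 := by
      nlinarith [mul_le_mul_of_nonneg_left hb hg.le, mul_pos (mul_pos (mul_pos (by norm_num : (0:ℤ) < 3) hc) hc) hdpos]
    have h4 := lt_of_mul_lt_mul_right this (by positivity)
    exact_mod_cast h4
  · have hn : ((Finset.univ.filter (IsConj x)).card : ℂ) * 3 = Nat.card G := by
      have hC : Nat.card (Subgroup.centralizer ({x} : Set G)) = 3 := by
        rw [show Subgroup.centralizer ({x} : Set G) = Subgroup.zpowers x from le_antisymm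
          (fun g hg => h.cent g (Subgroup.mem_centralizer_singleton_iff.1 hg))
          (Subgroup.zpowers_le.2 (Subgroup.mem_centralizer_singleton_iff.2 rfl)), h.card_zpowers]
      rw [← Fintype.card_subtype, ← Nat.card_eq_fintype_card, ← Char.card_isConj_mul_card_centralizer x, hC]
      push_cast; rfl
    have hxx : ∀ y : G, IsConj x y ↔ orderOf y = 3 := fun y => by
      refine ⟨fun e => ?_, fun e => ?_⟩
      · obtain ⟨c, rfl⟩ := isConj_iff.1 e
        exact ((MulAut.conj c).orderOf_eq x).trans h.order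
      · obtain ⟨c, hc | hc⟩ := h.isConj_or (h.sc_of_dvd (y := y) (e ▸ dvd_rfl))
        · exact isConj_iff.2 ⟨c, hc.symm⟩
        · exact isConj_iff.2 ⟨c * i, by rw [hc, ← hi]; group⟩
    have h3 : ((Finset.univ.filter (IsConj x) ×ˢ Finset.univ.filter (IsConj x)).filter
        (fun p => p.1 * p.2 = x)).card = Nat.card {y : G // orderOf y = 3 ∧ orderOf (y⁻¹ * x) = 3} := by
      rw [Nat.card_eq_fintype_card, Fintype.card_subtype]
      refine Finset.card_bij (fun p _ => p.1) (fun p hp => ?_) (fun p hp q hq e => ?_) (fun w hw => ?_)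
      · simp only [Finset.mem_filter, Finset.mem_product, Finset.mem_univ, true_and, hxx] at hp ⊢
        exact ⟨hp.1.1, by rw [← hp.2, inv_mul_cancel_left]; exact hp.1.2⟩
      · simp only [Finset.mem_filter] at hp hq
        refine Prod.ext e (mul_left_cancel (a := p.1) ?_)
        rw [hp.2, e, hq.2]
      · simp only [Finset.mem_filter, Finset.mem_univ, true_and] at hw
        refine ⟨(w, w⁻¹ * x), ?_, rfl⟩
        simp only [Finset.mem_filter, Finset.mem_product, Finset.mem_univ, true_and]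
        exact ⟨⟨(hxx _).2 hw.1, (hxx _).2 hw.2⟩, mul_inv_cancel_left w x⟩
    have hf := hN x x
    rw [h3, if_pos (IsConj.refl x), hχx, show ((Finset.univ.filter (IsConj x)).card : ℂ) = (Nat.card G : ℂ) / 3 by
      rw [eq_div_iff (three_ne_zero), hn]] at hf
    field_simp at hf
    set P := Nat.card {y : G // orderOf y = 3 ∧ orderOf (y⁻¹ * x) = 3}
    have key : 9 * P * (d * (d + 1)) = Nat.card G * (d * d + d + 1) := by
      have : ((9 * P * (d * (d + 1)) : ℕ) : ℂ) = ((Nat.card G * (d * d + d + 1) : ℕ) : ℂ) := by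
        push_cast
        linear_combination hf
      exact_mod_cast this
    have hg : 0 < Nat.card G := Nat.card_pos
    nlinarith [Nat.mul_pos hd (Nat.succ_pos d)]

end CfsgLib.SelfCentThree
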