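import Cfsg.Agent.Lib.SelfCentThree.Bounds

/-!
Sylow 2-subgroups of order eight.
-/

set_option autoImplicit false
set_option maxHeartbeats 400000

namespace CfsgLib.SelfCentThree

/-- A non-abelian group of order eight has at most two Klein subgroups. -/
theorem card_klein_le {T : Type*} [Group T] [Finite T] (h8 : Nat.card T = 8) (hn : ¬ ∀ a b : T, a * b = b * a) :
    Nat.card {V : Subgroup T // Nat.card V = 4 ∧ ∀ v ∈ V, v * v = 1} ≤ 2 := by
  classical
  obtain ⟨r, hr⟩ : ∃ r : T, r * r ≠ 1 := by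
    by_contra! hall
    refine hn fun a b => ?_
    have hinv : ∀ u : T, u⁻¹ = u := fun u => inv_eq_of_mul_eq_one_right (hall u)
    calc a * b = (a * b)⁻¹ := (hinv _).symm
      _ = b * a := by rw [mul_inv_rev, hinv, hinv]
  have hr4 : orderOf r = 4 := by
    have hd : orderOf r ∣ 2 ^ 3 := by rw [show (2:ℕ) ^ 3 = Nat.card T by rw [h8]; norm_num]; exact orderOf_dvd_natCard r
    obtain ⟨k, hk, hk'⟩ := (Nat.dvd_prime_pow Nat.prime_two).1 hd
    interval_cases k
    · rw [pow_zero, orderOf_eq_one_iff] at hk'; simp [hk'] at hr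
    · exact absurd (by rw [← sq, ← hk'.trans (pow_one 2)]; exact pow_orderOf_eq_one r) hr
    · exact hk'
    · exfalso
      refine hn fun a b => ?_
      have htop : Subgroup.zpowers r = ⊤ :=
        Subgroup.eq_top_of_card_eq _ (by rw [Nat.card_zpowers, hk', h8]; norm_num)
      obtain ⟨m, hm⟩ := Subgroup.mem_zpowers_iff.1 (htop ▸ Subgroup.mem_top a)
      obtain ⟨n, hn'⟩ := Subgroup.mem_zpowers_iff.1 (htop ▸ Subgroup.mem_top b)
      rw [← hm, ← hn']; exact (Commute.refl r).zpow_zpow m n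
  set R := Subgroup.zpowers r
  have hR : Nat.card R = 4 := by rw [Nat.card_zpowers, hr4]
  have hRi : R.index = 2 := by
    have := Subgroup.card_mul_index R; rw [hR, h8] at this; omega
  have hR4 : ∀ v ∈ R, v * v = 1 → v = 1 ∨ v = r * r := by
    intro v hv hv2
    obtain ⟨m, rfl⟩ := Subgroup.mem_zpowers_iff.1 hv
    rw [← zpow_add, ← orderOf_dvd_iff_zpow_eq_one, hr4] at hv2
    rw [← zpow_mod_orderOf, hr4]
    have h1 : m % (4 : ℤ) = 0 ∨ m % (4 : ℤ) = 2 := by omega
    rcases h1 with e | e <;> push_cast <;> rw [e]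
    · exact Or.inl (zpow_zero r)
    · exact Or.inr (zpow_two r)
  obtain ⟨s, hs⟩ : ∃ s, s ∉ R := by
    by_contra! hall
    rw [(Subgroup.eq_top_iff' _).2 hall, Subgroup.index_top] at hRi
    norm_num at hRi
  have hout : ∀ (a b : T), a ∉ R → b ∉ R → a⁻¹ * b ∈ R := fun a b ha hb => by
    rw [Subgroup.mul_mem_iff_of_index_two hRi]
    simp [ha, hb]
  have key : ∀ V W : Subgroup T, (Nat.card V = 4 ∧ ∀ v ∈ V, v * v = 1) → (Nat.card W = 4 ∧ ∀ v ∈ W, v * v = 1) →
      (s ∈ V ↔ s ∈ W) → V = W := by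
    intro V W hV hW hiff
    have spec : ∀ U : Subgroup T, (Nat.card U = 4 ∧ ∀ v ∈ U, v * v = 1) →
        r * r ∈ U ∧ ∃ u ∈ U, u ∉ R ∧ ∀ v ∈ U, v = 1 ∨ v = r * r ∨ v = u ∨ v = u * (r * r) := by
      intro U hU
      obtain ⟨u, hu, huR⟩ : ∃ u ∈ U, u ∉ R := by
        by_contra! hall
        have : U = R := Subgroup.eq_of_le_of_card_ge hall (by rw [hU.1, hR])
        exact hr (hU.2 r (this ▸ Subgroup.mem_zpowers r))
      have hz : r * r ∈ U := by
        by_contra hz
        have hsub : ∀ v ∈ U, v = 1 ∨ v = u := fun v hv => by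
          by_cases hvR : v ∈ R
          · exact (hR4 v hvR (hU.2 v hv)).imp_right fun e => absurd (e ▸ hv) hz
          · rcases hR4 _ (hout u v huR hvR) (hU.2 _ (mul_mem (inv_mem hu) hv)) with e | e
            · exact Or.inr (inv_mul_eq_one.1 e).symm
            · exact absurd (e ▸ mul_mem (inv_mem hu) hv) hz
        have h4 : Nat.card U ≤ Nat.card ({1, u} : Finset T) :=
          Nat.card_le_card_of_injective (fun v => ⟨v.1, by rcases hsub v v.2 with e | e <;> simp [e]⟩)
            fun a b e => Subtype.ext (congrArg (fun w : ({1, u} : Finset T) => (w : T)) e)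
        rw [hU.1, Nat.card_eq_fintype_card, Fintype.card_coe] at h4
        exact absurd (h4.trans Finset.card_le_two) (by norm_num)
      refine ⟨hz, u, hu, huR, fun v hv => ?_⟩
      by_cases hvR : v ∈ R
      · exact (hR4 v hvR (hU.2 v hv)).imp_right Or.inl
      · rcases hR4 _ (hout u v huR hvR) (hU.2 _ (mul_mem (inv_mem hu) hv)) with e | e
        · exact Or.inr (Or.inr (Or.inl (inv_mul_eq_one.1 e).symm))
        · exact Or.inr (Or.inr (Or.inr (inv_mul_eq_iff_eq_mul.1 e)))
    obtain ⟨hzV, u, hu, huR, hVs⟩ := spec V hV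
    obtain ⟨hzW, w, hw, hwR, hWs⟩ := spec W hW
    have huw : w = u ∨ w = u * (r * r) := by
      by_cases hsV : s ∈ V
      · have hsW := hiff.1 hsV
        have hru : s = u ∨ s = u * (r * r) := by
          rcases hVs s hsV with e | e | e | e
          · exact absurd (e ▸ one_mem R) hs
          · exact absurd (e ▸ mul_mem (Subgroup.mem_zpowers r) (Subgroup.mem_zpowers r)) hs
          · exact Or.inl e
          · exact Or.inr e
        have hrw : s = w ∨ s = w * (r * r) := by
          rcases hWs s hsW with e | e | e | e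
          · exact absurd (e ▸ one_mem R) hs
          · exact absurd (e ▸ mul_mem (Subgroup.mem_zpowers r) (Subgroup.mem_zpowers r)) hs
          · exact Or.inl e
          · exact Or.inr e
        have hz2 : r * r * (r * r) = 1 := hV.2 _ hzV
        rcases hru with e | e <;> rcases hrw with e' | e' <;> rw [e] at e'
        · exact Or.inl e'.symm
        · exact Or.inr (by rw [e', mul_assoc w, hz2, mul_one])
        · exact Or.inr e'.symm
        · exact Or.inl (mul_right_cancel e').symm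
      · -- both lie in the other coset of `⟨r²⟩`
        have hsW : s ∉ W := fun e => hsV (hiff.2 e)
        have h1 := hout s u hs huR
        have h2 := hout s w hs hwR
        obtain ⟨m, hm⟩ := Subgroup.mem_zpowers_iff.1 h1
        obtain ⟨n, hn'⟩ := Subgroup.mem_zpowers_iff.1 h2
        have eu : u = s * r ^ m := by rw [hm]; group
        have ew : w = s * r ^ n := by rw [hn']; group
        have hz' : ∀ k : ℤ, r ^ (2 * k) = 1 ∨ r ^ (2 * k) = r * r := fun k => by
          refine hR4 _ (Subgroup.mem_zpowers_iff.2 ⟨_, rfl⟩) ?_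
          rw [← zpow_add, ← orderOf_dvd_iff_zpow_eq_one, hr4]
          omega
        have hodd : ∀ (U : Subgroup T) (k : ℤ), r * r ∈ U → s ∉ U → s * r ^ k ∈ U → k % 2 = 1 := fun U k hzU hsU hk => by
          by_contra hk2
          refine hsU ?_
          obtain ⟨j, hj⟩ : ∃ j, k = 2 * j := ⟨k / 2, by omega⟩
          rcases hz' j with e | e <;> rw [← hj] at e <;> rw [e] at hk
          · rwa [mul_one] at hk
          · have := mul_mem hk (inv_mem hzU)
            rwa [mul_inv_cancel_right] at this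
        have hm1 := hodd V m hzV hsV (eu ▸ hu)
        have hn1 := hodd W n hzW hsW (ew ▸ hw)
        obtain ⟨j, hj⟩ : ∃ j, n = m + 2 * j := ⟨(n - m) / 2, by omega⟩
        rcases hz' j with e | e
        · exact Or.inl (by rw [ew, eu, hj, zpow_add, e, mul_one])
        · exact Or.inr (by rw [ew, eu, hj, zpow_add, e, mul_assoc])
    have hwV : w ∈ V := huw.elim (fun e => e ▸ hu) (fun e => e ▸ mul_mem hu hzV)
    refine (Subgroup.eq_of_le_of_card_ge (fun v hv => ?_) (by rw [hV.1, hW.1])).symm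
    rcases hWs v hv with rfl | rfl | rfl | rfl
    · exact one_mem V
    · exact hzV
    · exact hwV
    · exact mul_mem hwV hzV
  refine (Nat.card_le_card_of_injective (fun V => decide (s ∈ V.1)) fun V W e => ?_).trans (by simp)
  exact Subtype.ext (key V.1 W.1 V.2 W.2 (by simpa using e))

variable {G : Type*} [Group G] [Finite G] {x i : G}

theorem Setup.sum_evB_eight (S : Setup x i) (h8 : 2 ^ (Nat.card G).factorization 2 = 8) :
    ∑ H ∈ evB x i, (Nat.card H - 1) ≤ Nat.card (Subgroup.centralizer ({i} : Set G)) := by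
  classical
  haveI : Fact (Nat.Prime 2) := ⟨Nat.prime_two⟩
  have hv3 : (Nat.card G).factorization 2 = 3 := Nat.pow_right_injective le_rfl (h8.trans (by norm_num : (8:ℕ) = 2 ^ 3))
  set c := Nat.card (Subgroup.centralizer ({i} : Set G))
  have hle : ∀ H ∈ evB x i, 2 * (Nat.card H - 1) ≤ c := fun H hH => by
    obtain ⟨m1, p1, n1⟩ := mem_evB.1 hH
    have := Nat.le_of_dvd Nat.card_pos (two_mul_card_dvd_centralizer S.sc (mem_hs.1 m1).1.1 S.conj S.inv n1 p1)
    omega
  suffices hcard : (evB x i).card ≤ 2 by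
    have h := Finset.sum_le_card_nsmul (evB x i) (fun H => 2 * (Nat.card H - 1)) c hle
    rw [← Finset.mul_sum, smul_eq_mul] at h
    have := Nat.mul_le_mul_right c hcard
    omega
  rcases (evB x i).eq_empty_or_nonempty with e | ⟨H₀, h₀⟩
  · simp [e]
  -- the two part of each `H` is a Klein group, inside a Sylow subgroup of order eight
  have part : ∀ H ∈ evB x i, ∃ P : Subgroup G, P ≤ H ∧ Nat.card P = 4 ∧ Inv3 x P ∧
      i ∈ Subgroup.normalizer (P : Set G) ∧ IsPGroup 2 P ∧ ∀ v ∈ P, v * v = 1 := by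
    intro H hH
    obtain ⟨m1, p1, n1⟩ := mem_evB.1 hH
    have hm := (mem_hs.1 m1).1
    obtain ⟨h2, h3⟩ := S.evB_two_part hH
    obtain ⟨P, hP, hc, hp, hn⟩ := exists_part S.sc hm.1 2
    rw [show (Nat.card H).factorization 2 = 2 by omega] at hc
    have hPi := hm.1.of_le hP (hn hm.1.2)
    refine ⟨P, hP, by rw [hc]; norm_num, hPi, hn n1, hp, fun v hv => ?_⟩
    have hcomm : IsMulCommutative P := IsPGroup.isMulCommutative_of_card_eq_prime_sq hc
    have hv4 : (v ^ 2) ^ 2 = 1 := by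
      rw [← pow_mul]; exact orderOf_dvd_iff_pow_eq_one.1 (by
        have := Subgroup.orderOf_dvd_natCard P hv; rwa [hc] at this)
    by_contra hv2
    -- `⟨v⟩ = P` would have a fixed involution
    have htop : Subgroup.zpowers v = P := by
      refine Subgroup.eq_of_le_of_card_ge (Subgroup.zpowers_le.2 hv) ?_
      rw [Nat.card_zpowers, hc, orderOf_eq_prime_pow (p := 2) (n := 1) (by rw [pow_one, sq]; exact hv2)
        (by rw [← pow_mul] at hv4; exact hv4)]
    have hxv : x * v * x⁻¹ ∈ Subgroup.zpowers v := htop ▸ conj_mem_of_mem_normalizer hPi.2 hv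
    obtain ⟨m, hm'⟩ := Subgroup.mem_zpowers_iff.1 hxv
    refine hv2 ?_
    rw [← sq]
    refine S.sc.fpf hPi.1 (pow_mem hv 2) (mul_inv_eq_iff_eq_mul.1 ?_).symm
    have hvinj : ∀ w : G, x * w * x⁻¹ = 1 → w = 1 := fun w hw => conj_eq_one_iff.1 hw
    rcases Int.emod_two_eq m with hm2 | hm2
    · exfalso
      refine hv2 ?_
      rw [← sq]
      refine hvinj _ ?_
      rw [← conj_pow, ← hm']
      obtain ⟨j, rfl⟩ : ∃ j, m = 2 * j := ⟨m / 2, by omega⟩
      rw [← zpow_natCast, ← zpow_mul, ← orderOf_dvd_iff_zpow_eq_one]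
      refine dvd_trans (Int.natCast_dvd_natCast.2 (orderOf_dvd_of_pow_eq_one (x := v) (n := 4)
        (by rw [← pow_mul] at hv4; exact hv4))) ⟨j, by push_cast; ring⟩
    · obtain ⟨j, rfl⟩ : ∃ j, m = 2 * j + 1 := ⟨m / 2, by omega⟩
      rw [← conj_pow, ← hm', ← zpow_natCast, ← zpow_mul, ← zpow_natCast v 2]
      rw [← mul_inv_eq_one, ← zpow_neg, ← zpow_add, ← orderOf_dvd_iff_zpow_eq_one]
      refine dvd_trans (Int.natCast_dvd_natCast.2 (orderOf_dvd_of_pow_eq_one (x := v) (n := 4)
        (by rw [← pow_mul] at hv4; exact hv4))) ⟨j, by push_cast; ring⟩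
  choose P hP hPc hPi hPn hPp hPe using part
  obtain ⟨T⟩ : Nonempty (Sylow 2 G) := inferInstance
  have hTc : Nat.card T = 8 := by rw [T.card_eq_multiplicity, h8]
  have hconjT : ∀ K : Subgroup G, IsPGroup 2 K → ∃ g : G, cj g K ≤ (T : Subgroup G) := fun K hK => by
    obtain ⟨Q, hQ⟩ := hK.exists_le_sylow
    obtain ⟨g, hg⟩ := MulAction.exists_smul_eq G Q T
    refine ⟨g, (cj_mono hQ).trans ?_⟩
    rw [← hg, Sylow.coe_subgroup_smul]
    exact le_rfl
  have hTn : ¬ ∀ a b : T, a * b = b * a := by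
    intro hab
    set W := P H₀ h₀ ⊔ Subgroup.zpowers i
    have hW : Nat.card W = 2 ^ 3 := by
      rw [S.sc.card_sup_inverter S.inv (hPi H₀ h₀) (hPn H₀ h₀), hPc]; norm_num
    obtain ⟨g, hg⟩ := hconjT W (IsPGroup.of_card hW)
    have hsq := S.sc.card_eq_sq (hPi H₀ h₀).1 (hPi H₀ h₀).2 (S.sc.inverter_sq S.inv) S.inv (hPn H₀ h₀)
    have hall : P H₀ h₀ ⊓ Subgroup.centralizer {i} = P H₀ h₀ := by
      refine inf_eq_left.2 fun v hv => Subgroup.mem_centralizer_singleton_iff.2 ?_
      have e1 : g * v * g⁻¹ ∈ (T : Subgroup G) := hg ⟨v, Subgroup.mem_sup_left hv, rfl⟩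
      have e2 : g * i * g⁻¹ ∈ (T : Subgroup G) := hg ⟨i, Subgroup.mem_sup_right (Subgroup.mem_zpowers i), rfl⟩
      have e3 := congrArg Subtype.val (hab ⟨_, e1⟩ ⟨_, e2⟩)
      calc v * i = g⁻¹ * ((g * v * g⁻¹) * (g * i * g⁻¹)) * g := by group
        _ = g⁻¹ * ((g * i * g⁻¹) * (g * v * g⁻¹)) * g := congrArg (fun w => g⁻¹ * w * g) e3
        _ = i * v := by group
    rw [hall, hPc] at hsq
    norm_num at hsq
  have hg : ∀ H (hH : H ∈ evB x i), ∃ g : G, cj g (P H hH) ≤ (T : Subgroup G) := fun H hH => hconjT _ (hPp H hH)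
  choose g hgT using hg
  rw [← Fintype.card_coe, ← Nat.card_eq_fintype_card]
  refine (Nat.card_le_card_of_injective (β := {V : Subgroup T // Nat.card V = 4 ∧ ∀ v ∈ V, v * v = 1})
    (fun H => ⟨(cj (g H.1 H.2) (P H.1 H.2)).subgroupOf (T : Subgroup G), ?_, ?_⟩) ?_).trans (card_klein_le hTc hTn)
  · rw [Nat.card_congr (Subgroup.subgroupOfEquivOfLe (hgT H.1 H.2)).toEquiv, card_cj, hPc]
  · intro v hv
    obtain ⟨w, hw, hwv⟩ := Subgroup.mem_subgroupOf.1 hv
    refine Subtype.ext ?_
    rw [Subgroup.coe_mul, ← hwv, ← map_mul, hPe H.1 H.2 w hw, map_one]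
    rfl
  · intro A B e
    have e' : cj (g A.1 A.2) (P A.1 A.2) = cj (g B.1 B.2) (P B.1 B.2) := by
      have h' := congrArg (fun V : {V : Subgroup T // Nat.card V = 4 ∧ ∀ v ∈ V, v * v = 1} =>
        V.1.map (T : Subgroup G).subtype) e
      simpa [Subgroup.map_subgroupOf_eq_of_le (hgT A.1 A.2), Subgroup.map_subgroupOf_eq_of_le (hgT B.1 B.2)] using h'
    have hmA := mem_hs.1 (mem_evB.1 A.2).1
    have hmB := mem_hs.1 (mem_evB.1 B.2).1
    have hne : P A.1 A.2 ≠ ⊥ := fun e0 => by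
      have := hPc A.1 A.2; rw [e0, Subgroup.card_bot] at this; norm_num at this
    rcases S.loc.related S.sc S.inv hmA.1 hmB.1 (g := (g B.1 B.2)⁻¹ * g A.1 A.2) hne (hPi A.1 A.2)
      (hPi B.1 B.2) (hP A.1 A.2) (hP B.1 B.2)
      (by rw [cj_mul, e', ← cj_mul, inv_mul_cancel, cj_one]) with h' | h'
    · exact Subtype.ext h'.symm
    · exact Subtype.ext (h'.trans (cj_eq_self_iff.2 (mem_evB.1 A.2).2.2)).symm

end CfsgLib.SelfCentThree
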