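import Cfsg.Agent.Lib.SelfCentThree.Structure
import Cfsg.Agent.S0495
import Mathlib.GroupTheory.Transfer

/-!
Reduction of the theorem to simple groups.
-/

set_option autoImplicit false
set_option maxHeartbeats 200000

namespace CfsgLib.SelfCentThree

universe u

variable {G : Type u} [Group G] [Finite G] {x w g : G}

theorem SC.conj_in (h : SC x) {L : Subgroup G} (hx : x ∈ L) (hw : w ∈ L) (hw3 : SC w) :
    ∃ c ∈ L, w = c * x * c⁻¹ ∨ w = c * x⁻¹ * c⁻¹ := by
  obtain ⟨⟨c, hc⟩, hcx⟩ := (h.restrict hx).isConj_or (hw3.restrict hw)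
  exact ⟨c, hc, hcx.imp (congrArg Subtype.val) (congrArg Subtype.val)⟩

/-- Frattini: `G = M · N(⟨x⟩)` for a subgroup `M` containing all the conjugates of `x`. -/
theorem SC.frattini (h : SC x) {M : Subgroup G} (hx : x ∈ M) (hg : g * x * g⁻¹ ∈ M) :
    ∃ m ∈ M, m⁻¹ * g ∈ Subgroup.normalizer (Subgroup.zpowers x : Set G) := by
  obtain ⟨m, hm, e | e⟩ := h.conj_in hx hg (h.conj g)
  · refine ⟨m, hm, Subgroup.le_normalizer (h.cent _ (mul_inv_eq_iff_eq_mul.1 ?_))⟩
    calc m⁻¹ * g * x * (m⁻¹ * g)⁻¹ = m⁻¹ * (g * x * g⁻¹) * m := by group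
      _ = x := by rw [e]; group
  · refine ⟨m, hm, mem_normalizer_zpowers_of_inverts ?_⟩
    calc m⁻¹ * g * x * (m⁻¹ * g)⁻¹ = m⁻¹ * (g * x * g⁻¹) * m := by group
      _ = x⁻¹ := by rw [e]; group

/-- If every nontrivial normal subgroup has order divisible by three: the quotient is small or simple. -/
theorem SC.small_or_simple (h : SC x) (hQ : ∀ K : Subgroup G, K.Normal → ¬ 3 ∣ Nat.card K → K = ⊥) :
    Nat.card G = 3 ∨ Nat.card G = 6 ∨ (IsSimpleGroup G ∧ ¬ IsMulCommutative G) := by
  classical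
  haveI : Fact (Nat.Prime 3) := ⟨Nat.prime_three⟩
  by_cases hX : (Subgroup.zpowers x).Normal
  · have htop : Nat.card (Subgroup.normalizer (Subgroup.zpowers x : Set G)) = Nat.card G := by
      haveI := hX
      rw [Subgroup.normalizer_eq_top (H := Subgroup.zpowers x), Subgroup.card_top]
    by_cases ht : ∃ t, t * x * t⁻¹ = x⁻¹
    · obtain ⟨t, ht⟩ := ht
      exact Or.inr (Or.inl (htop ▸ h.card_normalizer ht))
    · left
      have : Subgroup.normalizer (Subgroup.zpowers x : Set G) = Subgroup.zpowers x :=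
        le_antisymm (fun g hg => (h.mem_normalizer_cases hg).resolve_right fun e => ht ⟨g, e⟩)
          Subgroup.le_normalizer
      rw [← htop, this, h.card_zpowers]
  refine Or.inr (Or.inr ?_)
  set M : Subgroup G := Subgroup.normalClosure {x}
  have hxM : x ∈ M := Subgroup.subset_normalClosure rfl
  have hMn : M.Normal := Subgroup.normalClosure_normal
  have hfrat : ∀ g : G, ∃ m ∈ M, m⁻¹ * g ∈ Subgroup.normalizer (Subgroup.zpowers x : Set G) :=
    fun g => h.frattini hxM (hMn.conj_mem x hxM g)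
  have hMnc : ¬ ∀ a ∈ M, a * x = x * a := fun hc => by
    have : M = Subgroup.zpowers x := le_antisymm (fun a ha => h.cent a (hc a ha)) (Subgroup.zpowers_le.2 hxM)
    exact hX (this ▸ hMn)
  -- the largest subgroup of `M` of order prime to three, normalised by `M`
  let S := {O : Subgroup G // O ≤ M ∧ M ≤ Subgroup.normalizer (O : Set G) ∧ ¬ 3 ∣ Nat.card O}
  haveI : Nonempty S := ⟨⟨⊥, bot_le, fun g _ => by
    rw [Subgroup.normalizer_eq_top (H := (⊥ : Subgroup G))]; exact Subgroup.mem_top g, by simp⟩⟩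
  obtain ⟨⟨O, hO1, hO2, hO3⟩, hOmax⟩ := Finite.exists_max (fun O : S => Nat.card O.1)
  have hOle : ∀ O' : Subgroup G, O' ≤ M → M ≤ Subgroup.normalizer (O' : Set G) → ¬ 3 ∣ Nat.card O' → O' ≤ O := by
    intro O' h1 h2 h3
    have hsup : M ≤ Subgroup.normalizer ((O ⊔ O' : Subgroup G) : Set G) := fun g hg => by
      exact Subgroup.mem_normalizer_iff_map_conj_eq.2 (by
        rw [Subgroup.map_sup, Subgroup.mem_normalizer_iff_map_conj_eq.1 (hO2 hg),
          Subgroup.mem_normalizer_iff_map_conj_eq.1 (h2 hg)])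
    have hle := hOmax ⟨O ⊔ O', sup_le hO1 h1, hsup, not_three_sup (h1.trans hO2) hO3 h3⟩
    exact le_sup_right.trans (Subgroup.eq_of_le_of_card_ge le_sup_left hle).ge
  have hObot : O = ⊥ := by
    refine hQ O ⟨fun a ha g => ?_⟩ hO3
    refine hOle (O.map (MulAut.conj g).toMonoidHom) ?_ ?_ (not_three_map _ hO3) ⟨a, ha, rfl⟩
    · rintro _ ⟨b, hb, rfl⟩; exact hMn.conj_mem b (hO1 hb) g
    · intro n hn
      rw [Subgroup.mem_normalizer_iff_map_conj_eq, Subgroup.map_map]
      have hn' : g⁻¹ * n * g⁻¹⁻¹ ∈ Subgroup.normalizer (O : Set G) := hO2 (hMn.conj_mem n hn g⁻¹)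
      conv_rhs => rw [← Subgroup.mem_normalizer_iff_map_conj_eq.1 hn', Subgroup.map_map]
      congr 1
      ext z
      simp [mul_assoc]
  have hsimp : IsSimpleGroup M := by
    haveI : Nontrivial M := ⟨⟨⟨x, hxM⟩, 1, fun e => h.ne_one (congrArg Subtype.val e)⟩⟩
    refine ⟨fun K hK => ?_⟩
    set K' := K.map M.subtype with hK'
    have hKM : K' ≤ M := Subgroup.map_subtype_le K
    have hKn : ∀ m ∈ M, ∀ k ∈ K', m * k * m⁻¹ ∈ K' := by
      rintro m hm _ ⟨k, hk, rfl⟩
      exact ⟨⟨m, hm⟩ * k * ⟨m, hm⟩⁻¹, hK.conj_mem k hk ⟨m, hm⟩, rfl⟩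
    have hc : ∀ {k m : G}, m ∈ M → k ∈ K' → m⁻¹ * k * m ∈ K' := fun hm hk => by
      simpa using hKn _ (inv_mem hm) _ hk
    by_cases hxK : x ∈ K'
    · right
      rw [eq_top_iff]
      intro a _
      have hle : M ≤ K' := by
        refine (Subgroup.closure_le _).2 ?_
        intro y hy
        obtain ⟨_, ⟨rfl⟩, hy⟩ := Group.mem_conjugatesOfSet_iff.1 hy
        obtain ⟨c, rfl⟩ := isConj_iff.1 hy
        obtain ⟨m, hm, e | e⟩ := h.conj_in hxM (hMn.conj_mem x hxM c) (h.conj c) <;> rw [SetLike.mem_coe, e]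
        · exact hKn m hm x hxK
        · exact hKn m hm _ (inv_mem hxK)
      obtain ⟨b, hb, hba⟩ := hle a.2
      rwa [← (Subtype.ext hba : b = a)]
    · left
      have h3 : ¬ 3 ∣ Nat.card K' := fun h3 => hxK (by
        obtain ⟨a, ha⟩ := exists_prime_orderOf_dvd_card' (G := K') 3 h3
        rw [← Subgroup.orderOf_coe] at ha
        obtain ⟨c, hc', e | e⟩ := h.conj_in hxM (hKM a.2) (h.sc_of_dvd (ha ▸ dvd_rfl))
        · have := hc hc' a.2; rw [e] at this; simpa [mul_assoc] using this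
        · have := hc hc' a.2; rw [e] at this; simpa [mul_assoc] using this)
      have hb : K' = ⊥ := eq_bot_iff.2 (hObot ▸ hOle K' hKM (fun m hm => by
        rw [Subgroup.mem_normalizer_iff]
        exact fun k => ⟨hKn m hm k, fun hk => by simpa [mul_assoc] using hc hm hk⟩) h3)
      exact (Subgroup.map_eq_bot_iff_of_injective K M.subtype_injective).1 hb
  have hMtop : M = ⊤ := by
    by_contra hne
    obtain ⟨g, hg⟩ : ∃ g, g ∉ M := by
      by_contra! hall; exact hne (eq_top_iff.2 fun g _ => hall g)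
    obtain ⟨m, hm, hn⟩ := hfrat g
    have hnM : m⁻¹ * g ∉ M := fun e => hg (by simpa using mul_mem hm e)
    have hinv := (h.mem_normalizer_cases hn).resolve_left fun e => hnM (Subgroup.zpowers_le.2 hxM e)
    obtain ⟨P, hP⟩ := (h.restrict hxM).exists_sylow
    have hcomp : Subgroup.normalizer ((P : Subgroup M) : Set M) ≤ Subgroup.centralizer ((P : Subgroup M) : Set M) := by
      intro a ha
      rw [hP] at ha
      have hmem : a ∈ Subgroup.zpowers (⟨x, hxM⟩ : M) :=
        ((h.restrict hxM).mem_normalizer_cases ha).resolve_right fun e => hnM (by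
          have := h.inverts_mul (congrArg Subtype.val e) hinv
          simpa using mul_mem a.2 (Subgroup.zpowers_le.2 hxM this))
      rw [hP, Subgroup.mem_centralizer_iff]
      intro b hb
      obtain ⟨i, rfl⟩ := Subgroup.mem_zpowers_iff.1 hmem
      obtain ⟨j, rfl⟩ := Subgroup.mem_zpowers_iff.1 hb
      exact (Commute.refl _).zpow_zpow j i
    have hk := MonoidHom.ker_transferSylow_isComplement' P hcomp
    haveI := hsimp
    rcases ((MonoidHom.transferSylow P hcomp).normal_ker).eq_bot_or_eq_top with e | e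
    · have htop : Subgroup.zpowers (⟨x, hxM⟩ : M) = ⊤ := by
        rw [← hP]; have := hk.sup_eq_top; rwa [e, bot_sup_eq] at this
      refine hMnc fun a ha => ?_
      obtain ⟨j, hj⟩ := Subgroup.mem_zpowers_iff.1 (htop ▸ Subgroup.mem_top (⟨a, ha⟩ : M))
      have : a = x ^ j := by simpa using (congrArg Subtype.val hj).symm
      rw [this]; exact (Commute.self_zpow x j).symm.eq
    · have := hk.disjoint
      rw [e, disjoint_iff, top_inf_eq, hP, Subgroup.zpowers_eq_bot] at this
      exact h.ne_one (congrArg Subtype.val this)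
  haveI := hsimp
  haveI : IsSimpleGroup (⊤ : Subgroup G) := hMtop ▸ hsimp
  refine ⟨(Subgroup.topEquiv (G := G)).symm.isSimpleGroup, fun hc => hMnc fun a _ => ?_⟩
  exact hc.is_comm.comm a x

/-- The theorem follows from its special case for simple groups. -/
theorem concl_of_simple
    (hS : ∀ (H : Type u) [Group H] [Finite H], Nat.card H ≤ Nat.card G → IsSimpleGroup H →
      ¬ IsMulCommutative H → ∀ y : H, SC y → Nat.card H = 60 ∨ Nat.card H = 168)
    (h : SC x) : Concl G := by
  classical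
  let S := {N : Subgroup G // N.Normal ∧ ¬ 3 ∣ Nat.card N}
  haveI : Nonempty S := ⟨⟨⊥, inferInstance, by simp⟩⟩
  obtain ⟨⟨N, hNn, hN⟩, hmax⟩ := Finite.exists_max (fun N : S => Nat.card N.1)
  haveI := hNn
  have hxN : x ∈ Subgroup.normalizer (N : Set G) := by
    rw [Subgroup.normalizer_eq_top (H := N)]; exact Subgroup.mem_top x
  have hnil : Group.IsNilpotent N := h.isNilpotent hN hxN
  have q := h.quotient N hN
  have hQ : ∀ K : Subgroup (G ⧸ N), K.Normal → ¬ 3 ∣ Nat.card K → K = ⊥ := by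
    intro K hK h3
    have hcard : Nat.card (K.comap (QuotientGroup.mk' N)) = Nat.card K * Nat.card N := by
      have h1 := Subgroup.card_mul_index (K.comap (QuotientGroup.mk' N))
      rw [Subgroup.index_comap_of_surjective K QuotientGroup.mk_surjective,
        Subgroup.card_eq_card_quotient_mul_card_subgroup N, ← Subgroup.card_mul_index K] at h1
      have hpos : 0 < K.index := Nat.pos_of_ne_zero (Subgroup.index_ne_zero_of_finite)
      refine Nat.eq_of_mul_eq_mul_right hpos ?_
      rw [h1]; ring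
    have hle := hmax ⟨K.comap (QuotientGroup.mk' N), hK.comap _, fun e => by
      rw [hcard] at e
      exact (Nat.prime_three.dvd_mul.1 e).elim h3 hN⟩
    simp only [hcard] at hle
    refine Subgroup.card_eq_one.1 (le_antisymm ?_ Nat.card_pos)
    exact Nat.le_of_mul_le_mul_right (by rwa [one_mul]) Nat.card_pos
  rcases q.small_or_simple hQ with e | e | ⟨hs, hna⟩
  · exact Or.inl ⟨N, hNn, hnil, coprime_of_not_three hN, Or.inl e⟩
  · exact Or.inl ⟨N, hNn, hnil, coprime_of_not_three hN, Or.inr (q.perm_three e)⟩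
  haveI := hs
  rcases hS (G ⧸ N) (Nat.card_le_card_of_surjective _ QuotientGroup.mk_surjective) hs hna _ q with e | e
  · obtain ⟨φ⟩ := Cfsg.Agent.S0494.result e
    obtain ⟨hy, hy1⟩ := cube_of_order ((φ.orderOf_eq _).trans q.order)
    obtain ⟨s', hs2, hs1, hsy, hsy1⟩ := a5_four _ hy hy1
    obtain ⟨s, hse⟩ := QuotientGroup.mk_surjective (φ.symm s')
    have hφs : φ (s : G ⧸ N) = s' := by rw [hse, φ.apply_symm_apply]
    have key := elementary_of_four (Nat.card G) G le_rfl x s h N hs hnil hN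
      (fun e1 => hs1 (by rw [← hφs, e1, map_one]))
      (φ.injective (by rw [map_mul, hφs, hs2, map_one]))
      (by rw [← φ.orderOf_eq, QuotientGroup.mk_mul, map_mul, hφs]; exact orderOf_three_of hsy hsy1)
    exact Or.inr (Or.inl ⟨N, hNn, ⟨⟨fun a b => Subtype.ext ((key a a.2).2 b b.2)⟩⟩,
      fun n hn => (key n hn).1, ⟨φ⟩⟩)
  · haveI : Fact (Nat.Prime 7) := ⟨by norm_num⟩
    obtain ⟨φ⟩ := Cfsg.Agent.S0495.result e (F := ZMod 7) (ZMod.card 7)
    obtain ⟨s', z', hs2, hs1, hsy, hz1, hz7, hyz⟩ := l7_data _ (q.map_equiv φ)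
    obtain ⟨s, hse⟩ := QuotientGroup.mk_surjective (φ.symm s')
    obtain ⟨z, hze⟩ := QuotientGroup.mk_surjective (φ.symm z')
    have hφs : φ (s : G ⧸ N) = s' := by rw [hse, φ.apply_symm_apply]
    have hφz : φ (z : G ⧸ N) = z' := by rw [hze, φ.apply_symm_apply]
    have hb : N = ⊥ := eq_bot_of_four_seven h hnil hN
      (fun e1 => hs1 (by rw [← hφs, e1, map_one]))
      (φ.injective (by rw [map_mul, hφs, hs2, map_one]))
      (by rw [← φ.orderOf_eq, QuotientGroup.mk_mul, map_mul, hφs]; exact hsy)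
      (fun e1 => hz1 (by rw [← hφz, e1, map_one]))
      (φ.injective (by rw [map_pow, hφz, hz7, map_one]))
      (φ.injective (by rw [map_mul, map_mul, map_inv, map_pow, hφz]; exact hyz))
    exact Or.inr (Or.inr ⟨((QuotientGroup.quotientMulEquivOfEq hb).trans QuotientGroup.quotientBot).symm.trans φ⟩)

end CfsgLib.SelfCentThree
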