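import Cfsg.Agent.Lib.SelfCentThree.Maximal
import Cfsg.Agent.Lib.SelfCentThree.Reduce
import Cfsg.Agent.Lib.Linear.Simple
import Mathlib.GroupTheory.SpecificGroups.Alternating.Simple

/-!
The three types as local subgroups.
-/

set_option autoImplicit false
set_option maxHeartbeats 200000

namespace CfsgLib.SelfCentThree

universe u

variable {G : Type u} [Group G] [Finite G] {x i : G} {L D : Subgroup G}

/-- Lifting an inverting element through a kernel of order prime to three. -/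
theorem SC.inverter_mem (h : SC x) (hi : i * x * i⁻¹ = x⁻¹) (hx : x ∈ L) {K : Type*} [Group K] (f : L →* K)
    (hker : ¬ 3 ∣ Nat.card f.ker) {g : L} (hg : f g * f ⟨x, hx⟩ * (f g)⁻¹ = (f ⟨x, hx⟩)⁻¹) : i ∈ L := by
  have hord : f ⟨x, hx⟩ ≠ 1 := fun e => by
    refine hker ?_
    have := Subgroup.orderOf_dvd_natCard f.ker (MonoidHom.mem_ker.2 e)
    rwa [Subgroup.orderOf_mk, h.order] at this
  set L0 : Subgroup L := Subgroup.zpowers (⟨x, hx⟩ : L) ⊔ f.ker
  have hxm : (⟨x, hx⟩ : L) ∈ L0 := Subgroup.mem_sup_left (Subgroup.mem_zpowers _)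
  have hgx : g * ⟨x, hx⟩ * g⁻¹ ∈ L0 := by
    have hm : g * ⟨x, hx⟩ * g⁻¹ * ⟨x, hx⟩ ∈ f.ker := by
      rw [MonoidHom.mem_ker, map_mul, map_mul, map_mul, map_inv, hg, inv_mul_cancel]
    have := L0.mul_mem (Subgroup.mem_sup_right hm) (inv_mem hxm)
    rwa [mul_inv_cancel_right] at this
  obtain ⟨c, hc, hcx⟩ := (h.restrict hx).conj_in hxm hgx ((h.restrict hx).conj g)
  have hcz : f c ∈ Subgroup.zpowers (f ⟨x, hx⟩) := by
    have hm := Subgroup.mem_map_of_mem f hc
    rw [Subgroup.map_sup, (Subgroup.map_eq_bot_iff _).2 le_rfl, sup_bot_eq, MonoidHom.map_zpowers] at hm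
    exact hm
  have hcomm : f c * f ⟨x, hx⟩ * (f c)⁻¹ = f ⟨x, hx⟩ := by
    obtain ⟨k, hk⟩ := Subgroup.mem_zpowers_iff.1 hcz
    rw [← hk, ((Commute.refl _).zpow_left k).eq, mul_inv_cancel_right]
  have hcx' : g * ⟨x, hx⟩ * g⁻¹ = c * (⟨x, hx⟩ : L)⁻¹ * c⁻¹ := by
    refine hcx.resolve_left fun e' => ?_
    have e2 := congrArg f e'
    simp only [map_mul, map_inv] at e2
    rw [hg, hcomm] at e2
    have h3 : f ⟨x, hx⟩ ^ 3 = 1 := by
      rw [← map_pow, show (⟨x, hx⟩ : L) ^ 3 = 1 from Subtype.ext (by simpa using h.pow_three), map_one]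
    refine hord ?_
    have h2 : f ⟨x, hx⟩ ^ 2 = 1 := by rw [sq]; nth_rewrite 1 [← e2]; exact inv_mul_cancel _
    rw [pow_succ, h2, one_mul] at h3
    exact h3
  have hinv' : (c⁻¹ * g : L) * ⟨x, hx⟩ * (c⁻¹ * g)⁻¹ = (⟨x, hx⟩ : L)⁻¹ := by
    calc (c⁻¹ * g : L) * ⟨x, hx⟩ * (c⁻¹ * g)⁻¹ = c⁻¹ * (g * ⟨x, hx⟩ * g⁻¹) * c := by group
      _ = _ := by rw [hcx']; group
  have hz := h.inverts_mul hi (congrArg Subtype.val hinv')
  have hzL : i⁻¹ * ((c⁻¹ * g : L) : G) ∈ L := Subgroup.zpowers_le.2 hx hz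
  have := mul_mem ((c⁻¹ * g : L)).2 (inv_mem hzL)
  rwa [mul_inv_rev, inv_inv, mul_inv_cancel_left] at this

/-- A quotient of order six forces the inverting element inside. -/
theorem SC.inverter_mem_of_six (h : SC x) (hi : i * x * i⁻¹ = x⁻¹) (hx : x ∈ L) (N : Subgroup L) [N.Normal]
    (hN : ¬ 3 ∣ Nat.card N) (h6 : Nat.card (L ⧸ N) = 6) : i ∈ L := by
  have q := (h.restrict hx).quotient N hN
  set xb : L ⧸ N := ((⟨x, hx⟩ : L) : L ⧸ N)
  have hidx : (Subgroup.zpowers xb).index = 2 := by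
    have := Subgroup.card_mul_index (Subgroup.zpowers xb)
    rw [q.card_zpowers, h6] at this; omega
  haveI := Subgroup.normal_of_index_eq_two hidx
  obtain ⟨gb, hgb⟩ : ∃ gb, gb ∉ Subgroup.zpowers xb := by
    by_contra! hall
    rw [(Subgroup.eq_top_iff' _).2 hall, Subgroup.index_top] at hidx
    norm_num at hidx
  have hinv := (q.mem_normalizer_cases (g := gb)
    (by rw [Subgroup.normalizer_eq_top (H := Subgroup.zpowers xb)]; trivial)).resolve_left hgb
  obtain ⟨g', rfl⟩ := QuotientGroup.mk_surjective gb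
  exact h.inverter_mem hi hx (QuotientGroup.mk' N) (by rw [QuotientGroup.ker_mk']; exact hN) (g := g') hinv

theorem alt5_not_solvable : ¬ Group.IsSolvable A5 := by
  intro hs
  haveI : IsSimpleGroup A5 := alternatingGroup.isSimpleGroup (by simp)
  have hc := IsSimpleGroup.comm_iff_isSolvable.2 hs
  have h : ¬ ∀ a b : A5, a * b = b * a := by decide +kernel
  exact h hc

theorem l7_simple : IsSimpleGroup L7 := by
  haveI : Fact (Nat.Prime 7) := ⟨by norm_num⟩
  exact CfsgLib.Linear.isSimpleGroup_PSL_fin 2 le_rfl (fun _ => by rw [Nat.card_zmod]; norm_num)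

theorem not_solvable_of_surjective {H : Type*} [Group H] (f : H →* A5) (hf : Function.Surjective f) :
    ¬ Group.IsSolvable H := fun hs => by
  haveI := hs
  exact alt5_not_solvable (Group.isSolvable_of_surjective hf)

theorem TypeI.isSolvable {H : Type u} [Group H] [Finite H] (hI : TypeI H) : Group.IsSolvable H := by
  obtain ⟨N, hN, hnil, -, hq⟩ := hI
  haveI := hN
  haveI := hnil
  haveI : Group.IsSolvable (H ⧸ N) := by
    rcases hq with e | ⟨⟨e⟩⟩
    · haveI : Fact (Nat.Prime 3) := ⟨Nat.prime_three⟩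
      haveI := isCyclic_of_prime_card (α := H ⧸ N) (p := 3) e
      exact Group.isSolvable_of_comm fun a b => (IsCyclic.commGroup (α := H ⧸ N)).mul_comm a b
    · haveI : Group.IsSolvable (Equiv.Perm (Fin 3)) :=
        Group.isSolvable_of_ker_le_range (alternatingGroup (Fin 3)).subtype (Equiv.Perm.sign)
          (fun σ hσ => ⟨⟨σ, hσ⟩, rfl⟩) (hG' := by
            haveI : Fact (Nat.Prime 3) := ⟨Nat.prime_three⟩
            haveI := isCyclic_of_prime_card (α := alternatingGroup (Fin 3)) (p := 3) (by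
              rw [Nat.card_eq_fintype_card]; decide)
            exact Group.isSolvable_of_comm fun a b => (IsCyclic.commGroup (α := alternatingGroup (Fin 3))).mul_comm a b)
      exact Group.isSolvable_of_surjective (f := e.symm.toMonoidHom) e.symm.surjective
  exact Group.isSolvable_of_ker_le_range N.subtype (QuotientGroup.mk' N) (by simp)

/-- A type I subgroup in local form. -/
theorem SC.locI_of_typeI (h : SC x) (hx : x ∈ L) (hI : TypeI L) :
    ∃ N : Subgroup G, N ≤ L ∧ L ≤ Subgroup.normalizer (N : Set G) ∧ Inv3 x N ∧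
      (Nat.card L = 3 * Nat.card N ∨ Nat.card L = 6 * Nat.card N) ∧
      ∀ Y ≤ L, Inv3 x Y → Y ≤ N := by
  obtain ⟨N, hN, -, hcop, hq⟩ := hI
  haveI := hN
  have h3 := not_three_of_coprime hcop
  have hcN : Nat.card (N.map L.subtype) = Nat.card N := Subgroup.card_map_of_injective L.subtype_injective
  have hn : L ≤ Subgroup.normalizer ((N.map L.subtype : Subgroup G) : Set G) := by
    intro g hg
    rw [Subgroup.mem_normalizer_iff]
    intro w
    constructor
    · rintro ⟨n, hn, rfl⟩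
      exact ⟨⟨g, hg⟩ * n * ⟨g, hg⟩⁻¹, hN.conj_mem n hn _, rfl⟩
    · rintro ⟨n, hn, e⟩
      refine ⟨⟨g, hg⟩⁻¹ * n * ⟨g, hg⟩⁻¹⁻¹, hN.conj_mem n hn _, ?_⟩
      have e' : (n : G) = g * w * g⁻¹ := e
      show g⁻¹ * (n : G) * g⁻¹⁻¹ = w
      rw [e']; group
  refine ⟨N.map L.subtype, Subgroup.map_subtype_le N, hn, ⟨by rw [hcN]; exact h3, hn hx⟩, ?_, fun Y hY hYi => ?_⟩
  · rw [hcN, Subgroup.card_eq_card_quotient_mul_card_subgroup N]
    exact (TypeI.card_quot hq).imp (fun e => by rw [e]) (fun e => by rw [e])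
  · have hY' : Y.subgroupOf L ≤ N := by
      refine (h.restrict hx).le_of_typeI h3 (TypeI.card_quot hq)
        (by rw [Nat.card_congr (Subgroup.subgroupOfEquivOfLe hY).toEquiv]; exact hYi.1) ?_
      rw [Subgroup.mem_normalizer_iff]
      intro w
      simp only [Subgroup.mem_subgroupOf, Subgroup.coe_mul, Subgroup.coe_inv]
      exact Subgroup.mem_normalizer_iff.1 hYi.2 w
    intro y hy
    exact ⟨⟨y, hY hy⟩, hY' (Subgroup.mem_subgroupOf.2 hy), rfl⟩

/-- A group `L` of type II has no nontrivial normal 3'-subgroup outside the kernel. -/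
theorem le_kernel_of_typeII {H : Type u} [Group H] [Finite H] {N : Subgroup H} [N.Normal]
    (e : H ⧸ N ≃* A5) {Y : Subgroup H} [Y.Normal] (hY : ¬ 3 ∣ Nat.card Y) : Y ≤ N := by
  haveI : IsSimpleGroup A5 := alternatingGroup.isSimpleGroup (by simp)
  have hn : (Y.map (e.toMonoidHom.comp (QuotientGroup.mk' N))).Normal :=
    Subgroup.Normal.map inferInstance _ (e.surjective.comp QuotientGroup.mk_surjective)
  rcases hn.eq_bot_or_eq_top with h0 | h0
  · rw [Subgroup.map_eq_bot_iff] at h0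
    intro y hy
    have := MonoidHom.mem_ker.1 (h0 hy)
    rw [← QuotientGroup.eq_one_iff]
    exact e.injective (by rw [map_one]; exact this)
  · exfalso
    refine hY ?_
    have := Subgroup.card_map_dvd Y (e.toMonoidHom.comp (QuotientGroup.mk' N))
    rw [h0, Subgroup.card_top] at this
    refine dvd_trans ?_ this
    rw [Nat.card_eq_fintype_card]; decide

/-- In a proper local subgroup of type II, in map form. -/
def HasA5 (L E : Subgroup G) : Prop :=
  E ≤ L ∧ IsMulCommutative E ∧ (∀ e ∈ E, e ^ 2 = 1) ∧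
    ∃ f : L →* A5, Function.Surjective f ∧ ∀ g : L, f g = 1 ↔ (g : G) ∈ E

theorem hasA5_of_typeII (hII : TypeII L) : ∃ E, HasA5 L E := by
  obtain ⟨N, hN, hc, h2, ⟨e⟩⟩ := hII
  haveI := hN
  haveI := hc
  refine ⟨N.map L.subtype, Subgroup.map_subtype_le N, ⟨⟨fun a b => Subtype.ext ?_⟩⟩, ?_,
    e.toMonoidHom.comp (QuotientGroup.mk' N), e.surjective.comp QuotientGroup.mk_surjective, fun g => ?_⟩
  · obtain ⟨_, a, ha, rfl⟩ := a
    obtain ⟨_, b, hb, rfl⟩ := b
    show L.subtype a * L.subtype b = L.subtype b * L.subtype a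
    rw [← map_mul, setLike_mul_comm (SetLike.mem_coe.1 ha) (SetLike.mem_coe.1 hb), map_mul]
  · rintro _ ⟨a, ha, rfl⟩
    rw [← map_pow, h2 a ha, map_one]
  · constructor
    · intro hg
      refine ⟨g, ?_, rfl⟩
      rw [SetLike.mem_coe, ← QuotientGroup.eq_one_iff]
      exact e.injective (by rw [map_one]; exact hg)
    · rintro ⟨n, hn, e'⟩
      obtain rfl : n = g := Subtype.ext e'
      show e ((n : L) : L ⧸ N) = 1
      rw [(QuotientGroup.eq_one_iff n).2 hn, map_one]

theorem HasA5.le_normalizer {E : Subgroup G} (hE : HasA5 L E) : L ≤ Subgroup.normalizer (E : Set G) := by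
  obtain ⟨hEL, -, -, f, -, hker⟩ := hE
  intro g hg
  rw [Subgroup.mem_normalizer_iff]
  intro w
  constructor
  · intro hw
    have h1 : f (⟨g, hg⟩ * ⟨w, hEL hw⟩ * ⟨g, hg⟩⁻¹) = 1 := by
      rw [map_mul, map_mul, (hker ⟨w, hEL hw⟩).2 hw, mul_one, map_inv, mul_inv_cancel]
    exact (hker _).1 h1
  · intro hw
    have h1 : f (⟨g, hg⟩⁻¹ * ⟨_, hEL hw⟩ * ⟨g, hg⟩) = 1 := by
      rw [map_mul, map_mul, (hker ⟨_, hEL hw⟩).2 hw, mul_one, map_inv, inv_mul_cancel]
    have := (hker _).1 h1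
    simpa [mul_assoc] using this

end CfsgLib.SelfCentThree
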