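import Cfsg.Agent.Lib.SelfCentThree.Maximal
import Cfsg.Agent.Lib.SelfCentThree.Reduce
import Cfsg.Agent.Lib.SelfCentThree.Count

/-!
Prime parts of the maximal invariant subgroups, and the action of the normaliser of `⟨x⟩` on them.
-/

set_option autoImplicit false
set_option maxHeartbeats 200000

namespace CfsgLib.SelfCentThree

variable {G : Type*} [Group G] {x i g : G} {Y H H₁ H₂ D₁ D₂ : Subgroup G}

/-- The conjugate of a subgroup. -/
def cj (g : G) (H : Subgroup G) : Subgroup G := H.map (MulAut.conj g).toMonoidHom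

theorem mem_cj {y : G} : y ∈ cj g H ↔ g⁻¹ * y * g ∈ H := by
  constructor
  · rintro ⟨k, hk, rfl⟩; simpa [mul_assoc] using hk
  · intro hy; exact ⟨_, hy, by simp [mul_assoc]⟩

theorem cj_mul (a b : G) (H : Subgroup G) : cj (a * b) H = cj a (cj b H) := by
  ext y; simp [mem_cj, mul_assoc]

theorem cj_one (H : Subgroup G) : cj 1 H = H := by ext y; simp [mem_cj]

theorem cj_mono {A B : Subgroup G} (hAB : A ≤ B) : cj g A ≤ cj g B := Subgroup.map_mono hAB

theorem cj_eq_self_iff : cj g H = H ↔ g ∈ Subgroup.normalizer (H : Set G) :=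
  (Subgroup.mem_normalizer_iff_map_conj_eq).symm

theorem card_cj [Finite G] (g : G) (H : Subgroup G) : Nat.card (cj g H : Subgroup G) = Nat.card H :=
  Subgroup.card_map_of_injective (MulAut.conj g).injective

theorem cj_eq_bot : cj g H = ⊥ ↔ H = ⊥ :=
  Subgroup.map_eq_bot_iff_of_injective H (MulAut.conj g).injective

variable [Finite G]

theorem Inv3.cj_of (hx : g⁻¹ * x * g ∈ Subgroup.zpowers x) (hH : Inv3 x H) : Inv3 x (cj g H) := by
  refine ⟨by rw [card_cj]; exact hH.1, ?_⟩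
  have hm : g⁻¹ * x * g ∈ Subgroup.normalizer (H : Set G) := Subgroup.zpowers_le.2 hH.2 hx
  rw [Subgroup.mem_normalizer_iff] at hm ⊢
  intro y
  rw [mem_cj, mem_cj, hm]
  simp [mul_assoc]

theorem MaxInv.cj_of (hg : g⁻¹ * x * g ∈ Subgroup.zpowers x) (hg' : g * x * g⁻¹ ∈ Subgroup.zpowers x)
    (hH : MaxInv x H) : MaxInv x (cj g H) := by
  refine ⟨hH.1.cj_of hg, fun Z hZ hle => ?_⟩
  have hZ' : Inv3 x (cj g⁻¹ Z) := hZ.cj_of (by simpa using hg')
  have hle' : H ≤ cj g⁻¹ Z := by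
    have := cj_mono (g := g⁻¹) hle
    rwa [← cj_mul, inv_mul_cancel, cj_one] at this
  rw [← hH.2 _ hZ' hle', ← cj_mul, mul_inv_cancel, cj_one]

section SC

variable (h : SC x)

include h

theorem SC.conj_mem_of_normalizer {n : G} (hn : n ∈ Subgroup.normalizer (Subgroup.zpowers x : Set G)) :
    n⁻¹ * x * n ∈ Subgroup.zpowers x ∧ n * x * n⁻¹ ∈ Subgroup.zpowers x := by
  refine ⟨?_, (Subgroup.mem_normalizer_iff.1 hn x).1 (Subgroup.mem_zpowers x)⟩
  simpa using (Subgroup.mem_normalizer_iff.1 (inv_mem hn) x).1 (Subgroup.mem_zpowers x)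

variable (hi : i * x * i⁻¹ = x⁻¹)

include hi

omit h in
theorem inverter_conj_mem : i⁻¹ * x * i ∈ Subgroup.zpowers x ∧ i * x * i⁻¹ ∈ Subgroup.zpowers x := by
  refine ⟨?_, hi ▸ inv_mem (Subgroup.mem_zpowers x)⟩
  have hn := mem_normalizer_zpowers_of_inverts hi
  simpa using (Subgroup.mem_normalizer_iff.1 (inv_mem hn) x).1 (Subgroup.mem_zpowers x)

theorem MaxInv.cj_inverter (hH : MaxInv x H) : MaxInv x (cj i H) :=
  hH.cj_of (inverter_conj_mem hi).1 (inverter_conj_mem hi).2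

/-- Maximal subgroups over conjugate invariant subgroups differ by an element of `N(⟨x⟩)`. -/
theorem LocI.related (hloc : LocI x) (h₁ : MaxInv x H₁) (h₂ : MaxInv x H₂) (hD₁ : D₁ ≠ ⊥) (i₁ : Inv3 x D₁)
    (i₂ : Inv3 x D₂) (le₁ : D₁ ≤ H₁) (le₂ : D₂ ≤ H₂) (hg : cj g D₁ = D₂) : H₂ = H₁ ∨ H₂ = cj i H₁ := by
  have hx' : g⁻¹ * x * g ∈ Subgroup.normalizer (D₁ : Set G) := by
    have := i₂.2
    rw [← hg, ← cj_eq_self_iff, ← cj_mul] at this
    rw [← cj_eq_self_iff, mul_assoc, cj_mul, this, ← cj_mul, inv_mul_cancel, cj_one]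
  obtain ⟨c, hc, hcx⟩ := h.conj_in i₁.2 hx' (by simpa using h.conj g⁻¹)
  have hn : g * c ∈ Subgroup.normalizer (Subgroup.zpowers x : Set G) := by
    rcases hcx with e | e
    · refine Subgroup.le_normalizer (h.cent _ ?_)
      calc g * c * x = g * (c * x * c⁻¹) * c := by group
        _ = x * (g * c) := by rw [← e]; group
    · refine mem_normalizer_zpowers_of_inverts ?_
      calc g * c * x * (g * c)⁻¹ = g * (c * x⁻¹ * c⁻¹)⁻¹ * g⁻¹ := by group
        _ = x⁻¹ := by rw [← e]; group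
  obtain ⟨m1, m2⟩ := h.conj_mem_of_normalizer hn
  have hmax := h₁.cj_of m1 m2
  have hle : D₂ ≤ cj (g * c) H₁ := by
    rw [← hg, cj_mul]
    refine cj_mono ?_
    rw [← cj_eq_self_iff.2 hc]
    exact cj_mono le₁
  have e : H₂ = cj (g * c) H₁ := hloc.unique h h₂ hmax
    (fun e => hD₁ (cj_eq_bot.1 (hg.trans e))) i₂ le₂ hle
  subst e
  rcases (h.inverts_iff hi).1 hn with e | e
  · exact Or.inl (cj_eq_self_iff.2 (Subgroup.zpowers_le.2 h₁.1.2 e))
  · right
    have e2 : cj (i * (g * c)) H₁ = H₁ := cj_eq_self_iff.2 (Subgroup.zpowers_le.2 h₁.1.2 e)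
    conv_rhs => rw [← e2]
    rw [← cj_mul, ← mul_assoc, h.inverter_sq hi, one_mul]

/-- An inverting element lies in no invariant subgroup of order prime to three. -/
theorem SC.inverter_not_mem_inv (hY : Inv3 x Y) : i ∉ Y := by
  intro e
  have h2 : i * (x * i⁻¹ * x⁻¹) ∈ Y := mul_mem e (conj_mem_of_mem_normalizer hY.2 (inv_mem e))
  rw [show i * (x * i⁻¹ * x⁻¹) = (i * x * i⁻¹) * x⁻¹ by group, hi] at h2
  have h3 : orderOf (x⁻¹ * x⁻¹) = 3 := by
    rw [show x⁻¹ * x⁻¹ = x by rw [← mul_inv_rev, ← h.inv_eq, inv_inv], h.order]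
  exact hY.1 (h3 ▸ Subgroup.orderOf_dvd_natCard Y h2)

theorem SC.card_sup_inverter (hY : Inv3 x Y) (hiY : i ∈ Subgroup.normalizer (Y : Set G)) :
    Nat.card (Y ⊔ Subgroup.zpowers i : Subgroup G) = 2 * Nat.card Y := by
  set W := Y ⊔ Subgroup.zpowers i
  have hle : Y ≤ W := le_sup_left
  have h2 : Nat.card (Subgroup.zpowers i) = 2 := by rw [Nat.card_zpowers, h.orderOf_inverter hi]
  have hd := CfsgLib.Solvable.card_sup_dvd (N := Y) (H := Subgroup.zpowers i) (Subgroup.zpowers_le.2 hiY)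
  rw [h2] at hd
  obtain ⟨k, hk⟩ := Subgroup.card_dvd_of_le hle
  have hk2 : k ∣ 2 := Nat.dvd_of_mul_dvd_mul_left Nat.card_pos (hk ▸ hd)
  rcases (Nat.dvd_prime Nat.prime_two).1 hk2 with e | e
  · exfalso
    have : Y = W := Subgroup.eq_of_le_of_card_ge hle (by rw [hk, e, mul_one])
    exact h.inverter_not_mem_inv hi hY (this ▸ Subgroup.mem_sup_right (Subgroup.mem_zpowers i))
  · rw [hk, e, mul_comm]

/-- `i` normalises `H` exactly when `|N(H)| = 6|H|`. -/
theorem LocI.card_normalizer_iff (hloc : LocI x) (hH : MaxInv x H) (hne : H ≠ ⊥) :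
    (i ∈ Subgroup.normalizer (H : Set G) → Nat.card (Subgroup.normalizer (H : Set G)) = 6 * Nat.card H) ∧
      (i ∉ Subgroup.normalizer (H : Set G) → Nat.card (Subgroup.normalizer (H : Set G)) = 3 * Nat.card H) := by
  set L := Subgroup.normalizer (H : Set G) with hL
  obtain ⟨-, hcard⟩ := hloc.normalizer_spec h hH hne hH.1 le_rfl Subgroup.le_normalizer
  refine ⟨fun hiH => hcard.resolve_left fun e => ?_, fun hiH => hcard.resolve_right fun e => hiH ?_⟩
  · have hd := Subgroup.card_dvd_of_le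
      (sup_le Subgroup.le_normalizer (Subgroup.zpowers_le.2 hiH) : H ⊔ Subgroup.zpowers i ≤ L)
    rw [h.card_sup_inverter hi hH.1 hiH, hL, e] at hd
    have := Nat.dvd_of_mul_dvd_mul_right Nat.card_pos hd
    norm_num at this
  · have hxL : x ∈ L := hH.1.2
    haveI : (H.subgroupOf L).Normal := Subgroup.normal_in_normalizer
    have hcN : Nat.card (H.subgroupOf L) = Nat.card H :=
      Nat.card_congr (Subgroup.subgroupOfEquivOfLe Subgroup.le_normalizer).toEquiv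
    have q := (h.restrict hxL).quotient (H.subgroupOf L) (by rw [hcN]; exact hH.1.1)
    have hq6 : Nat.card (L ⧸ H.subgroupOf L) = 6 := by
      have := Subgroup.card_eq_card_quotient_mul_card_subgroup (H.subgroupOf L)
      rw [hcN, e] at this
      exact (Nat.eq_of_mul_eq_mul_right Nat.card_pos this).symm
    set xb : L ⧸ H.subgroupOf L := ((⟨x, hxL⟩ : L) : L ⧸ H.subgroupOf L)
    have hidx : (Subgroup.zpowers xb).index = 2 := by
      have := Subgroup.card_mul_index (Subgroup.zpowers xb)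
      rw [q.card_zpowers, hq6] at this; omega
    haveI := Subgroup.normal_of_index_eq_two hidx
    obtain ⟨gb, hgb⟩ : ∃ gb, gb ∉ Subgroup.zpowers xb := by
      by_contra! hall
      rw [(Subgroup.eq_top_iff' _).2 hall, Subgroup.index_top] at hidx
      norm_num at hidx
    have hinv := (q.mem_normalizer_cases (g := gb)
      (by rw [Subgroup.normalizer_eq_top (H := Subgroup.zpowers xb)]; trivial)).resolve_left hgb
    obtain ⟨g', rfl⟩ := QuotientGroup.mk_surjective gb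
    set L0 : Subgroup L := Subgroup.zpowers (⟨x, hxL⟩ : L) ⊔ H.subgroupOf L
    have hxm : (⟨x, hxL⟩ : L) ∈ L0 := Subgroup.mem_sup_left (Subgroup.mem_zpowers _)
    have hgx : g' * ⟨x, hxL⟩ * g'⁻¹ ∈ L0 := by
      have hm : g' * ⟨x, hxL⟩ * g'⁻¹ * ⟨x, hxL⟩ ∈ H.subgroupOf L := by
        rw [← QuotientGroup.eq_one_iff, QuotientGroup.mk_mul, QuotientGroup.mk_mul, QuotientGroup.mk_mul,
          QuotientGroup.mk_inv, hinv, inv_mul_cancel]
      have := L0.mul_mem (Subgroup.mem_sup_right hm) (inv_mem hxm)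
      rwa [mul_inv_cancel_right] at this
    obtain ⟨c, hc, hcx⟩ := (h.restrict hxL).conj_in hxm hgx ((h.restrict hxL).conj g')
    have hcz : (c : L ⧸ H.subgroupOf L) ∈ Subgroup.zpowers xb := by
      have hm := Subgroup.mem_map_of_mem (QuotientGroup.mk' (H.subgroupOf L)) hc
      rw [Subgroup.map_sup, QuotientGroup.map_mk'_self, sup_bot_eq, MonoidHom.map_zpowers] at hm
      exact hm
    have hcomm : (c : L ⧸ H.subgroupOf L) * xb * (c : L ⧸ H.subgroupOf L)⁻¹ = xb := by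
      obtain ⟨k, hk⟩ := Subgroup.mem_zpowers_iff.1 hcz
      rw [← hk, ((Commute.refl xb).zpow_left k).eq, mul_inv_cancel_right]
    have hcx' : g' * ⟨x, hxL⟩ * g'⁻¹ = c * (⟨x, hxL⟩ : L)⁻¹ * c⁻¹ := by
      refine hcx.resolve_left fun e' => ?_
      have e2 := congrArg (fun w : L => (w : L ⧸ H.subgroupOf L)) e'
      simp only [QuotientGroup.mk_mul, QuotientGroup.mk_inv] at e2
      rw [hinv, hcomm] at e2
      have := orderOf_dvd_of_pow_eq_one (show xb ^ 2 = 1 by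
        rw [sq]; nth_rewrite 1 [← e2]; exact inv_mul_cancel _)
      rw [q.order] at this; norm_num at this
    have hinv' : (c⁻¹ * g' : L) * ⟨x, hxL⟩ * (c⁻¹ * g')⁻¹ = (⟨x, hxL⟩ : L)⁻¹ := by
      calc (c⁻¹ * g' : L) * ⟨x, hxL⟩ * (c⁻¹ * g')⁻¹ = c⁻¹ * (g' * ⟨x, hxL⟩ * g'⁻¹) * c := by group
        _ = _ := by rw [hcx']; group
    have hz := h.inverts_mul hi (congrArg Subtype.val hinv')
    have hzL : i⁻¹ * ((c⁻¹ * g' : L) : G) ∈ L := Subgroup.zpowers_le.2 hxL hz
    have := mul_mem ((c⁻¹ * g' : L)).2 (inv_mem hzL)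
    rwa [mul_inv_rev, inv_inv, mul_inv_cancel_left] at this

end SC

/-- The `p`-part of a nilpotent subgroup. -/
theorem exists_part (h : SC x) (hH : Inv3 x H) (p : ℕ) [Fact p.Prime] :
    ∃ P : Subgroup G, P ≤ H ∧ Nat.card P = p ^ (Nat.card H).factorization p ∧ IsPGroup p P ∧
      Subgroup.normalizer (H : Set G) ≤ Subgroup.normalizer (P : Set G) := by
  haveI := h.isNilpotent hH.1 hH.2
  obtain ⟨S⟩ : Nonempty (Sylow p H) := inferInstance
  refine ⟨(S : Subgroup H).map H.subtype, Subgroup.map_subtype_le _, ?_, S.isPGroup'.map _, fun g hg => ?_⟩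
  · rw [Subgroup.card_map_of_injective H.subtype_injective]; exact S.card_eq_multiplicity
  rw [Subgroup.mem_normalizer_iff_map_conj_eq, Subgroup.map_map]
  refine Subgroup.eq_of_le_of_card_ge ?_ ?_
  · rintro _ ⟨a, ha, rfl⟩
    let φ : H ≃* H := H.normalizerMonoidHom ⟨g, hg⟩
    have hφ : ∀ z : H, (φ z : G) = g * z * g⁻¹ := fun z => by
      simp [φ, Subgroup.normalizerMonoidHom]
      rfl
    obtain ⟨T, hT⟩ := (S.isPGroup'.map φ.toMonoidHom).exists_le_sylow
    haveI := Sylow.unique_of_normal S inferInstance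
    have hST : T = S := Subsingleton.elim T S
    exact ⟨φ a, hST ▸ hT ⟨a, ha, rfl⟩, by simp [hφ]⟩
  · rw [Subgroup.card_map_of_injective H.subtype_injective,
      Subgroup.card_map_of_injective ((MulAut.conj g).injective.comp H.subtype_injective)]

/-- A prime part of `H` which is a Sylow subgroup of its normaliser is a Sylow subgroup. -/
theorem not_dvd_succ {P : Subgroup G} {p v : ℕ} [Fact p.Prime] (hP : Nat.card P = p ^ v)
    (hN : ¬ p ^ (v + 1) ∣ Nat.card (Subgroup.normalizer (P : Set G))) : ¬ p ^ (v + 1) ∣ Nat.card G := by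
  exact fun hd => hN (Sylow.prime_pow_dvd_card_normalizer hd hP)

theorem LocI.part_not_dvd (h : SC x) (hi : i * x * i⁻¹ = x⁻¹) (hloc : LocI x) (hH : MaxInv x H) {p : ℕ}
    [Fact p.Prime] (hp : p ∣ Nat.card H) (hcase : p ≠ 2 ∨ i ∉ Subgroup.normalizer (H : Set G)) :
    ¬ p ^ ((Nat.card H).factorization p + 1) ∣ Nat.card G := by
  have hne : H ≠ ⊥ := fun e => by
    rw [e, Subgroup.card_bot, Nat.dvd_one] at hp
    exact (Fact.out : p.Prime).one_lt.ne hp.symm
  obtain ⟨P, hPH, hPc, hPp, hPn⟩ := exists_part h hH.1 p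
  have hPne : P ≠ ⊥ := fun e => by
    rw [e, Subgroup.card_bot] at hPc
    rcases Nat.pow_eq_one.1 hPc.symm with h1 | h1
    · exact (Fact.out : p.Prime).one_lt.ne h1.symm
    · rcases Nat.factorization_eq_zero_iff _ _ |>.1 h1 with h2 | h2 | h2
      · exact h2 Fact.out
      · exact h2 hp
      · exact Nat.card_pos.ne' h2
  refine not_dvd_succ hPc fun hd => ?_
  obtain ⟨hle, -⟩ := hloc.normalizer_spec h hH hPne (hH.1.of_le hPH (hPn hH.1.2)) hPH
    (Subgroup.le_normalizer.trans hPn)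
  have hd' := hd.trans (Subgroup.card_dvd_of_le hle)
  have hp3 : p ≠ 3 := fun e => hH.1.1 (e ▸ hp)
  obtain ⟨h6, h3⟩ := hloc.card_normalizer_iff h hi hH hne
  have hcop : ∀ k, k = 3 ∨ (k = 6 ∧ p ≠ 2) → (p ^ ((Nat.card H).factorization p + 1)).Coprime k := by
    intro k hk
    refine Nat.Coprime.pow_left _ (((Fact.out : p.Prime).coprime_iff_not_dvd).2 fun e => ?_)
    rcases hk with rfl | ⟨rfl, h2⟩
    · exact hp3 ((Nat.prime_dvd_prime_iff_eq Fact.out Nat.prime_three).1 e)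
    · rcases (Fact.out : p.Prime).dvd_mul.1 (show p ∣ 2 * 3 from e) with e' | e'
      · exact h2 ((Nat.prime_dvd_prime_iff_eq Fact.out Nat.prime_two).1 e')
      · exact hp3 ((Nat.prime_dvd_prime_iff_eq Fact.out Nat.prime_three).1 e')
  have hfin : p ^ ((Nat.card H).factorization p + 1) ∣ Nat.card H := by
    by_cases hiH : i ∈ Subgroup.normalizer (H : Set G)
    · exact (hcop 6 (Or.inr ⟨rfl, hcase.resolve_right (not_not.2 hiH)⟩)).dvd_of_dvd_mul_left (h6 hiH ▸ hd')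
    · exact (hcop 3 (Or.inl rfl)).dvd_of_dvd_mul_left (h3 hiH ▸ hd')
  exact Nat.pow_succ_factorization_not_dvd Nat.card_pos.ne' Fact.out hfin

/-- Sharing a prime whose part is a Sylow subgroup relates the subgroups. -/
theorem LocI.related_of_prime (h : SC x) (hi : i * x * i⁻¹ = x⁻¹) (hloc : LocI x) (h₁ : MaxInv x H₁)
    (h₂ : MaxInv x H₂) {p : ℕ} [Fact p.Prime] (hp₁ : p ∣ Nat.card H₁) (hp₂ : p ∣ Nat.card H₂)
    (hc₁ : p ≠ 2 ∨ i ∉ Subgroup.normalizer (H₁ : Set G))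
    (hc₂ : p ≠ 2 ∨ i ∉ Subgroup.normalizer (H₂ : Set G)) : H₂ = H₁ ∨ H₂ = cj i H₁ := by
  obtain ⟨P₁, hP₁, c₁, g₁, n₁⟩ := exists_part h h₁.1 p
  obtain ⟨P₂, hP₂, c₂, g₂, n₂⟩ := exists_part h h₂.1 p
  have hv : ∀ {H : Subgroup G}, MaxInv x H → p ∣ Nat.card H → (p ≠ 2 ∨ i ∉ Subgroup.normalizer (H : Set G)) →
      ∀ {P : Subgroup G}, Nat.card P = p ^ (Nat.card H).factorization p → IsPGroup p P →
      ∀ Q : Sylow p G, P ≤ Q → P = (Q : Subgroup G) := by
    intro H hH hp hc P hP _ Q hPQ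
    refine Subgroup.eq_of_le_of_card_ge hPQ ?_
    obtain ⟨n, hn⟩ := IsPGroup.iff_card.1 Q.isPGroup'
    rw [hn, hP]
    refine Nat.pow_le_pow_right (Fact.out : p.Prime).pos (Nat.le_of_not_lt fun hlt => ?_)
    exact hloc.part_not_dvd h hi hH hp hc ((pow_dvd_pow p hlt).trans (hn ▸ Subgroup.card_subgroup_dvd_card _))
  obtain ⟨Q₁, hQ₁⟩ := g₁.exists_le_sylow
  obtain ⟨Q₂, hQ₂⟩ := g₂.exists_le_sylow
  have e₁ := hv h₁ hp₁ hc₁ c₁ g₁ Q₁ hQ₁
  have e₂ := hv h₂ hp₂ hc₂ c₂ g₂ Q₂ hQ₂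
  obtain ⟨g, hg⟩ := MulAction.exists_smul_eq G Q₁ Q₂
  refine hloc.related h hi h₁ h₂ (g := g) (D₁ := P₁) (D₂ := P₂) ?_ (h₁.1.of_le hP₁ (n₁ h₁.1.2))
    (h₂.1.of_le hP₂ (n₂ h₂.1.2)) hP₁ hP₂ ?_
  · intro e
    rw [e, Subgroup.card_bot] at c₁
    rcases Nat.pow_eq_one.1 c₁.symm with h1 | h1
    · exact (Fact.out : p.Prime).one_lt.ne h1.symm
    · have := (Fact.out : p.Prime).factorization_pos_of_dvd Nat.card_pos.ne' hp₁
      omega
  · rw [e₁, e₂, ← hg, Sylow.coe_subgroup_smul]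
    rfl

end CfsgLib.SelfCentThree
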