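import Cfsg.Agent.Lib.SelfCentThree.Lifts
import Cfsg.Agent.Lib.SelfCentThree.Parts

/-!
Tools for local subgroups of a simple group.
-/

set_option autoImplicit false
set_option maxHeartbeats 400000

namespace CfsgLib.SelfCentThree

universe u

variable {G : Type u} [Group G] [Finite G] {x i : G} {L N P Q Y D : Subgroup G}

omit [Finite G] in
theorem not_three_two_pow (n : ℕ) : ¬ 3 ∣ 2 ^ n := fun e =>
  absurd ((Nat.prime_dvd_prime_iff_eq Nat.prime_three Nat.prime_two).1 (Nat.prime_three.dvd_of_dvd_pow e)) (by norm_num)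

theorem isPGroup_two_of_exp (hexp : ∀ e ∈ Y, e * e = 1) : IsPGroup 2 Y :=
  fun e => ⟨1, Subtype.ext (by simpa [sq] using hexp e e.2)⟩

theorem not_three_of_two_group (hY : IsPGroup 2 Y) : ¬ 3 ∣ Nat.card Y := by
  haveI : Fact (Nat.Prime 2) := ⟨Nat.prime_two⟩
  obtain ⟨n, hn⟩ := IsPGroup.iff_card.1 hY
  exact hn ▸ not_three_two_pow n

/-- A two-subgroup of `N` lies in a normal subgroup of order the two-part of `|N|`. -/
theorem le_part (hP : Nat.card P = 2 ^ (Nat.card N).factorization 2) (hPN : P ≤ N)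
    (hn : N ≤ Subgroup.normalizer (P : Set G)) (hQN : Q ≤ N) (hQ : IsPGroup 2 Q) : Q ≤ P := by
  haveI : Fact (Nat.Prime 2) := ⟨Nat.prime_two⟩
  have hW : IsPGroup 2 (Q ⊔ P : Subgroup G) :=
    hQ.to_sup_of_normal_right' (IsPGroup.of_card hP) (hQN.trans hn)
  obtain ⟨m, hm⟩ := IsPGroup.iff_card.1 hW
  have hd : 2 ^ m ∣ Nat.card N := hm ▸ Subgroup.card_dvd_of_le (sup_le hQN hPN)
  have hle := (Nat.prime_two.pow_dvd_iff_le_factorization Nat.card_pos.ne').1 hd
  exact le_sup_left.trans (Subgroup.eq_of_le_of_card_ge le_sup_right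
    (by rw [hm, hP]; exact Nat.pow_le_pow_right (by norm_num) hle)).ge

theorem normalizer_ne_top [IsSimpleGroup G] (h : SC x) (hD : D ≠ ⊥) (hDi : Inv3 x D) :
    Subgroup.normalizer (D : Set G) ≠ ⊤ := fun e => by
  rcases (Subgroup.normalizer_eq_top_iff.1 e).eq_bot_or_eq_top with h0 | h0
  · exact hD h0
  · refine hDi.1 ?_
    rw [h0, Subgroup.card_top, ← h.order]
    exact orderOf_dvd_natCard x

/-- A local subgroup is not `L₂(7)`. -/
theorem not_l7 (hx : x ∈ L) (h : SC x) (hY : Y ≠ ⊥) (hYi : Inv3 x Y) (hYL : Y ≤ L)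
    (hn : L ≤ Subgroup.normalizer (Y : Set G)) : ¬ Nonempty (L ≃* L7) := by
  rintro ⟨e⟩
  haveI := l7_simple
  haveI : IsSimpleGroup L := e.isSimpleGroup
  have hnor : (Y.subgroupOf L).Normal := (Subgroup.normal_subgroupOf_iff_le_normalizer hYL).2 hn
  rcases hnor.eq_bot_or_eq_top with h0 | h0
  · exact hY ((Subgroup.subgroupOf_eq_bot.1 h0).eq_bot_of_le hYL)
  · exact hYi.1 (h.order ▸ Subgroup.orderOf_dvd_natCard Y (Subgroup.subgroupOf_eq_top.1 h0 hx))

/-- In type II a normal subgroup of order prime to three is elementary abelian. -/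
theorem TypeII.elementary (hII : TypeII L) (hY : ¬ 3 ∣ Nat.card Y) (hYL : Y ≤ L)
    (hn : L ≤ Subgroup.normalizer (Y : Set G)) {a b : G} (ha : a ∈ Y) (hb : b ∈ Y) : a * b = b * a ∧ a * a = 1 := by
  obtain ⟨N, hN, hc, h2, ⟨e⟩⟩ := hII
  haveI := hN
  haveI := hc
  haveI : (Y.subgroupOf L).Normal := (Subgroup.normal_subgroupOf_iff_le_normalizer hYL).2 hn
  have hle : Y.subgroupOf L ≤ N := le_kernel_of_typeII e
    (by rw [Nat.card_congr (Subgroup.subgroupOfEquivOfLe hYL).toEquiv]; exact hY)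
  have ha' : (⟨a, hYL ha⟩ : L) ∈ N := hle (Subgroup.mem_subgroupOf.2 ha)
  have hb' : (⟨b, hYL hb⟩ : L) ∈ N := hle (Subgroup.mem_subgroupOf.2 hb)
  exact ⟨congrArg Subtype.val (setLike_mul_comm ha' hb'),
    by simpa [sq] using congrArg Subtype.val (h2 _ ha')⟩

/-- A type II local subgroup contains the inverting element. -/
theorem TypeII.inverter_mem (hII : TypeII L) (h : SC x) (hi : i * x * i⁻¹ = x⁻¹) (hx : x ∈ L) : i ∈ L := by
  obtain ⟨N, hN, hc, h2, ⟨e⟩⟩ := hII
  haveI := hN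
  haveI : Fact (Nat.Prime 2) := ⟨Nat.prime_two⟩
  set f := e.toMonoidHom.comp (QuotientGroup.mk' N) with hf
  have hker : f.ker = N := by
    ext a
    rw [MonoidHom.mem_ker, hf, MonoidHom.comp_apply]
    exact e.map_eq_one_iff.trans (QuotientGroup.eq_one_iff a)
  obtain ⟨n, hn⟩ := IsPGroup.iff_card.1 (show IsPGroup 2 N from fun a => ⟨1, Subtype.ext (by simpa using h2 a a.2)⟩)
  have h3 : ¬ 3 ∣ Nat.card f.ker := by rw [hker, hn]; exact not_three_two_pow n
  set y := f ⟨x, hx⟩ with hy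
  have hy3 : y * y * y = 1 := by
    rw [hy, ← map_mul, ← map_mul, show (⟨x, hx⟩ : L) * ⟨x, hx⟩ * ⟨x, hx⟩ = 1 from Subtype.ext (by
      simpa [pow_succ] using h.pow_three), map_one]
  have hy1 : y ≠ 1 := fun e1 => h3 (by
    have := Subgroup.orderOf_dvd_natCard f.ker (MonoidHom.mem_ker.2 e1)
    rwa [Subgroup.orderOf_mk, h.order] at this)
  obtain ⟨t, ht2, ht⟩ := a5_inverted y hy3 hy1
  obtain ⟨g, hg⟩ := (e.surjective.comp QuotientGroup.mk_surjective) t
  exact h.inverter_mem hi hx f h3 (g := g) (by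
    rw [show f g = t from hg, inv_eq_of_mul_eq_one_right ht2]; exact ht)

theorem mem_of_six (h : SC x) (hi : i * x * i⁻¹ = x⁻¹) (hx : x ∈ L) (hNL : N ≤ L)
    (hn : L ≤ Subgroup.normalizer (N : Set G)) (hN : ¬ 3 ∣ Nat.card N) (h6 : Nat.card L = 6 * Nat.card N) : i ∈ L := by
  haveI : (N.subgroupOf L).Normal := (Subgroup.normal_subgroupOf_iff_le_normalizer hNL).2 hn
  have hc : Nat.card (N.subgroupOf L) = Nat.card N := Nat.card_congr (Subgroup.subgroupOfEquivOfLe hNL).toEquiv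
  refine h.inverter_mem_of_six hi hx (N.subgroupOf L) (by rw [hc]; exact hN) ?_
  have := Subgroup.card_eq_card_quotient_mul_card_subgroup (N.subgroupOf L)
  rw [hc, h6] at this
  exact (Nat.eq_of_mul_eq_mul_right Nat.card_pos this).symm

/-- A proper local subgroup not containing `i`: the kernel of index three. -/
theorem local_kernel [IsSimpleGroup G] (h : SC x) (hi : i * x * i⁻¹ = x⁻¹)
    (hprop : ∀ L : Subgroup G, L ≠ ⊤ → x ∈ L → Concl L) (hD : D ≠ ⊥) (hDi : Inv3 x D)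
    (hiD : i ∉ Subgroup.normalizer (D : Set G)) :
    ∃ N : Subgroup G, N ≤ Subgroup.normalizer (D : Set G) ∧
      Subgroup.normalizer (D : Set G) ≤ Subgroup.normalizer (N : Set G) ∧ Inv3 x N ∧
      Nat.card (Subgroup.normalizer (D : Set G)) = 3 * Nat.card N ∧
      ∀ Y ≤ Subgroup.normalizer (D : Set G), Inv3 x Y → Y ≤ N := by
  rcases hprop _ (normalizer_ne_top h hD hDi) hDi.2 with hI | hII | hL
  · obtain ⟨N, h1, h2, h3, h4, h5⟩ := h.locI_of_typeI hDi.2 hI
    exact ⟨N, h1, h2, h3, h4.resolve_right fun e => hiD (mem_of_six h hi hDi.2 h1 h2 h3.1 e), h5⟩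
  · exact absurd (hII.inverter_mem h hi hDi.2) hiD
  · exact absurd hL (not_l7 hDi.2 h hD hDi Subgroup.le_normalizer le_rfl)

end CfsgLib.SelfCentThree
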