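import Cfsg.Agent.Lib.SelfCentThree.Structure
import Cfsg.Agent.Lib.NilpPerm.Bound

/-!
Maximal invariant subgroups of order prime to three, when all local subgroups are of type I.
-/

set_option autoImplicit false
set_option maxHeartbeats 200000

namespace CfsgLib.SelfCentThree

variable {G : Type*} [Group G] [Finite G] {x i g : G} {Y D H H₁ H₂ : Subgroup G}

/-- An invariant subgroup of order prime to three. -/
def Inv3 (x : G) (Y : Subgroup G) : Prop := ¬ 3 ∣ Nat.card Y ∧ x ∈ Subgroup.normalizer (Y : Set G)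

/-- A maximal one. -/
def MaxInv (x : G) (H : Subgroup G) : Prop := Inv3 x H ∧ ∀ Y, Inv3 x Y → H ≤ Y → Y = H

/-- All local subgroups are of type I. -/
def LocI (x : G) : Prop :=
  ∀ D : Subgroup G, D ≠ ⊥ → Inv3 x D → ∃ N : Subgroup G,
    N ≤ Subgroup.normalizer (D : Set G) ∧
      Subgroup.normalizer (D : Set G) ≤ Subgroup.normalizer (N : Set G) ∧ Inv3 x N ∧
      (Nat.card (Subgroup.normalizer (D : Set G)) = 3 * Nat.card N ∨
        Nat.card (Subgroup.normalizer (D : Set G)) = 6 * Nat.card N) ∧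
      ∀ Y ≤ Subgroup.normalizer (D : Set G), Inv3 x Y → Y ≤ N

omit [Finite G] in
theorem mem_normalizer_inf {A B : Subgroup G} (hA : g ∈ Subgroup.normalizer (A : Set G))
    (hB : g ∈ Subgroup.normalizer (B : Set G)) : g ∈ Subgroup.normalizer ((A ⊓ B : Subgroup G) : Set G) := by
  rw [Subgroup.mem_normalizer_iff] at hA hB ⊢
  intro k
  rw [Subgroup.mem_inf, Subgroup.mem_inf, hA, hB]

omit [Finite G] in
theorem mem_normalizer_normalizer (hA : g ∈ Subgroup.normalizer (Y : Set G)) :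
    g ∈ Subgroup.normalizer (Subgroup.normalizer (Y : Set G) : Set G) := Subgroup.le_normalizer hA

theorem Inv3.of_le (h : Inv3 x H) (hY : Y ≤ H) (hx : x ∈ Subgroup.normalizer (Y : Set G)) : Inv3 x Y :=
  ⟨fun e => h.1 (e.trans (Subgroup.card_dvd_of_le hY)), hx⟩

theorem Inv3.exists_max (h : Inv3 x Y) : ∃ H, MaxInv x H ∧ Y ≤ H := by
  let S := {K : Subgroup G // Inv3 x K ∧ Y ≤ K}
  haveI : Nonempty S := ⟨⟨Y, h, le_rfl⟩⟩
  obtain ⟨⟨K, hK, hYK⟩, hmax⟩ := Finite.exists_max (fun K : S => Nat.card K.1)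
  exact ⟨K, ⟨hK, fun Z hZ hKZ => (Subgroup.eq_of_le_of_card_ge hKZ (hmax ⟨Z, hZ, hYK.trans hKZ⟩)).symm⟩, hYK⟩

variable (h : SC x)

include h

theorem lt_inf_normalizer (hH : Inv3 x H) (hD : D < H) : D < H ⊓ Subgroup.normalizer (D : Set G) := by
  haveI := h.isNilpotent hH.1 hH.2
  refine lt_of_le_not_ge (le_inf hD.le Subgroup.le_normalizer) fun hle => ?_
  have hlt : D.subgroupOf H < ⊤ := lt_top_iff_ne_top.2 fun e => hD.not_ge (Subgroup.subgroupOf_eq_top.1 e)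
  have h2 := Group.normalizerCondition_of_isNilpotent (G := H) _ hlt
  refine h2.not_ge fun a ha => ?_
  refine Subgroup.mem_subgroupOf.2 (hle (Subgroup.mem_inf.2 ⟨a.2, ?_⟩))
  rw [Subgroup.mem_normalizer_iff] at ha ⊢
  intro k
  refine ⟨fun hk => ?_, fun hk => ?_⟩
  · have := (ha ⟨k, hD.le hk⟩).1 (Subgroup.mem_subgroupOf.2 hk)
    simpa [Subgroup.mem_subgroupOf] using this
  · have hkH : k ∈ H := by
      simpa [mul_assoc] using mul_mem (mul_mem (inv_mem a.2) (hD.le hk)) a.2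
    have := (ha ⟨k, hkH⟩).2 (Subgroup.mem_subgroupOf.2 (by simpa using hk))
    exact Subgroup.mem_subgroupOf.1 this

variable (hloc : LocI x)

include hloc

theorem LocI.unique (h₁ : MaxInv x H₁) (h₂ : MaxInv x H₂) (hD : D ≠ ⊥) (hDi : Inv3 x D) (hD₁ : D ≤ H₁)
    (hD₂ : D ≤ H₂) : H₁ = H₂ := by
  by_contra hne
  let S := {D : Subgroup G // D ≠ ⊥ ∧ Inv3 x D ∧
    ∃ K₁ K₂, MaxInv x K₁ ∧ MaxInv x K₂ ∧ K₁ ≠ K₂ ∧ D ≤ K₁ ∧ D ≤ K₂}
  haveI : Nonempty S := ⟨⟨D, hD, hDi, H₁, H₂, h₁, h₂, hne, hD₁, hD₂⟩⟩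
  obtain ⟨⟨E, hE, hEi, K₁, K₂, k₁, k₂, hK, hE₁, hE₂⟩, hmax⟩ := Finite.exists_max (fun D : S => Nat.card D.1)
  obtain ⟨N, -, -, hN, -, hle⟩ := hloc E hE hEi
  obtain ⟨K, hKm, hNK⟩ := hN.exists_max
  have key : ∀ K' : Subgroup G, MaxInv x K' → E ≤ K' → E ≠ K' → K' = K := by
    intro K' hK' hEK hEne
    by_contra hne'
    have hlt := lt_inf_normalizer h hK'.1 (lt_of_le_of_ne hEK hEne)
    set W := K' ⊓ Subgroup.normalizer (E : Set G)
    have hW : Inv3 x W :=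
      hK'.1.of_le inf_le_left (mem_normalizer_inf hK'.1.2 (mem_normalizer_normalizer hEi.2))
    have hWK : W ≤ K := (hle W inf_le_right hW).trans hNK
    have hWb : W ≠ ⊥ := fun e => hE (le_bot_iff.1 (e ▸ hlt.le))
    have hc : Nat.card W ≤ Nat.card E := hmax ⟨W, hWb, hW, K', K, hK', hKm, hne', inf_le_left, hWK⟩
    exact hlt.ne (Subgroup.eq_of_le_of_card_ge hlt.le hc)
  have e₁ : E ≠ K₁ := fun e => hK ((k₁.2 K₂ k₂.1 (e ▸ hE₂)).symm)
  have e₂ : E ≠ K₂ := fun e => hK (k₂.2 K₁ k₁.1 (e ▸ hE₁))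
  exact hK ((key K₁ k₁ hE₁ e₁).trans (key K₂ k₂ hE₂ e₂).symm)

theorem LocI.disjoint (h₁ : MaxInv x H₁) (h₂ : MaxInv x H₂) (hne : H₁ ≠ H₂) : H₁ ⊓ H₂ = ⊥ := by
  by_contra hb
  exact hne (hloc.unique h h₁ h₂ hb (h₁.1.of_le inf_le_left (mem_normalizer_inf h₁.1.2 h₂.1.2))
    inf_le_left inf_le_right)

/-- The local subgroup of a subgroup of `H` normalised by `H`. -/
theorem LocI.normalizer_spec (hH : MaxInv x H) (hD : D ≠ ⊥) (hDi : Inv3 x D) (hDH : D ≤ H)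
    (hHD : H ≤ Subgroup.normalizer (D : Set G)) :
    Subgroup.normalizer (D : Set G) ≤ Subgroup.normalizer (H : Set G) ∧
      (Nat.card (Subgroup.normalizer (D : Set G)) = 3 * Nat.card H ∨
        Nat.card (Subgroup.normalizer (D : Set G)) = 6 * Nat.card H) := by
  obtain ⟨N, hN1, hN2, hN, hcard, hle⟩ := hloc D hD hDi
  have : N = H := hH.2 N hN (hle H hHD hH.1)
  subst this
  exact ⟨hN2, hcard⟩

end CfsgLib.SelfCentThree
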