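import Cfsg.Agent.Lib.SelfCentThree.Modules
import Cfsg.Agent.S0494
import Cfsg.Agent.S0493
import Cfsg.Agent.Lib.AltEight.OrderOneSixtyEight

/-!
The two simple groups: the elements used in the extension arguments.
-/

set_option autoImplicit false

open Matrix

namespace CfsgLib.SelfCentThree

abbrev A5 := alternatingGroup (Fin 5)
abbrev L7 := Matrix.ProjectiveSpecialLinearGroup (Fin 2) (ZMod 7)

theorem SC.map_equiv {G H : Type*} [Group G] [Group H] {x : G} (h : SC x) (e : G ≃* H) : SC (e x) := by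
  refine ⟨(e.orderOf_eq x).trans h.order, fun g hg => ?_⟩
  obtain ⟨g, rfl⟩ := e.surjective g
  obtain ⟨k, hk⟩ := Subgroup.mem_zpowers_iff.1 (h.cent g (e.injective (by simpa using hg)))
  exact Subgroup.mem_zpowers_iff.2 ⟨k, by rw [← map_zpow, hk]⟩

theorem a5_four : ∀ y : A5, y * y * y = 1 → y ≠ 1 →
    ∃ s : A5, s * s = 1 ∧ s ≠ 1 ∧ (s * y) * (s * y) * (s * y) = 1 ∧ s * y ≠ 1 := by decide +kernel

theorem a5_inverted : ∀ y : A5, y * y * y = 1 → y ≠ 1 → ∃ t : A5, t * t = 1 ∧ t * y * t = y⁻¹ := by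
  decide +kernel

set_option synthInstance.maxSize 2000 in
set_option synthInstance.maxHeartbeats 100000 in
theorem a5_swap : ∀ y : A5, y * y * y = 1 → y ≠ 1 → ∀ t : A5, t * t = 1 → t * y * t = y⁻¹ →
    ∀ s : A5, s * s = 1 → s ≠ 1 → (s * y) * (s * y) * (s * y) = 1 →
      t * s * t ≠ s ∧ t * s * t ≠ y * s * y⁻¹ ∧ t * s * t ≠ y⁻¹ * s * y := by decide +kernel

theorem a5_isConj : ∀ a b : A5, a * a = 1 → a ≠ 1 → b * b = 1 → b ≠ 1 → ∃ c : A5, c * a = b * c := by
  decide +kernel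

theorem orderOf_three_of {G : Type*} [Group G] {a : G} (h : a * a * a = 1) (h1 : a ≠ 1) : orderOf a = 3 := by
  haveI : Fact (Nat.Prime 3) := ⟨Nat.prime_three⟩
  exact orderOf_eq_prime (by simpa [pow_succ, mul_assoc] using h) h1

theorem cube_of_order {G : Type*} [Group G] {a : G} (h : orderOf a = 3) : a * a * a = 1 ∧ a ≠ 1 := by
  refine ⟨?_, fun e => by simp [e] at h⟩
  have := pow_orderOf_eq_one a
  rw [h] at this
  simpa [pow_succ, mul_assoc] using this

def mX : SpecialLinearGroup (Fin 2) (ZMod 7) := ⟨!![4, 0; 0, 2], by decide⟩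
def mS : SpecialLinearGroup (Fin 2) (ZMod 7) := ⟨!![4, 1; 4, 3], by decide⟩
def mY : SpecialLinearGroup (Fin 2) (ZMod 7) := ⟨!![1, 1; 0, 1], by decide⟩
def mY' : SpecialLinearGroup (Fin 2) (ZMod 7) := ⟨!![1, 0; 1, 1], by decide⟩

theorem mem_center_iff_sl (A : SpecialLinearGroup (Fin 2) (ZMod 7)) :
    A ∈ Subgroup.center (SpecialLinearGroup (Fin 2) (ZMod 7)) ↔
      A.1 0 1 = 0 ∧ A.1 1 0 = 0 ∧ A.1 0 0 = A.1 1 1 := by
  rw [Matrix.SpecialLinearGroup.mem_center_iff]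
  constructor
  · rintro ⟨r, -, hr⟩
    rw [← hr]; simp [scalar]
  · rintro ⟨a, b, c⟩
    refine ⟨A.1 0 0, ?_, ?_⟩
    · have := A.2
      rw [Matrix.det_fin_two, a, ← c] at this
      simpa [pow_two] using this
    · ext i j; fin_cases i <;> fin_cases j <;> simp [scalar, a, b, c]

theorem mk_eq_one_iff (A : SpecialLinearGroup (Fin 2) (ZMod 7)) :
    (QuotientGroup.mk A : L7) = 1 ↔ A.1 0 1 = 0 ∧ A.1 1 0 = 0 ∧ A.1 0 0 = A.1 1 1 :=
  (QuotientGroup.eq_one_iff A).trans (mem_center_iff_sl A)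

theorem l7_data (y : L7) (hy : SC y) :
    ∃ s z : L7, s * s = 1 ∧ s ≠ 1 ∧ orderOf (s * y) = 3 ∧ z ≠ 1 ∧ z ^ 7 = 1 ∧ y * z * y⁻¹ = z ^ 2 := by
  set x₀ : L7 := QuotientGroup.mk mX
  have hx0 : orderOf x₀ = 3 := orderOf_three_of
    (by rw [← QuotientGroup.mk_mul, ← QuotientGroup.mk_mul, mk_eq_one_iff]; decide +kernel)
    (by rw [Ne, mk_eq_one_iff]; decide +kernel)
  have hsx : orderOf ((QuotientGroup.mk mS : L7) * x₀) = 3 := orderOf_three_of
    (by rw [← QuotientGroup.mk_mul, ← QuotientGroup.mk_mul, ← QuotientGroup.mk_mul, mk_eq_one_iff]; decide +kernel)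
    (by rw [← QuotientGroup.mk_mul, Ne, mk_eq_one_iff]; decide +kernel)
  have hsx' : orderOf ((QuotientGroup.mk mS : L7) * x₀⁻¹) = 3 := orderOf_three_of
    (by rw [← QuotientGroup.mk_inv, ← QuotientGroup.mk_mul, ← QuotientGroup.mk_mul, ← QuotientGroup.mk_mul,
          mk_eq_one_iff]; decide +kernel)
    (by rw [← QuotientGroup.mk_inv, ← QuotientGroup.mk_mul, Ne, mk_eq_one_iff]; decide +kernel)
  have hs : (QuotientGroup.mk mS : L7) * QuotientGroup.mk mS = 1 := by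
    rw [← QuotientGroup.mk_mul, mk_eq_one_iff]; decide +kernel
  have hs1 : (QuotientGroup.mk mS : L7) ≠ 1 := by rw [Ne, mk_eq_one_iff]; decide +kernel
  have rel : ∀ a b : SpecialLinearGroup (Fin 2) (ZMod 7),
      ((a * b * a⁻¹) * (b * b)⁻¹).1 0 1 = 0 → ((a * b * a⁻¹) * (b * b)⁻¹).1 1 0 = 0 →
      ((a * b * a⁻¹) * (b * b)⁻¹).1 0 0 = ((a * b * a⁻¹) * (b * b)⁻¹).1 1 1 →
      (QuotientGroup.mk a : L7) * QuotientGroup.mk b * (QuotientGroup.mk a)⁻¹ = (QuotientGroup.mk b : L7) ^ 2 := by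
    intro a b h1 h2 h3
    have := (mk_eq_one_iff _).2 ⟨h1, h2, h3⟩
    rw [QuotientGroup.mk_mul, QuotientGroup.mk_mul, QuotientGroup.mk_mul, QuotientGroup.mk_inv,
      QuotientGroup.mk_inv, QuotientGroup.mk_mul, mul_inv_eq_one] at this
    rw [this, pow_two]
  obtain ⟨c, hc⟩ := (hy.sc_of_dvd (y := x₀) (hx0 ▸ dvd_rfl)).isConj_or hy
  · let α := MulAut.conj c
    have ho : ∀ a b : L7, orderOf (a * b) = 3 → orderOf (α a * α b) = 3 := fun a b h => by
      rw [← map_mul, α.orderOf_eq, h]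
    have hne : ∀ a : L7, a ≠ 1 → α a ≠ 1 := fun a ha e => ha (α.injective (e.trans (map_one α).symm))
    rcases hc with rfl | rfl
    · exact ⟨α (QuotientGroup.mk mS), α (QuotientGroup.mk mY), by rw [← map_mul, hs, map_one], hne _ hs1,
        ho _ _ hsx, hne _ (by rw [Ne, mk_eq_one_iff]; decide +kernel),
        by rw [← map_pow, ← QuotientGroup.mk_pow, (mk_eq_one_iff _).2 (by decide +kernel), map_one],
        show α x₀ * α (QuotientGroup.mk mY) * (α x₀)⁻¹ = _ by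
          rw [← map_inv, ← map_mul, ← map_mul, ← map_pow,
            rel mX mY (by decide +kernel) (by decide +kernel) (by decide +kernel)]⟩
    · exact ⟨α (QuotientGroup.mk mS), α (QuotientGroup.mk mY'), by rw [← map_mul, hs, map_one], hne _ hs1,
        ho _ _ hsx', hne _ (by rw [Ne, mk_eq_one_iff]; decide +kernel),
        by rw [← map_pow, ← QuotientGroup.mk_pow, (mk_eq_one_iff _).2 (by decide +kernel), map_one],
        show α x₀⁻¹ * α (QuotientGroup.mk mY') * (α x₀⁻¹)⁻¹ = _ by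
          rw [← map_inv, ← map_mul, ← map_mul, ← map_pow,
            show (x₀⁻¹ : L7) = QuotientGroup.mk mX⁻¹ from rfl,
            rel mX⁻¹ mY' (by decide +kernel) (by decide +kernel) (by decide +kernel)]⟩

end CfsgLib.SelfCentThree
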