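import Cfsg.Agent.Lib.SelfCentThree.Action

/-!
Extensions of a simple group with an `A₄` by a nilpotent group on which the element of order three
acts fixed-point-freely.
-/

set_option autoImplicit false

namespace CfsgLib.SelfCentThree

universe u

variable {G : Type u} [Group G]

theorem SC.conj_conj {x : G} (h : SC x) (w : G) : x * (x * w * x⁻¹) * x⁻¹ = x⁻¹ * w * x := by
  calc x * (x * w * x⁻¹) * x⁻¹ = (x * x) * w * (x * x)⁻¹ := by simp [mul_assoc]
    _ = x⁻¹ * w * x := by rw [← h.inv_eq, inv_inv]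

theorem SC.isConj_or [Finite G] {x w : G} (h : SC x) (hw : SC w) :
    ∃ c : G, w = c * x * c⁻¹ ∨ w = c * x⁻¹ * c⁻¹ := by
  haveI : Fact (Nat.Prime 3) := ⟨Nat.prime_three⟩
  obtain ⟨P, hP⟩ := h.exists_sylow
  obtain ⟨Q, hQ⟩ := hw.exists_sylow
  obtain ⟨c, hc⟩ := MulAction.exists_smul_eq G P Q
  have hm : w ∈ (Q : Subgroup G) := hQ ▸ Subgroup.mem_zpowers w
  rw [← hc, Sylow.coe_subgroup_smul, hP] at hm
  obtain ⟨v, hv, hvw⟩ := hm
  refine ⟨c, ?_⟩
  rcases h.mem_zpowers_cases hv with e | e | e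
  · exact absurd (by rw [← hvw, e]; exact map_one _) hw.ne_one
  · exact Or.inl (by rw [← hvw, e]; rfl)
  · exact Or.inr (by rw [← hvw, e]; rfl)

/-- Self-centralisation passes to quotients by normal subgroups of order prime to three. -/
theorem SC.quotient [Finite G] {x : G} (h : SC x) (N : Subgroup G) [N.Normal] (hN : ¬ 3 ∣ Nat.card N) :
    SC (x : G ⧸ N) := by
  classical
  haveI : Fact (Nat.Prime 3) := ⟨Nat.prime_three⟩
  have hxN : (x : G) ∉ N := fun e => hN (h.order ▸ Subgroup.orderOf_dvd_natCard N e)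
  have hord : orderOf (x : G ⧸ N) = 3 :=
    orderOf_eq_prime (by rw [← QuotientGroup.mk_pow, h.pow_three]; rfl)
      fun e => hxN ((QuotientGroup.eq_one_iff x).1 e)
  refine ⟨hord, fun g hg => ?_⟩
  obtain ⟨g, rfl⟩ := QuotientGroup.mk_surjective g
  -- `g x g⁻¹` and `x` are Sylow in `⟨x⟩ N`
  set H : Subgroup G := Subgroup.zpowers x ⊔ N
  have hxH : x ∈ H := Subgroup.mem_sup_left (Subgroup.mem_zpowers x)
  have hgx : g * x * g⁻¹ ∈ H := by
    have hm : g * x * g⁻¹ * x⁻¹ ∈ N := by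
      rw [← QuotientGroup.eq_one_iff]
      simp only [QuotientGroup.mk_mul, QuotientGroup.mk_inv, hg]
      group
    have := H.mul_mem (Subgroup.mem_sup_right hm) hxH
    rwa [inv_mul_cancel_right] at this
  obtain ⟨⟨c, hc⟩, hcx⟩ := (h.restrict hxH).isConj_or ((h.conj g).restrict hgx)
  have hcx' : g * x * g⁻¹ = c * x * c⁻¹ ∨ g * x * g⁻¹ = c * x⁻¹ * c⁻¹ :=
    hcx.imp (congrArg Subtype.val) (congrArg Subtype.val)
  obtain ⟨a, ha, n, hn, rfl⟩ : ∃ a ∈ Subgroup.zpowers x, ∃ n ∈ N, a * n = c := by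
    rwa [← SetLike.mem_coe, Subgroup.mul_normal, Set.mem_mul] at hc
  obtain ⟨k, rfl⟩ := Subgroup.mem_zpowers_iff.1 ha
  have hq : ∀ w : G, ((x ^ k * n) * w * (x ^ k * n)⁻¹ : G) = ((x ^ k * n * w * (x ^ k * n)⁻¹ : G)) := fun _ => rfl
  have hn1 : (n : G ⧸ N) = 1 := (QuotientGroup.eq_one_iff n).2 hn
  rcases hcx' with e | e
  · have h2 : (x ^ k * n)⁻¹ * g ∈ Subgroup.zpowers x := by
      refine h.cent _ ?_
      have e2 := congrArg (fun w => (x ^ k * n)⁻¹ * w * g) e
      calc (x ^ k * n)⁻¹ * g * x = (x ^ k * n)⁻¹ * (g * x * g⁻¹) * g := by group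
        _ = (x ^ k * n)⁻¹ * (x ^ k * n * x * (x ^ k * n)⁻¹) * g := e2
        _ = x * ((x ^ k * n)⁻¹ * g) := by group
    obtain ⟨l, hl⟩ := Subgroup.mem_zpowers_iff.1 h2
    refine Subgroup.mem_zpowers_iff.2 ⟨k + l, ?_⟩
    rw [show g = x ^ k * n * x ^ l by rw [hl]; group]
    simp [QuotientGroup.mk_mul, hn1, zpow_add]
  · exfalso
    have e2 := congrArg (fun w : G => (w : G ⧸ N)) e
    simp only [QuotientGroup.mk_mul, QuotientGroup.mk_inv, QuotientGroup.mk_zpow, hg, hn1, mul_one] at e2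
    rw [mul_inv_cancel_right, ((Commute.refl (x : G ⧸ N)).zpow_left k).inv_right.eq,
      mul_inv_cancel_right] at e2
    have h9 : (x : G ⧸ N) ^ 2 = 1 := by
      rw [sq]; nth_rewrite 1 [e2]; exact inv_mul_cancel _
    have := orderOf_dvd_of_pow_eq_one h9
    rw [hord] at this
    norm_num at this

variable [Finite G] {x s y : G}

/-- Squares in an invariant abelian subgroup are fixed by the involution of an `A₄`. -/
theorem four_sq_fixed (hx : SC x) (hsx : SC (s * x)) {M : Subgroup G} (hM : ¬ 3 ∣ Nat.card M)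
    [IsMulCommutative M] [hn : M.Normal] (hs2 : ∀ e ∈ M, s * (s * e * s⁻¹) * s⁻¹ = e) {e : G}
    (he : e ∈ M) : s * e ^ 2 * s⁻¹ = e ^ 2 := by
  have hN : ∀ g : G, g ∈ Subgroup.normalizer (M : Set G) := fun g => by
    rw [Subgroup.normalizer_eq_top (H := M)]; exact Subgroup.mem_top g
  have hxs : SC (x * s) := by
    have := hsx.conj x
    rwa [show x * (s * x) * x⁻¹ = x * s by group] at this
  have hc : ∀ {a b : G}, a ∈ M → b ∈ M → a * b = b * a := fun ha hb => setLike_mul_comm ha hb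
  have hm : ∀ (g : G) {a : G}, a ∈ M → g * a * g⁻¹ ∈ M := fun g a ha => hn.conj_mem a ha g
  have hs' : s⁻¹ * e * s = s * e * s⁻¹ := by
    conv_lhs => rw [← hs2 e he]
    group
  have hs'' : s⁻¹ * (x⁻¹ * e * x) * s = s * (x⁻¹ * e * x) * s⁻¹ := by
    conv_lhs => rw [← hs2 (x⁻¹ * e * x) (by simpa using hm x⁻¹ he)]
    group
  have T1 : e * (s * (x * e * x⁻¹) * s⁻¹) * (x⁻¹ * (s * e * s⁻¹) * x) = 1 := by
    have := hsx.triple hM (hN _) he
    rw [show s * x * e * (s * x)⁻¹ = s * (x * e * x⁻¹) * s⁻¹ by group,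
      show (s * x)⁻¹ * e * (s * x) = x⁻¹ * (s⁻¹ * e * s) * x by group, hs'] at this
    exact this
  have T2 : e * (x * (s * e * s⁻¹) * x⁻¹) * (s * (x⁻¹ * e * x) * s⁻¹) = 1 := by
    have := hxs.triple hM (hN _) he
    rw [show x * s * e * (x * s)⁻¹ = x * (s * e * s⁻¹) * x⁻¹ by group,
      show (x * s)⁻¹ * e * (x * s) = s⁻¹ * (x⁻¹ * e * x) * s by group, hs''] at this
    exact this
  set f := s * e * s⁻¹
  have hf : f ∈ M := hm s he
  have t0 := hx.triple hM (hN _) he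
  have tf := hx.triple hM (hN _) hf
  have mA : x * e * x⁻¹ ∈ M := hm x he
  have mB : x⁻¹ * e * x ∈ M := by simpa using hm x⁻¹ he
  have mC : x * f * x⁻¹ ∈ M := hm x hf
  have mD : x⁻¹ * f * x ∈ M := by simpa using hm x⁻¹ hf
  have h1 : x * e * x⁻¹ * (x⁻¹ * e * x) = e⁻¹ :=
    eq_inv_of_mul_eq_one_right (by rw [← mul_assoc]; exact t0)
  have h2 : x * f * x⁻¹ * (x⁻¹ * f * x) = f⁻¹ :=
    eq_inv_of_mul_eq_one_right (by rw [← mul_assoc]; exact tf)
  have h3 : s * e⁻¹ * s⁻¹ = f⁻¹ := by simp [f, mul_assoc]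
  letI : CommGroup M :=
    { (inferInstance : Group M) with mul_comm := fun a b => Subtype.ext (hc a.2 b.2) }
  have key : (e * (s * (x * e * x⁻¹) * s⁻¹) * (x⁻¹ * f * x)) *
      (e * (x * f * x⁻¹) * (s * (x⁻¹ * e * x) * s⁻¹)) =
      (e * e) * (s * (x * e * x⁻¹ * (x⁻¹ * e * x)) * s⁻¹) * (x * f * x⁻¹ * (x⁻¹ * f * x)) := by
    have : ∀ a b c d' g : M, (a * b * c) * (a * d' * g) = (a * a) * (b * g) * (d' * c) := by
      intros; ac_rfl
    have := congrArg Subtype.val (this ⟨e, he⟩ ⟨_, hm s mA⟩ ⟨_, mD⟩ ⟨_, mC⟩ ⟨_, hm s mB⟩)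
    simp only [Subgroup.coe_mul] at this
    rw [this]; group
  rw [T1, T2, h1, h2, h3, one_mul] at key
  calc s * e ^ 2 * s⁻¹ = f ^ 2 := (conj_pow).symm
    _ = e ^ 2 := by
      rw [mul_assoc, ← mul_inv_rev, eq_comm, mul_inv_eq_one] at key
      rw [pow_two, pow_two, key]

/-- An element centralising a normal subgroup and not in `N` forces everything to centralise it. -/
theorem eq_bot_of_centralizing (hx : SC x) {N : Subgroup G} [N.Normal] [IsSimpleGroup (G ⧸ N)]
    {M : Subgroup G} [M.Normal] (hM : ¬ 3 ∣ Nat.card M) (hNM : N ≤ Subgroup.centralizer (M : Set G))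
    {g : G} (hg : g ∉ N) (hgM : g ∈ Subgroup.centralizer (M : Set G)) : M = ⊥ := by
  have hK : (Subgroup.centralizer (M : Set G)).map (QuotientGroup.mk' N) = ⊤ := by
    have hn : ((Subgroup.centralizer (M : Set G)).map (QuotientGroup.mk' N)).Normal :=
      Subgroup.Normal.map inferInstance _ QuotientGroup.mk_surjective
    refine hn.eq_bot_or_eq_top.resolve_left fun e => hg ?_
    rw [← QuotientGroup.eq_one_iff, ← Subgroup.mem_bot (G := G ⧸ N), ← e]
    exact Subgroup.mem_map_of_mem _ hgM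
  have hx' : (x : G ⧸ N) ∈ (Subgroup.centralizer (M : Set G)).map (QuotientGroup.mk' N) := hK ▸ Subgroup.mem_top _
  obtain ⟨w, hw, hwx⟩ := Subgroup.mem_map.1 hx'
  have hxc : x ∈ Subgroup.centralizer (M : Set G) := by
    have : w⁻¹ * x ∈ N := QuotientGroup.eq.1 hwx
    simpa using mul_mem hw (hNM this)
  rw [eq_bot_iff]
  exact fun m hm => Subgroup.mem_bot.2 (hx.fpf hM hm (Subgroup.mem_centralizer_iff.1 hxc m hm))

/-- A normal abelian subgroup centralised by `N` has exponent two. -/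
theorem exponent_two (hx : SC x) {N : Subgroup G} [N.Normal] [IsSimpleGroup (G ⧸ N)]
    (hs : s ∉ N) (hs2 : s * s ∈ N) (hsx : SC (s * x))
    {M : Subgroup G} [M.Normal] [IsMulCommutative M] (hM : ¬ 3 ∣ Nat.card M)
    (hNM : N ≤ Subgroup.centralizer (M : Set G)) {e : G} (he : e ∈ M) : e ^ 2 = 1 := by
  let K := Subgroup.closure {u : G | ∃ a ∈ M, a ^ 2 = u}
  haveI : K.Normal := by
    constructor
    intro u hu g
    have := Subgroup.mem_map_of_mem (MulAut.conj g).toMonoidHom hu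
    rw [MonoidHom.map_closure] at this
    refine Subgroup.closure_mono ?_ this
    rintro _ ⟨u, ⟨a, ha, rfl⟩, rfl⟩
    exact ⟨g * a * g⁻¹, Subgroup.Normal.conj_mem ‹M.Normal› a ha g, by simp⟩
  have hKM : K ≤ M := (Subgroup.closure_le _).2 fun u ⟨a, ha, e⟩ => e ▸ pow_mem ha 2
  have hK : K = ⊥ := by
    refine eq_bot_of_centralizing hx (fun h3 => hM (h3.trans (Subgroup.card_dvd_of_le hKM)))
      (hNM.trans (Subgroup.centralizer_le hKM)) hs ?_
    rw [Subgroup.centralizer_closure, Subgroup.mem_centralizer_iff]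
    rintro _ ⟨a, ha, rfl⟩
    have hs2' : ∀ b ∈ M, s * (s * b * s⁻¹) * s⁻¹ = b := fun b hb => by
      have := Subgroup.mem_centralizer_iff.1 (hNM hs2) b hb
      calc s * (s * b * s⁻¹) * s⁻¹ = (s * s) * b * (s * s)⁻¹ := by group
        _ = b := by rw [← this]; group
    have := four_sq_fixed hx hsx hM hs2' ha
    exact (mul_inv_eq_iff_eq_mul.1 this).symm
  have : e ^ 2 ∈ K := Subgroup.subset_closure ⟨e, he, rfl⟩
  rwa [hK, Subgroup.mem_bot] at this

/-- The norm over an element of order seven, under the action of a Frobenius group of order 21. -/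
theorem seven_fixed (hx : SC x) (hk : ∀ k : ℕ, SC (y ^ k * x)) {M : Subgroup G}
    [IsMulCommutative M] [hn : M.Normal] (hM : ¬ 3 ∣ Nat.card M) (h2 : ∀ e ∈ M, e ^ 2 = 1)
    (h7 : ∀ e ∈ M, y ^ 7 * e * (y ^ 7)⁻¹ = e)
    (hrel : ∀ e ∈ M, x * (y * e * y⁻¹) * x⁻¹ = y ^ 2 * (x * e * x⁻¹) * (y ^ 2)⁻¹) {e : G}
    (he : e ∈ M) : y * e * y⁻¹ = e := by
  letI : CommGroup M :=
    { (inferInstance : Group M) with mul_comm := fun a b => Subtype.ext (setLike_mul_comm a.2 b.2) }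
  let α : G →* MulAut M := MulAut.conjNormal
  have hα : ∀ (g : G) (m : M), ((α g m : M) : G) = g * m * g⁻¹ := fun g m => MulAut.conjNormal_apply g m
  have hy7 : ∀ m : M, α (y ^ 7) m = m := fun m => Subtype.ext (by rw [hα]; exact h7 _ m.2)
  let Y : M →* M := (α y).toMonoidHom
  let X : M →* M := (α x).toMonoidHom
  let nm : M → M := fun m => m * Y m * Y (Y m) * Y (Y (Y m)) * Y (Y (Y (Y m))) *
    Y (Y (Y (Y (Y m)))) * Y (Y (Y (Y (Y (Y m)))))
  have hY7 : ∀ m : M, Y (Y (Y (Y (Y (Y (Y m)))))) = m := fun m => by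
    have := hy7 m
    simpa [Y, α, pow_succ, map_mul] using this
  have hXY : ∀ m : M, X (Y m) = Y (Y (X m)) := fun m => Subtype.ext (by
    show (α x (α y m) : G) = (α y (α y (α x m)) : G)
    simp only [hα]
    rw [hrel _ m.2]
    simp [pow_two, mul_assoc])
  have hnY : ∀ m : M, Y (nm m) = nm m := fun m => by
    simp only [nm, map_mul, hY7]; ac_rfl
  have hnX : ∀ m : M, X (nm m) = nm (X m) := fun m => by
    simp only [nm, map_mul, hXY, hY7]; ac_rfl
  have tri : ∀ m : M, m * X m * X (X m) = 1 := fun m => by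
    have hN : ∀ g : G, g ∈ Subgroup.normalizer (M : Set G) := fun g => by
      rw [Subgroup.normalizer_eq_top (H := M)]; exact Subgroup.mem_top g
    have := hx.triple hM (hN x) m.2
    refine Subtype.ext ?_
    show (m : G) * (α x m : G) * (α x (α x m) : G) = 1
    simp only [hα]
    rw [hx.conj_conj]; exact this
  have tk : ∀ (k : ℕ) (m : M), m * α (y ^ k * x) m * α (y ^ k * x) (α (y ^ k * x) m) = 1 := fun k m => by
    have hN : ∀ g : G, g ∈ Subgroup.normalizer (M : Set G) := fun g => by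
      rw [Subgroup.normalizer_eq_top (H := M)]; exact Subgroup.mem_top g
    have := (hk k).triple hM (hN _) m.2
    refine Subtype.ext ?_
    show (m : G) * (α (y ^ k * x) m : G) * (α (y ^ k * x) (α (y ^ k * x) m) : G) = 1
    simp only [hα]
    rw [(hk k).conj_conj]; exact this
  set m : M := ⟨e, he⟩
  have e1 : ∀ k : ℕ, ∀ m : M, α (y ^ k * x) m = (Y : M → M)^[k] (X m) := fun k => by
    induction k with
    | zero => intro m; simp [X]
    | succ k ih =>
      intro m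
      rw [Function.iterate_succ_apply', ← ih]
      simp [Y, pow_succ', mul_assoc, map_mul]
  have e2 : ∀ k : ℕ, m * (Y : M → M)^[k] (X m) * (Y : M → M)^[3 * k] (X (X m)) = 1 := fun k => by
    have := tk k m
    rw [e1, e1] at this
    have hcom : ∀ (j : ℕ) (a : M), X ((Y : M → M)^[j] a) = (Y : M → M)^[2 * j] (X a) := fun j => by
      induction j with
      | zero => intro a; rfl
      | succ j ih =>
        intro a
        rw [Function.iterate_succ_apply', hXY, ih, show 2 * (j + 1) = (2 * j + 1) + 1 from by ring,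
          Function.iterate_succ_apply', Function.iterate_succ_apply']
    rw [hcom, ← Function.iterate_add_apply, show k + 2 * k = 3 * k by ring] at this
    exact this
  have E : m * m * m * m * m * m * m * (nm (X m) * nm (X (X m))) = 1 := by
    have := congrArg₂ (· * ·) (congrArg₂ (· * ·) (congrArg₂ (· * ·) (e2 0) (e2 1))
      (congrArg₂ (· * ·) (e2 2) (e2 3))) (congrArg₂ (· * ·) (congrArg₂ (· * ·) (e2 4) (e2 5)) (e2 6))
    simp only [Function.iterate_succ_apply', Function.iterate_zero_apply, Nat.reduceMul,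
      hY7, mul_one] at this
    rw [← this]
    simp only [nm]
    ac_rfl
  have hm2 : m * m = 1 := Subtype.ext (by simpa [pow_two] using h2 e he)
  rw [← hnX, ← hnX, ← hnX, show m * m * m * m * m * m * m = (m * m) * (m * m) * (m * m) * m by ac_rfl, hm2] at E
  have hfin : m = nm m := by
    have t := tri (nm m)
    rw [mul_assoc] at t
    simp only [one_mul] at E
    exact mul_right_cancel (E.trans t.symm)
  have := hnY m
  rw [← hfin] at this
  exact congrArg Subtype.val this |> fun e => by simpa [Y, hα, m] using e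

omit [Finite G] in
theorem not_mem_of_mk {N : Subgroup G} [N.Normal] {a : G} (h : (a : G ⧸ N) ≠ 1) : a ∉ N :=
  fun e => h ((QuotientGroup.eq_one_iff a).2 e)

omit [Finite G] in
theorem center_map_normal (N : Subgroup G) [N.Normal] :
    ((Subgroup.center N).map N.subtype).Normal := inferInstance

omit [Finite G] in
theorem le_centralizer_center (N : Subgroup G) :
    N ≤ Subgroup.centralizer (((Subgroup.center N).map N.subtype : Subgroup G) : Set G) := by
  intro n hn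
  rw [Subgroup.mem_centralizer_iff]
  rintro _ ⟨z, hz, rfl⟩
  exact (congrArg Subtype.val (Subgroup.mem_center_iff.1 hz ⟨n, hn⟩)).symm

omit [Finite G] in
theorem center_map_comm (N : Subgroup G) :
    IsMulCommutative ((Subgroup.center N).map N.subtype : Subgroup G) := by
  refine ⟨⟨fun a b => Subtype.ext ?_⟩⟩
  obtain ⟨_, z, hz, rfl⟩ := a
  obtain ⟨_, w, hw, rfl⟩ := b
  exact (congrArg Subtype.val (Subgroup.mem_center_iff.1 hz w)).symm

theorem card_center_map (N : Subgroup G) :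
    Nat.card ((Subgroup.center N).map N.subtype : Subgroup G) = Nat.card (Subgroup.center N) :=
  Subgroup.card_map_of_injective N.subtype_injective

theorem not_three_center_map {N : Subgroup G} (hN : ¬ 3 ∣ Nat.card N) :
    ¬ 3 ∣ Nat.card ((Subgroup.center N).map N.subtype : Subgroup G) := fun h3 =>
  hN (h3.trans (Subgroup.card_dvd_of_le (Subgroup.map_subtype_le _)))

/-- No nontrivial nilpotent subgroup under a group containing `A₄` and a Frobenius group of order 21. -/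
theorem eq_bot_of_four_seven (hx : SC x) {N : Subgroup G} [N.Normal] [IsSimpleGroup (G ⧸ N)]
    (hnil : Group.IsNilpotent N) (hN : ¬ 3 ∣ Nat.card N)
    (hs : (s : G ⧸ N) ≠ 1) (hs2 : (s : G ⧸ N) * s = 1) (hsx : orderOf ((s * x : G) : G ⧸ N) = 3)
    (hy : (y : G ⧸ N) ≠ 1) (hy7 : (y : G ⧸ N) ^ 7 = 1)
    (hxy : (x : G ⧸ N) * y * (x : G ⧸ N)⁻¹ = (y : G ⧸ N) ^ 2) : N = ⊥ := by
  by_contra hne
  haveI := hnil
  haveI : Nontrivial N := (Subgroup.nontrivial_iff_ne_bot N).2 hne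
  set M : Subgroup G := (Subgroup.center N).map N.subtype
  haveI := center_map_normal N
  haveI := center_map_comm N
  have hM := not_three_center_map hN
  have hsx' : SC (s * x) := hx.sc_of_dvd (hsx ▸ orderOf_map_dvd (QuotientGroup.mk' N) (s * x))
  have hq := hx.quotient N hN
  have hk : ∀ k : ℕ, SC (y ^ k * x) := fun k => by
    refine hx.sc_of_dvd ?_
    have hxy' : ∀ j : ℕ, (x : G ⧸ N) * (y : G ⧸ N) ^ j = (y : G ⧸ N) ^ (2 * j) * x := fun j => by
      induction j with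
      | zero => simp
      | succ j ih =>
        rw [pow_succ, ← mul_assoc, ih, mul_assoc, mul_inv_eq_iff_eq_mul.1 hxy, ← mul_assoc,
          ← pow_add, show 2 * (j + 1) = 2 * j + 2 by ring]
    have h3 : ((y ^ k * x : G) : G ⧸ N) ^ 3 = 1 := by
      rw [QuotientGroup.mk_mul, QuotientGroup.mk_pow]
      calc ((y : G ⧸ N) ^ k * x) ^ 3
          = (y : G ⧸ N) ^ k * ((x : G ⧸ N) * (y : G ⧸ N) ^ k) * ((x : G ⧸ N) * (y : G ⧸ N) ^ k) * x := by
            simp [pow_succ, mul_assoc]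
        _ = (y : G ⧸ N) ^ k * ((y : G ⧸ N) ^ (2 * k) * x) * ((y : G ⧸ N) ^ (2 * k) * x) * x := by rw [hxy']
        _ = (y : G ⧸ N) ^ k * (y : G ⧸ N) ^ (2 * k) * ((x : G ⧸ N) * (y : G ⧸ N) ^ (2 * k)) * (x * x) := by
            simp [mul_assoc]
        _ = (y : G ⧸ N) ^ k * (y : G ⧸ N) ^ (2 * k) * (y : G ⧸ N) ^ (2 * (2 * k)) * (x : G ⧸ N) ^ 3 := by
            rw [hxy']; simp [pow_succ, mul_assoc]
        _ = ((y : G ⧸ N) ^ 7) ^ k * (x : G ⧸ N) ^ 3 := by
            rw [← pow_add, ← pow_add, ← pow_mul, show k + 2 * k + 2 * (2 * k) = 7 * k by ring]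
        _ = 1 := by rw [hy7, one_pow, ← QuotientGroup.mk_pow, hx.pow_three, one_mul]; rfl
    haveI : Fact (Nat.Prime 3) := ⟨Nat.prime_three⟩
    have h1 : ((y ^ k * x : G) : G ⧸ N) ≠ 1 := by
      intro e
      rw [QuotientGroup.mk_mul, QuotientGroup.mk_pow] at e
      have hxk : (x : G ⧸ N) = ((y : G ⧸ N) ^ k)⁻¹ := eq_inv_of_mul_eq_one_right e
      have h7' : (x : G ⧸ N) ^ 7 = 1 := by rw [hxk, inv_pow, ← pow_mul, mul_comm, pow_mul, hy7, one_pow, inv_one]
      have := orderOf_dvd_of_pow_eq_one h7'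
      rw [hq.order] at this
      norm_num at this
    exact (orderOf_eq_prime h3 h1) ▸ orderOf_map_dvd (QuotientGroup.mk' N) (y ^ k * x)
  have h2 : ∀ e ∈ M, e ^ 2 = 1 := fun e he => exponent_two hx (not_mem_of_mk hs)
    ((QuotientGroup.eq_one_iff _).1 (by rw [QuotientGroup.mk_mul]; exact hs2)) hsx' hM
    (le_centralizer_center N) he
  have hact : ∀ {a : G}, (a : G ⧸ N) = 1 → ∀ e ∈ M, a * e * a⁻¹ = e := fun ha e he => by
    have := Subgroup.mem_centralizer_iff.1 (le_centralizer_center N ((QuotientGroup.eq_one_iff _).1 ha)) e he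
    rw [← this]; group
  have hyM : y ∈ Subgroup.centralizer (M : Set G) := by
    rw [Subgroup.mem_centralizer_iff]
    intro e he
    refine (mul_inv_eq_iff_eq_mul.1 (seven_fixed hx hk hM h2 (hact (by rw [QuotientGroup.mk_pow]; exact hy7))
      (fun a ha => ?_) he)).symm
    have ha' := hact (a := (y ^ 2)⁻¹ * (x * y * x⁻¹)) (by
      simp only [QuotientGroup.mk_mul, QuotientGroup.mk_inv, QuotientGroup.mk_pow, hxy, inv_mul_cancel]) (x * a * x⁻¹)
      (Subgroup.Normal.conj_mem ‹_› a ha x)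
    calc x * (y * a * y⁻¹) * x⁻¹ = y ^ 2 * (((y ^ 2)⁻¹ * (x * y * x⁻¹)) * (x * a * x⁻¹) *
          ((y ^ 2)⁻¹ * (x * y * x⁻¹))⁻¹) * (y ^ 2)⁻¹ := by group
      _ = _ := by rw [ha']
  have hMbot : M = ⊥ := eq_bot_of_centralizing hx hM (le_centralizer_center N) (not_mem_of_mk hy) hyM
  have := Subgroup.card_eq_one.2 hMbot
  rw [card_center_map] at this
  haveI hZ : Nontrivial (Subgroup.center N) :=
    (Subgroup.nontrivial_iff_ne_bot _).2 (Group.IsNilpotent.center_ne_bot N)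
  exact absurd this (Finite.one_lt_card (α := Subgroup.center N)).ne'

end CfsgLib.SelfCentThree

namespace CfsgLib.SelfCentThree

universe u

open scoped commutatorElement

theorem commutator_mul_left {H : Type*} [Group H] (a b c : H) :
    ⁅a * b, c⁆ = a * ⁅b, c⁆ * a⁻¹ * ⁅a, c⁆ := by simp [commutatorElement_def, mul_assoc]

theorem commutator_mul_right {H : Type*} [Group H] (a b c : H) :
    ⁅a, b * c⁆ = ⁅a, b⁆ * (b * ⁅a, c⁆ * b⁻¹) := by simp [commutatorElement_def, mul_assoc]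

/-- Class two with a self-adjointness for every element of order three forces commutativity. -/
theorem comm_of_class_two {G : Type u} [Group G] [Finite G] {x s : G} (hx : SC x) {N : Subgroup G}
    [N.Normal] [IsSimpleGroup (G ⧸ N)] (hN : ¬ 3 ∣ Nat.card N) (hs : (s : G ⧸ N) ≠ 1)
    (hs2 : (s : G ⧸ N) * s = 1) (hsx : orderOf ((s * x : G) : G ⧸ N) = 3)
    (hcl : ∀ a ∈ N, ∀ b ∈ N, ∀ c ∈ N, Commute ⁅a, b⁆ c) (hexp : ∀ a ∈ N, (∀ c ∈ N, Commute a c) → a ^ 2 = 1) :
    ∀ a ∈ N, ∀ b ∈ N, Commute a b := by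
  have hn : N.Normal := inferInstance
  have hm : ∀ (g : G) {a : G}, a ∈ N → g * a * g⁻¹ ∈ N := fun g a ha => hn.conj_mem a ha g
  have hcN : ∀ {a b : G}, a ∈ N → b ∈ N → ⁅a, b⁆ ∈ N := fun ha hb => by
    rw [commutatorElement_def]; exact mul_mem (mul_mem (mul_mem ha hb) (inv_mem ha)) (inv_mem hb)
  have cz : ∀ {a b : G}, a ∈ N → b ∈ N → ∀ {w : G}, w ∈ N → w * ⁅a, b⁆ * w⁻¹ = ⁅a, b⁆ := fun ha hb w hw => by
    rw [← (hcl _ ha _ hb _ hw).eq, mul_inv_cancel_right]
  have bl : ∀ {a b c : G}, a ∈ N → b ∈ N → c ∈ N → ⁅a * b, c⁆ = ⁅a, c⁆ * ⁅b, c⁆ := fun ha hb hc => by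
    rw [commutator_mul_left, cz hb hc ha, (hcl _ hb _ hc _ (hcN ha hc)).eq]
  have br : ∀ {a b c : G}, a ∈ N → b ∈ N → c ∈ N → ⁅a, b * c⁆ = ⁅a, b⁆ * ⁅a, c⁆ := fun ha hb hc => by
    rw [commutator_mul_right, cz ha hc hb]
  have c2 : ∀ {a b : G}, a ∈ N → b ∈ N → ⁅b, a⁆ = ⁅a, b⁆ := fun ha hb => by
    have := hexp _ (hcN ha hb) (fun c hc => hcl _ ha _ hb c hc)
    rw [← commutatorElement_inv]
    exact inv_eq_of_mul_eq_one_right (by rwa [← pow_two])
  -- self-adjointness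
  have adj : ∀ {g : G}, SC g → ∀ {m n : G}, m ∈ N → n ∈ N →
      ⁅m, g * n * g⁻¹⁆ = ⁅g * m * g⁻¹, n⁆ := by
    intro g hg m n ha hb
    have hN' : g ∈ Subgroup.normalizer (N : Set G) := by
      rw [Subgroup.normalizer_eq_top (H := N)]; exact Subgroup.mem_top g
    have e0 : ∀ {w : G}, w ∈ N → ⁅w, g * w * g⁻¹⁆ = 1 := fun hw =>
      commutatorElement_eq_one_iff_commute.2 (hg.commute_self_conj hN hN' hw)
    have e := e0 (mul_mem ha hb)
    rw [show g * (m * n) * g⁻¹ = (g * m * g⁻¹) * (g * n * g⁻¹) by group,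
      bl ha hb (mul_mem (hm g ha) (hm g hb)), br ha (hm g ha) (hm g hb), br hb (hm g ha) (hm g hb),
      e0 ha, e0 hb, one_mul, mul_one, c2 (hm g ha) hb] at e
    have h2 := hexp _ (hcN (hm g ha) hb) (fun c hc => hcl _ (hm g ha) _ hb c hc)
    rw [pow_two] at h2
    exact mul_right_cancel (e.trans h2.symm)
  set h := s * x * s⁻¹
  have hsx' : SC (s * x) := hx.sc_of_dvd (hsx ▸ orderOf_map_dvd (QuotientGroup.mk' N) (s * x))
  have hq := hx.quotient N hN
  have hxs' : orderOf ((x : G ⧸ N) * s) = 3 := by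
    rw [← hsx, QuotientGroup.mk_mul, ← (MulAut.conj (x : G ⧸ N)).orderOf_eq ((s : G ⧸ N) * x), MulAut.conj_apply]
    congr 1
    group
  have hsinv : (s : G ⧸ N)⁻¹ = s := inv_eq_of_mul_eq_one_right hs2
  have sq3 : ∀ {K : Type u} [Group K] {a : K}, orderOf a = 3 → orderOf (a * a) = 3 := fun {K} _ {a} ha => by
    rw [← pow_two, orderOf_pow' a two_ne_zero, ha]; rfl
  have hgh : SC (x * h) := hx.sc_of_dvd (by
    have : orderOf ((x * h : G) : G ⧸ N) = 3 := by
      simp only [h, QuotientGroup.mk_mul, QuotientGroup.mk_inv, hsinv]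
      rw [show (x : G ⧸ N) * ((s : G ⧸ N) * x * s) = ((x : G ⧸ N) * s) * ((x : G ⧸ N) * s) by simp [mul_assoc]]
      exact sq3 hxs'
    exact this ▸ orderOf_map_dvd (QuotientGroup.mk' N) (x * h))
  have hhg : SC (h * x) := by
    have := hgh.conj h
    rwa [show h * (x * h) * h⁻¹ = h * x by simp [mul_assoc]] at this
  have hh : SC h := hx.conj s
  have key : ∀ m ∈ N, ∀ n ∈ N, ⁅m, (x * h) * n * (x * h)⁻¹⁆ = ⁅m, (h * x) * n * (h * x)⁻¹⁆ := by
    intro m ha n hb
    calc ⁅m, (x * h) * n * (x * h)⁻¹⁆ = ⁅m, x * (h * n * h⁻¹) * x⁻¹⁆ := by congr 1; group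
      _ = ⁅x * m * x⁻¹, h * n * h⁻¹⁆ := adj hx ha (hm h hb)
      _ = ⁅h * (x * m * x⁻¹) * h⁻¹, n⁆ := adj hh (hm x ha) hb
      _ = ⁅(h * x) * m * (h * x)⁻¹, n⁆ := by congr 1; group
      _ = _ := (adj hhg ha hb).symm
  -- the kernel of the action on `N` modulo its centre
  let K : Subgroup G :=
    { carrier := {g | ∀ n ∈ N, ∀ m ∈ N, ⁅m, g * n * g⁻¹⁆ = ⁅m, n⁆}
      one_mem' := fun n _ m _ => by simp
      mul_mem' := fun {a b} ha hb n hn' m hm' => by
        rw [show a * b * n * (a * b)⁻¹ = a * (b * n * b⁻¹) * a⁻¹ by group, ha _ (hm b hn') m hm', hb n hn' m hm']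
      inv_mem' := fun {a} ha n hn' m hm' => by
        have := ha (a⁻¹ * n * a⁻¹⁻¹) (hm a⁻¹ hn') m hm'
        rw [show a * (a⁻¹ * n * a⁻¹⁻¹) * a⁻¹ = n by group] at this
        exact this.symm }
  haveI hKn : K.Normal := ⟨fun k hk g n hn' m hm' => by
    have := hk (g⁻¹ * n * g⁻¹⁻¹) (hm g⁻¹ hn') (g⁻¹ * m * g⁻¹⁻¹) (hm g⁻¹ hm')
    have hmap : ∀ a b : G, g * ⁅a, b⁆ * g⁻¹ = ⁅g * a * g⁻¹, g * b * g⁻¹⁆ := fun a b => by
      simp [commutatorElement_def, mul_assoc]
    have e := congrArg (fun w => g * w * g⁻¹) this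
    simp only [hmap] at e
    rw [show g * (g⁻¹ * m * g⁻¹⁻¹) * g⁻¹ = m by group, show g * (g⁻¹ * n * g⁻¹⁻¹) * g⁻¹ = n by group,
      show g * (k * (g⁻¹ * n * g⁻¹⁻¹) * k⁻¹) * g⁻¹ = (g * k * g⁻¹) * n * (g * k * g⁻¹)⁻¹ by group] at e
    exact e⟩
  have hNK : N ≤ K := fun a ha n hn' m hm' => by
    rw [br hm' (mul_mem ha hn') (inv_mem ha), br hm' ha hn', (hcl _ hm' _ ha _ (hcN hm' hn')).eq,
      mul_assoc, ← br hm' ha (inv_mem ha)]
    simp
  have hw : (h * x)⁻¹ * (x * h) ∈ K := fun n hb m ha => by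
    have e := key ((h * x) * m * (h * x)⁻¹) (hm _ ha) n hb
    have := congrArg (fun w => (h * x)⁻¹ * w * ((h * x)⁻¹)⁻¹) e
    have hmap : ∀ g a b : G, g * ⁅a, b⁆ * g⁻¹ = ⁅g * a * g⁻¹, g * b * g⁻¹⁆ := fun g a b => by
      simp [commutatorElement_def, mul_assoc]
    simp only [hmap] at this
    rw [show (h * x)⁻¹ * ((h * x) * m * (h * x)⁻¹) * (h * x)⁻¹⁻¹ = m by group,
      show (h * x)⁻¹ * ((h * x) * n * (h * x)⁻¹) * (h * x)⁻¹⁻¹ = n by group,
      show (h * x)⁻¹ * ((x * h) * n * (x * h)⁻¹) * (h * x)⁻¹⁻¹ =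
        ((h * x)⁻¹ * (x * h)) * n * ((h * x)⁻¹ * (x * h))⁻¹ by group] at this
    exact this
  have hwN : (h * x)⁻¹ * (x * h) ∉ N := fun e => by
    have e' := (QuotientGroup.eq_one_iff _).2 e
    simp only [h, QuotientGroup.mk_mul, QuotientGroup.mk_inv, hsinv, inv_mul_eq_one] at e'
    -- `(sx)² = (xs)²` in the quotient
    have h3a := pow_orderOf_eq_one ((s : G ⧸ N) * x)
    rw [show orderOf ((s : G ⧸ N) * x) = 3 by simpa using hsx] at h3a
    have h3b := pow_orderOf_eq_one ((x : G ⧸ N) * s)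
    rw [hxs'] at h3b
    have e2 : (((s : G ⧸ N) * x) * ((s : G ⧸ N) * x)) = (((x : G ⧸ N) * s) * ((x : G ⧸ N) * s)) := by
      simpa [mul_assoc] using e'
    have hsx2 : (s : G ⧸ N) * x = (x : G ⧸ N) * s := by
      have ia : (s : G ⧸ N) * x = ((((s : G ⧸ N) * x) * ((s : G ⧸ N) * x)))⁻¹ :=
        eq_inv_of_mul_eq_one_right (by simpa [pow_succ, mul_assoc] using h3a)
      have ib : (x : G ⧸ N) * s = ((((x : G ⧸ N) * s) * ((x : G ⧸ N) * s)))⁻¹ :=
        eq_inv_of_mul_eq_one_right (by simpa [pow_succ, mul_assoc] using h3b)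
      rw [ia, e2, ← ib]
    rcases hq.mem_zpowers_cases (hq.cent _ hsx2) with h1 | h1 | h1
    · exact hs h1
    · rw [h1] at hs2
      have := orderOf_dvd_of_pow_eq_one (show (x : G ⧸ N) ^ 2 = 1 by rw [sq]; exact hs2)
      rw [hq.order] at this; norm_num at this
    · rw [h1] at hs2
      have := orderOf_dvd_of_pow_eq_one (show (x : G ⧸ N)⁻¹ ^ 2 = 1 by rw [sq]; exact hs2)
      rw [orderOf_inv, hq.order] at this; norm_num at this
  have hKtop : K.map (QuotientGroup.mk' N) = ⊤ :=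
    ((Subgroup.Normal.map hKn _ QuotientGroup.mk_surjective).eq_bot_or_eq_top).resolve_left fun e => hwN (by
      rw [← QuotientGroup.eq_one_iff, ← Subgroup.mem_bot (G := G ⧸ N), ← e]
      exact Subgroup.mem_map_of_mem (QuotientGroup.mk' N) hw)
  have hxK : x ∈ K := by
    obtain ⟨w, hw', hwx⟩ := Subgroup.mem_map.1 (hKtop ▸ Subgroup.mem_top (x : G ⧸ N) :
      (x : G ⧸ N) ∈ K.map (QuotientGroup.mk' N))
    simpa using mul_mem hw' (hNK (QuotientGroup.eq.1 hwx))
  intro a ha b hb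
  -- `a = d⁻¹ ˣd`
  have hN' : x ∈ Subgroup.normalizer (N : Set G) := by
    rw [Subgroup.normalizer_eq_top (H := N)]; exact Subgroup.mem_top x
  haveI := Fintype.ofFinite N
  have hsur : Function.Surjective (fun d : N => (⟨(d : G)⁻¹ * (x * d * x⁻¹),
      mul_mem (inv_mem d.2) (hm x d.2)⟩ : N)) := by
    refine Finite.injective_iff_surjective.1 fun d d' e => ?_
    have e' : (d : G)⁻¹ * (x * d * x⁻¹) = (d' : G)⁻¹ * (x * d' * x⁻¹) := congrArg Subtype.val e
    have : (d' : G) * (d : G)⁻¹ = 1 := hx.fpf hN (mul_mem d'.2 (inv_mem d.2)) (by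
      calc (d' : G) * (d : G)⁻¹ * x = d' * ((d : G)⁻¹ * (x * d * x⁻¹)) * (x * (d : G)⁻¹) := by group
        _ = d' * ((d' : G)⁻¹ * (x * d' * x⁻¹)) * (x * (d : G)⁻¹) := by rw [e']
        _ = x * ((d' : G) * (d : G)⁻¹) := by group)
    exact Subtype.ext (mul_inv_eq_one.1 this).symm
  obtain ⟨d, hd⟩ := hsur ⟨a, ha⟩
  have hd' : (d : G)⁻¹ * (x * d * x⁻¹) = a := congrArg Subtype.val hd
  refine (commutatorElement_eq_one_iff_commute.1 ?_).symm
  have e := hxK d d.2 b hb
  rw [show x * (d : G) * x⁻¹ = d * a by rw [← hd']; group, br hb d.2 ha] at e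
  simpa using e

/-- A nilpotent subgroup under a simple group containing `A₄` is elementary abelian of exponent two. -/
theorem elementary_of_four : ∀ (n : ℕ) (G : Type u) [Group G] [Finite G], Nat.card G ≤ n →
    ∀ (x s : G), SC x → ∀ (N : Subgroup G) [N.Normal], IsSimpleGroup (G ⧸ N) → Group.IsNilpotent N →
      ¬ 3 ∣ Nat.card N → (s : G ⧸ N) ≠ 1 → (s : G ⧸ N) * s = 1 → orderOf ((s * x : G) : G ⧸ N) = 3 →
      ∀ a ∈ N, a ^ 2 = 1 ∧ ∀ b ∈ N, Commute a b := by
  intro n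
  induction n with
  | zero => intro G _ _ hle; exact absurd hle (not_le.2 Nat.card_pos)
  | succ n ih =>
    intro G _ _ hle x s hx N _ hsimp hnil hN hs hs2 hsx a ha
    haveI := hsimp
    haveI := hnil
    have hsx' : SC (s * x) := hx.sc_of_dvd (hsx ▸ orderOf_map_dvd (QuotientGroup.mk' N) (s * x))
    have hs2N : s * s ∈ N := (QuotientGroup.eq_one_iff _).1 (by rw [QuotientGroup.mk_mul]; exact hs2)
    set M : Subgroup G := (Subgroup.center N).map N.subtype with hMdef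
    haveI := center_map_normal N
    haveI := center_map_comm N
    have hM := not_three_center_map hN
    have hexp : ∀ a ∈ N, (∀ c ∈ N, Commute a c) → a ^ 2 = 1 := fun a ha hc =>
      exponent_two hx (not_mem_of_mk hs) hs2N hsx' hM (le_centralizer_center N)
        ⟨⟨a, ha⟩, Subgroup.mem_center_iff.2 fun c => Subtype.ext (hc c c.2).symm.eq, rfl⟩
    suffices hab : ∀ a ∈ N, ∀ b ∈ N, Commute a b from ⟨hexp a ha (hab a ha), hab a ha⟩
    by_cases hbot : N = ⊥
    · intro a ha b _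
      rw [hbot, Subgroup.mem_bot] at ha
      rw [ha]; exact Commute.one_left b
    haveI : Nontrivial N := (Subgroup.nontrivial_iff_ne_bot N).2 hbot
    have hMN : M ≤ N := Subgroup.map_subtype_le _
    have hMne : M ≠ ⊥ := by
      rw [hMdef, Ne, Subgroup.map_eq_bot_iff_of_injective _ N.subtype_injective]
      exact Group.IsNilpotent.center_ne_bot N
    have hlt : Nat.card (G ⧸ M) ≤ n := by
      have h1 := Subgroup.card_eq_card_quotient_mul_card_subgroup M
      have h2 : 1 < Nat.card M := (Subgroup.one_lt_card_iff_ne_bot _).2 hMne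
      have : Nat.card (G ⧸ M) * 2 ≤ Nat.card G := h1 ▸ Nat.mul_le_mul_left _ h2
      have : 0 < Nat.card (G ⧸ M) := Nat.card_pos
      omega
    let e := QuotientGroup.quotientQuotientEquivQuotient M N hMN
    have he : ∀ g : G, e ((g : G ⧸ M) : (G ⧸ M) ⧸ N.map (QuotientGroup.mk' M)) = (g : G ⧸ N) := fun g => rfl
    haveI : IsSimpleGroup ((G ⧸ M) ⧸ N.map (QuotientGroup.mk' M)) := e.isSimpleGroup
    have hnil' : Group.IsNilpotent (N.map (QuotientGroup.mk' M) : Subgroup (G ⧸ M)) :=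
      Group.nilpotent_of_surjective ((QuotientGroup.mk' M).subgroupMap N) ((QuotientGroup.mk' M).subgroupMap_surjective N)
    have hN' : ¬ 3 ∣ Nat.card (N.map (QuotientGroup.mk' M) : Subgroup (G ⧸ M)) := fun h3 =>
      hN (h3.trans (Subgroup.card_map_dvd _ _))
    have hIH := ih (G ⧸ M) hlt (x : G ⧸ M) (s : G ⧸ M) (hx.quotient M hM) (N.map (QuotientGroup.mk' M))
      inferInstance hnil' hN'
      (fun h1 => hs (by rw [← he, h1]; exact map_one e))
      (e.injective (by rw [map_mul, he, map_one]; exact hs2))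
      (by rw [← e.orderOf_eq, ← QuotientGroup.mk_mul, he]; exact hsx)
    have hcl : ∀ a ∈ N, ∀ b ∈ N, ∀ c ∈ N, Commute ⁅a, b⁆ c := by
      intro a ha b hb c hc
      have h1 := (hIH _ (Subgroup.mem_map_of_mem _ ha)).2 _ (Subgroup.mem_map_of_mem _ hb)
      have h2 : ((⁅a, b⁆ : G) : G ⧸ M) = 1 :=
        (map_commutatorElement (QuotientGroup.mk' M) a b).trans (commutatorElement_eq_one_iff_commute.2 h1)
      exact (Subgroup.mem_centralizer_iff.1 (le_centralizer_center N hc) _ ((QuotientGroup.eq_one_iff _).1 h2))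
    exact comm_of_class_two hx hN hs hs2 hsx hcl hexp

end CfsgLib.SelfCentThree
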