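import Cfsg.Agent.Lib.SelfCentThree.Parts

/-!
Bounds on the maximal invariant subgroups.
-/

set_option autoImplicit false
set_option maxHeartbeats 200000

namespace CfsgLib.SelfCentThree

variable {G : Type*} [Group G] [Finite G] {x i : G} {H : Subgroup G}

/-- The nontrivial maximal invariant subgroups. -/
noncomputable def hs (x : G) : Finset (Subgroup G) :=
  letI := Classical.decPred (fun H : Subgroup G => MaxInv x H ∧ H ≠ ⊥)
  haveI := Fintype.ofFinite (Subgroup G)
  Finset.univ.filter (fun H : Subgroup G => MaxInv x H ∧ H ≠ ⊥)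

theorem mem_hs : H ∈ hs x ↔ MaxInv x H ∧ H ≠ ⊥ := by
  simp [hs]

/-- The abelian invariant subgroup generated by the element attached to a pair. -/
theorem SC.exists_inv_of_pair (h : SC x) {a : G} (ha : a ≠ 1) (h1 : orderOf (x⁻¹ * a) = 3)
    (h2 : orderOf (x * a) = 3) : ∃ B : Subgroup G, Inv3 x B ∧ a ∈ B := by
  classical
  obtain ⟨c1, -⟩ := cube_of_order h1
  obtain ⟨c2, -⟩ := cube_of_order h2
  set p := x⁻¹ * a * x with hp
  set q := x * a * x⁻¹ with hq
  have hxx : x⁻¹ * x⁻¹ = x := by rw [← mul_inv_rev, ← h.inv_eq, inv_inv]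
  have hx3 : x * x * x = 1 := by simpa [pow_succ] using h.pow_three
  have e1 : p * q * a = 1 := by
    calc p * q * a = x⁻¹ * a * (x * x) * a * x⁻¹ * a := by simp [p, q, mul_assoc]
      _ = x⁻¹ * a * x⁻¹ * a * x⁻¹ * a := by rw [← h.inv_eq]
      _ = (x⁻¹ * a) * (x⁻¹ * a) * (x⁻¹ * a) := by simp [mul_assoc]
      _ = 1 := c1
  have e2 : q * p * a = 1 := by
    calc q * p * a = x * a * (x⁻¹ * x⁻¹) * a * x * a := by simp [p, q, mul_assoc]
      _ = (x * a) * (x * a) * (x * a) := by rw [hxx]; simp [mul_assoc]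
      _ = 1 := c2
  have hpq : p * q = q * p := mul_right_cancel (e1.trans e2.symm)
  have hpa : a = (p * q)⁻¹ := eq_inv_of_mul_eq_one_right e1
  have cpq : Commute p q := hpq
  have cap : Commute a p := hpa ▸ ((Commute.refl p).mul_left cpq.symm).inv_left
  have caq : Commute a q := hpa ▸ (cpq.mul_left (Commute.refl q)).inv_left
  let S : Set G := {a, p, q}
  have hScomm : ∀ u ∈ S, ∀ v ∈ S, Commute u v := by
    intro u hu v hv
    simp only [S, Set.mem_insert_iff, Set.mem_singleton_iff] at hu hv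
    rcases hu with rfl | rfl | rfl <;> rcases hv with rfl | rfl | rfl <;>
      first
        | exact Commute.refl _
        | exact cap
        | exact cap.symm
        | exact caq
        | exact caq.symm
        | exact cpq
        | exact cpq.symm
  set B := Subgroup.closure S
  haveI : IsMulCommutative B :=
    Subgroup.isMulCommutative_closure fun u hu v hv => (hScomm u hu v hv).eq
  have haB : a ∈ B := Subgroup.subset_closure (by simp [S])
  have hqx : x * q * x⁻¹ = p := by rw [hp, hq]; exact h.conj_conj a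
  have hxB : x ∈ Subgroup.normalizer (B : Set G) := by
    rw [Subgroup.mem_normalizer_iff_map_conj_eq]
    refine Subgroup.eq_of_le_of_card_ge ?_ (le_of_eq (Subgroup.card_map_of_injective (MulAut.conj x).injective).symm)
    rw [MonoidHom.map_closure]
    refine Subgroup.closure_mono ?_
    rintro _ ⟨u, hu, rfl⟩
    simp only [S, Set.mem_insert_iff, Set.mem_singleton_iff] at hu ⊢
    rcases hu with rfl | rfl | rfl
    · exact Or.inr (Or.inr rfl)
    · exact Or.inl (show x * (x⁻¹ * a * x) * x⁻¹ = a by group)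
    · exact Or.inr (Or.inl hqx)
  refine ⟨B, ⟨fun h3 => ?_, hxB⟩, haB⟩
  haveI : Fact (Nat.Prime 3) := ⟨Nat.prime_three⟩
  obtain ⟨k, hk⟩ := exists_prime_orderOf_dvd_card' (G := B) 3 h3
  rw [← Subgroup.orderOf_coe] at hk
  have hksc : SC (k : G) := h.sc_of_dvd (hk ▸ dvd_rfl)
  have hBk : B ≤ Subgroup.zpowers (k : G) := fun b hb => hksc.cent b (setLike_mul_comm hb k.2)
  have hBe : B = Subgroup.zpowers (k : G) := le_antisymm hBk (Subgroup.zpowers_le.2 k.2)
  rw [hBe] at hxB
  rcases hksc.mem_normalizer_cases hxB with e | e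
  · have hax : a ∈ Subgroup.zpowers x := by
      rcases hksc.mem_zpowers_cases e with e' | e' | e'
      · exact absurd e' h.ne_one
      · rw [e', ← hBe]; exact haB
      · rw [e', Subgroup.zpowers_inv, ← hBe]; exact haB
    rcases h.mem_zpowers_cases hax with e' | e' | e'
    · exact ha e'
    · rw [e', inv_mul_cancel, orderOf_one] at h1; norm_num at h1
    · rw [e', mul_inv_cancel, orderOf_one] at h2; norm_num at h2
  · -- an element of order three inverts nothing
    have e' : (k : G) = (k : G)⁻¹ := by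
      calc (k : G) = (x * x * x) * k * (x * x * x)⁻¹ := by rw [hx3]; simp
        _ = x * (x * (x * k * x⁻¹) * x⁻¹) * x⁻¹ := by simp [mul_assoc]
        _ = x * (x * (k : G)⁻¹ * x⁻¹) * x⁻¹ := by rw [e]
        _ = x * (x * k * x⁻¹)⁻¹ * x⁻¹ := by simp [mul_assoc]
        _ = x * (k : G) * x⁻¹ := by conv_lhs => rw [e, inv_inv]
        _ = (k : G)⁻¹ := e
    have := orderOf_dvd_of_pow_eq_one (show (k : G) ^ 2 = 1 by
      rw [sq]; nth_rewrite 2 [e']; exact mul_inv_cancel _)
    rw [hksc.order] at this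
    norm_num at this

theorem SC.pairs_le (h : SC x) :
    Nat.card {y : G // orderOf y = 3 ∧ orderOf (y⁻¹ * x) = 3} ≤ 1 + ∑ H ∈ hs x, (Nat.card H - 1) := by
  classical
  haveI := Fintype.ofFinite G
  set T := Finset.univ.filter (fun y : G => orderOf y = 3 ∧ orderOf (y⁻¹ * x) = 3)
  have hsub : T.image (fun y => x * y) ⊆
      insert 1 ((hs x).biUnion fun H => (Finset.univ.filter (fun a : G => a ∈ H)).erase 1) := by
    intro a ha
    obtain ⟨y, hy, rfl⟩ := Finset.mem_image.1 ha
    simp only [T, Finset.mem_filter, Finset.mem_univ, true_and] at hy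
    rw [Finset.mem_insert]
    by_cases h1 : x * y = 1
    · exact Or.inl h1
    · right
      have e2 : orderOf (x * (x * y)) = 3 := by
        rw [← mul_assoc, ← h.inv_eq, ← orderOf_inv, mul_inv_rev, inv_inv]; exact hy.2
      obtain ⟨B, hB, haB⟩ := h.exists_inv_of_pair h1 (by rw [inv_mul_cancel_left]; exact hy.1) e2
      obtain ⟨H, hH, hBH⟩ := hB.exists_max
      exact Finset.mem_biUnion.2 ⟨H, mem_hs.2 ⟨hH, fun e => h1 (Subgroup.mem_bot.1 (e ▸ hBH haB))⟩,
        by simp [h1, hBH haB]⟩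
  have := Finset.card_le_card hsub
  rw [Finset.card_image_of_injective _ (mul_right_injective x)] at this
  rw [Nat.card_eq_fintype_card, Fintype.card_subtype]
  refine this.trans ((Finset.card_insert_le _ _).trans ?_)
  rw [add_comm 1]
  refine Nat.add_le_add_right (Finset.card_biUnion_le.trans (le_of_eq (Finset.sum_congr rfl fun H _ => ?_))) 1
  rw [Finset.card_erase_of_mem (by simp [H.one_mem]), ← Fintype.card_subtype, ← Nat.card_eq_fintype_card]

section Central

variable (h : SC x) (hH : Inv3 x H)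

include h hH

theorem exists_central_two (heven : 2 ∣ Nat.card H) :
    ∃ Z : Subgroup G, Z ≤ H ∧ 2 ∣ Nat.card Z ∧ (∀ z ∈ Z, ∀ a ∈ H, Commute z a) ∧
      Subgroup.normalizer (H : Set G) ≤ Subgroup.normalizer (Z : Set G) := by
  haveI : Fact (Nat.Prime 2) := ⟨Nat.prime_two⟩
  haveI := h.isNilpotent hH.1 hH.2
  refine ⟨(Subgroup.center H).map H.subtype, Subgroup.map_subtype_le _, ?_, ?_, fun g hg => ?_⟩
  · obtain ⟨S⟩ : Nonempty (Sylow 2 H) := inferInstance
    haveI : Nontrivial (S : Subgroup H) :=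
      (Subgroup.nontrivial_iff_ne_bot _).2 (S.ne_bot_of_dvd_card heven)
    haveI := S.isPGroup'.center_nontrivial
    obtain ⟨z, hz⟩ := exists_ne (1 : Subgroup.center (S : Subgroup H))
    set zH : H := ((z : (S : Subgroup H)) : H)
    have hz1 : zH ≠ 1 := fun e => hz (Subtype.ext (Subtype.ext e))
    obtain ⟨m, hm⟩ := IsPGroup.iff_orderOf.1 S.isPGroup' (z : (S : Subgroup H))
    have hzo : orderOf zH = 2 ^ m := by rw [← hm]; exact Subgroup.orderOf_coe _
    have hC : Subgroup.centralizer ({zH} : Set H) = ⊤ := by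
      refine Subgroup.eq_top_of_le_card _ (Nat.le_of_dvd Nat.card_pos ?_)
      rw [Nat.dvd_iff_prime_pow_dvd_dvd]
      intro q k hq hd
      haveI := Fact.mk hq
      obtain ⟨Q⟩ : Nonempty (Sylow q H) := inferInstance
      have hQC : (Q : Subgroup H) ≤ Subgroup.centralizer ({zH} : Set H) := by
        intro a ha
        rw [Subgroup.mem_centralizer_singleton_iff]
        by_cases hq2 : q = 2
        · subst hq2
          haveI := Sylow.unique_of_normal S inferInstance
          have hQS : Q = S := Subsingleton.elim _ _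
          exact congrArg Subtype.val (Subgroup.mem_center_iff.1 z.2 ⟨a, hQS ▸ ha⟩)
        · obtain ⟨n, hn⟩ := IsPGroup.iff_orderOf.1 Q.isPGroup' ⟨a, ha⟩
          rw [Subgroup.orderOf_mk] at hn
          refine (CfsgLib.NilpPerm.commute_of_coprime_order (a := a) (b := zH) ?_).eq
          rw [hn, hzo]
          exact Nat.Coprime.pow _ _ ((Nat.coprime_primes hq Nat.prime_two).2 hq2)
      exact (Q.pow_dvd_card_of_pow_dvd_card hd).trans (Subgroup.card_dvd_of_le hQC)
    have hzc : zH ∈ Subgroup.center H := Subgroup.mem_center_iff.2 fun a =>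
      Subgroup.mem_centralizer_singleton_iff.1 (hC ▸ Subgroup.mem_top a)
    rw [Subgroup.card_map_of_injective H.subtype_injective]
    refine dvd_trans ?_ (Subgroup.orderOf_dvd_natCard _ hzc)
    rw [hzo]
    refine dvd_pow_self 2 fun e => hz1 ?_
    rwa [e, pow_zero, orderOf_eq_one_iff] at hzo
  · rintro _ ⟨z, hz, rfl⟩ a ha
    exact (congrArg Subtype.val (Subgroup.mem_center_iff.1 hz ⟨a, ha⟩)).symm
  · rw [Subgroup.mem_normalizer_iff]
    intro z
    constructor
    · rintro ⟨z, hz, rfl⟩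
      refine ⟨⟨g * z * g⁻¹, (Subgroup.mem_normalizer_iff.1 hg z).1 z.2⟩, Subgroup.mem_center_iff.2 fun a => Subtype.ext ?_, rfl⟩
      have := congrArg Subtype.val (Subgroup.mem_center_iff.1 hz ⟨g⁻¹ * a * g, conj'_mem_of_mem_normalizer hg a.2⟩)
      show (a : G) * (g * z * g⁻¹) = g * z * g⁻¹ * a
      calc (a : G) * (g * z * g⁻¹) = g * (g⁻¹ * a * g * z) * g⁻¹ := by group
        _ = g * ((z : G) * (g⁻¹ * a * g)) * g⁻¹ := by rw [show g⁻¹ * (a : G) * g * z = z * (g⁻¹ * a * g) from this]
        _ = g * z * g⁻¹ * a := by group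
    · rintro ⟨w, hw, e⟩
      have e' : (w : G) = g * z * g⁻¹ := e
      refine ⟨⟨g⁻¹ * w * g, conj'_mem_of_mem_normalizer hg w.2⟩, Subgroup.mem_center_iff.2 fun a => Subtype.ext ?_,
        show g⁻¹ * (w : G) * g = z by rw [e']; group⟩
      have := congrArg Subtype.val (Subgroup.mem_center_iff.1 hw ⟨g * a * g⁻¹, (Subgroup.mem_normalizer_iff.1 hg a).1 a.2⟩)
      show (a : G) * (g⁻¹ * w * g) = g⁻¹ * w * g * a
      calc (a : G) * (g⁻¹ * w * g) = g⁻¹ * (g * a * g⁻¹ * w) * g := by group
        _ = g⁻¹ * ((w : G) * (g * a * g⁻¹)) * g := by rw [show g * (a : G) * g⁻¹ * w = w * (g * a * g⁻¹) from this]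
        _ = g⁻¹ * w * g * a := by group

theorem card_dvd_centralizer (hconj : ∀ u v : G, orderOf u = 2 → orderOf v = 2 → IsConj u v)
    (hio : orderOf i = 2) (heven : 2 ∣ Nat.card H) :
    Nat.card H ∣ Nat.card (Subgroup.centralizer ({i} : Set G)) := by
  haveI : Fact (Nat.Prime 2) := ⟨Nat.prime_two⟩
  obtain ⟨Z, hZH, hZ2, hZc, -⟩ := exists_central_two h hH heven
  obtain ⟨z, hz⟩ := exists_prime_orderOf_dvd_card' (G := Z) 2 hZ2
  rw [← Subgroup.orderOf_coe] at hz
  obtain ⟨g, hg⟩ := isConj_iff.1 (hconj i z hio hz)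
  have e : Subgroup.centralizer ({(z : G)} : Set G) = cj g (Subgroup.centralizer ({i} : Set G)) := by
    ext w
    rw [mem_cj, Subgroup.mem_centralizer_singleton_iff, Subgroup.mem_centralizer_singleton_iff, ← hg]
    constructor
    · intro hw
      calc g⁻¹ * w * g * i = g⁻¹ * (w * (g * i * g⁻¹)) * g := by group
        _ = i * (g⁻¹ * w * g) := by rw [hw]; group
    · intro hw
      calc w * (g * i * g⁻¹) = g * (g⁻¹ * w * g * i) * g⁻¹ := by group
        _ = g * i * g⁻¹ * w := by rw [hw]; group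
  rw [← card_cj g (Subgroup.centralizer ({i} : Set G)), ← e]
  exact Subgroup.card_dvd_of_le fun a ha =>
    Subgroup.mem_centralizer_singleton_iff.2 (hZc z z.2 a ha).symm.eq

theorem two_mul_card_dvd_centralizer (hconj : ∀ u v : G, orderOf u = 2 → orderOf v = 2 → IsConj u v)
    (hi : i * x * i⁻¹ = x⁻¹) (hiH : i ∈ Subgroup.normalizer (H : Set G)) (heven : 2 ∣ Nat.card H) :
    2 * Nat.card H ∣ Nat.card (Subgroup.centralizer ({i} : Set G)) := by
  haveI : Fact (Nat.Prime 2) := ⟨Nat.prime_two⟩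
  obtain ⟨Z, hZH, hZ2, hZc, hZn⟩ := exists_central_two h hH heven
  have hZi : Inv3 x Z := hH.of_le hZH (hZn hH.2)
  have hsq := h.card_eq_sq hZi.1 hZi.2 (h.inverter_sq hi) hi (hZn hiH)
  have h2 : 2 ∣ Nat.card (Z ⊓ Subgroup.centralizer {i} : Subgroup G) :=
    Nat.prime_two.dvd_of_dvd_pow (hsq ▸ hZ2)
  obtain ⟨z, hz⟩ := exists_prime_orderOf_dvd_card' (G := (Z ⊓ Subgroup.centralizer {i} : Subgroup G)) 2 h2
  rw [← Subgroup.orderOf_coe] at hz
  obtain ⟨g, hg⟩ := isConj_iff.1 (hconj i z (h.orderOf_inverter hi) hz)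
  have e : Subgroup.centralizer ({(z : G)} : Set G) = cj g (Subgroup.centralizer ({i} : Set G)) := by
    ext w
    rw [mem_cj, Subgroup.mem_centralizer_singleton_iff, Subgroup.mem_centralizer_singleton_iff, ← hg]
    constructor
    · intro hw
      calc g⁻¹ * w * g * i = g⁻¹ * (w * (g * i * g⁻¹)) * g := by group
        _ = i * (g⁻¹ * w * g) := by rw [hw]; group
    · intro hw
      calc w * (g * i * g⁻¹) = g * (g⁻¹ * w * g * i) * g⁻¹ := by group
        _ = g * i * g⁻¹ * w := by rw [hw]; group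
  rw [← card_cj g (Subgroup.centralizer ({i} : Set G)), ← e, ← h.card_sup_inverter hi hH hiH]
  refine Subgroup.card_dvd_of_le (sup_le ?_ ?_)
  · exact fun a ha => Subgroup.mem_centralizer_singleton_iff.2 (hZc z z.2.1 a ha).symm.eq
  · exact Subgroup.zpowers_le.2
      (Subgroup.mem_centralizer_singleton_iff.2 (Subgroup.mem_centralizer_singleton_iff.1 z.2.2).symm)

end Central

end CfsgLib.SelfCentThree
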