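import Cfsg.Agent.Lib.SelfCentThree.Models
import Cfsg.Agent.Lib.Solvable.Core

/-!
The three possibilities, and their consequence for invariant subgroups of order prime to three.
-/

set_option autoImplicit false
set_option maxHeartbeats 200000

namespace CfsgLib.SelfCentThree

universe u

/-- Nilpotent 3'-subgroup with quotient `C₃` or `Sym(3)`. -/
def TypeI (G : Type u) [Group G] : Prop :=
  ∃ (N : Subgroup G) (_ : N.Normal), Group.IsNilpotent N ∧ (Nat.card N).Coprime 3 ∧
    (Nat.card (G ⧸ N) = 3 ∨ Nonempty (G ⧸ N ≃* Equiv.Perm (Fin 3)))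

/-- Elementary abelian 2-subgroup with quotient `Alt(5)`. -/
def TypeII (G : Type u) [Group G] : Prop :=
  ∃ (N : Subgroup G) (_ : N.Normal), IsMulCommutative N ∧ (∀ n ∈ N, n ^ 2 = 1) ∧
    Nonempty (G ⧸ N ≃* A5)

/-- The conclusion of the theorem. -/
def Concl (G : Type u) [Group G] : Prop := TypeI G ∨ TypeII G ∨ Nonempty (G ≃* L7)

variable {G : Type u} [Group G] {x t g : G}

theorem SC.mem_normalizer_cases (h : SC x) (hg : g ∈ Subgroup.normalizer (Subgroup.zpowers x : Set G)) :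
    g ∈ Subgroup.zpowers x ∨ g * x * g⁻¹ = x⁻¹ := by
  rcases h.mem_zpowers_cases ((Subgroup.mem_normalizer_iff.1 hg x).1 (Subgroup.mem_zpowers x)) with e | e | e
  · exact absurd (conj_eq_one_iff.1 e) h.ne_one
  · exact Or.inl (h.cent g (mul_inv_eq_iff_eq_mul.1 e))
  · exact Or.inr e

theorem mem_normalizer_zpowers_of_inverts (ht : t * x * t⁻¹ = x⁻¹) :
    t ∈ Subgroup.normalizer (Subgroup.zpowers x : Set G) := by
  rw [Subgroup.mem_normalizer_iff]
  intro y
  simp only [Subgroup.mem_zpowers_iff]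
  constructor
  · rintro ⟨k, rfl⟩
    exact ⟨-k, by rw [← conj_zpow, ht, inv_zpow, zpow_neg]⟩
  · rintro ⟨k, hk⟩
    refine ⟨-k, ?_⟩
    have h2 : t * x ^ (-k) * t⁻¹ = x ^ k := by rw [← conj_zpow, ht, inv_zpow, zpow_neg, inv_inv]
    rw [hk] at h2
    exact mul_left_cancel (mul_right_cancel h2)

theorem SC.inverts_mul (h : SC x) (ht : t * x * t⁻¹ = x⁻¹) (hg : g * x * g⁻¹ = x⁻¹) :
    t⁻¹ * g ∈ Subgroup.zpowers x := h.cent _ (by
  have e : t⁻¹ * (g * x * g⁻¹) * t = x := by rw [hg, ← ht]; group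
  calc t⁻¹ * g * x = t⁻¹ * (g * x * g⁻¹) * t * (t⁻¹ * g) := by group
    _ = x * (t⁻¹ * g) := by rw [e])

theorem SC.inverter_not_mem (h : SC x) (ht : t * x * t⁻¹ = x⁻¹) : t ∉ Subgroup.zpowers x := by
  intro e
  obtain ⟨k, rfl⟩ := Subgroup.mem_zpowers_iff.1 e
  rw [((Commute.refl x).zpow_left k).eq, mul_inv_cancel_right] at ht
  have h2 := orderOf_dvd_of_pow_eq_one (show x ^ 2 = 1 by rw [sq]; nth_rewrite 1 [ht]; exact inv_mul_cancel x)
  rw [h.order] at h2
  norm_num at h2

theorem conj_le_iff_aux {K : Subgroup G} (hK : ∀ g : G, ∀ k ∈ K, g * k * g⁻¹ ∈ K) : K.Normal :=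
  ⟨fun k hk g => hK g k hk⟩

variable [Finite G]

theorem SC.inverter_sq (h : SC x) (ht : t * x * t⁻¹ = x⁻¹) : t * t = 1 := by
  have h1 : t * t ∈ Subgroup.zpowers x := h.cent _ (by
    have : (t * t) * x * (t * t)⁻¹ = x := by
      calc (t * t) * x * (t * t)⁻¹ = t * (t * x * t⁻¹) * t⁻¹ := by group
        _ = t * x⁻¹ * t⁻¹ := by rw [ht]
        _ = (t * x * t⁻¹)⁻¹ := by group
        _ = x := by rw [ht, inv_inv]
    exact mul_inv_eq_iff_eq_mul.1 this)
  rcases h.mem_zpowers_cases h1 with e | e | e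
  · exact e
  all_goals
    exfalso
    have hc : t * (t * t) * t⁻¹ = t * t := by group
    rw [e] at hc
  · rw [ht] at hc
    exact h.inverter_not_mem ht (h.cent t (mul_inv_eq_iff_eq_mul.1 (ht.trans hc)))
  · rw [show t * x⁻¹ * t⁻¹ = (t * x * t⁻¹)⁻¹ by group, ht, inv_inv] at hc
    exact h.inverter_not_mem ht (h.cent t (mul_inv_eq_iff_eq_mul.1 (ht.trans hc.symm)))

theorem SC.inverts_iff (h : SC x) (ht : t * x * t⁻¹ = x⁻¹) :
    g ∈ Subgroup.normalizer (Subgroup.zpowers x : Set G) ↔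
      g ∈ Subgroup.zpowers x ∨ t * g ∈ Subgroup.zpowers x := by
  have htt : t⁻¹ = t := inv_eq_of_mul_eq_one_right (h.inverter_sq ht)
  refine ⟨fun hg => (h.mem_normalizer_cases hg).imp_right fun e => by
    simpa [htt] using h.inverts_mul ht e, fun hg => ?_⟩
  rcases hg with e | e
  · exact Subgroup.le_normalizer e
  · have hm := Subgroup.le_normalizer (H := Subgroup.zpowers x) e
    simpa using mul_mem (inv_mem (mem_normalizer_zpowers_of_inverts ht)) hm

theorem SC.card_normalizer (h : SC x) (ht : t * x * t⁻¹ = x⁻¹) :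
    Nat.card (Subgroup.normalizer (Subgroup.zpowers x : Set G)) = 6 := by
  set H := Subgroup.normalizer (Subgroup.zpowers x : Set G)
  have hle : Subgroup.zpowers x ≤ H := Subgroup.le_normalizer
  have hidx : ((Subgroup.zpowers x).subgroupOf H).index = 2 := by
    rw [Subgroup.index_eq_two_iff]
    refine ⟨⟨t, mem_normalizer_zpowers_of_inverts ht⟩, fun b => ?_⟩
    have htn := h.inverter_not_mem ht
    have htt := h.inverter_sq ht
    simp only [Subgroup.mem_subgroupOf, Subgroup.coe_mul]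
    rcases (h.inverts_iff ht).1 b.2 with e | e
    · refine Or.inr ⟨e, fun e' => htn ?_⟩
      simpa using mul_mem (inv_mem e) e'
    · refine Or.inl ⟨?_, fun e' => htn ?_⟩
      · -- `b * t` lies in `⟨x⟩`
        have hn := (Subgroup.mem_normalizer_iff.1 (mem_normalizer_zpowers_of_inverts ht) _).1 e
        rwa [show t * (t * (b : G)) * t⁻¹ = (b : G) * t by
          rw [← mul_assoc, htt, one_mul, inv_eq_of_mul_eq_one_right htt]] at hn
      · simpa using mul_mem e (inv_mem e')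
  rw [← Subgroup.card_mul_index ((Subgroup.zpowers x).subgroupOf H), hidx,
    Nat.card_congr (Subgroup.subgroupOfEquivOfLe hle).toEquiv, h.card_zpowers]

/-- An invariant 3'-subgroup of a group of order at most six is trivial. -/
theorem SC.eq_bot_of_small (h : SC x) (hG : Nat.card G = 3 ∨ Nat.card G = 6) {Y : Subgroup G}
    (hY : ¬ 3 ∣ Nat.card Y) (hx : x ∈ Subgroup.normalizer (Y : Set G)) : Y = ⊥ := by
  have hmod := h.card_mod_three hY hx
  have hd := Subgroup.card_subgroup_dvd_card Y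
  refine Subgroup.card_eq_one.1 ?_
  have : Nat.card Y ∣ 2 := by
    have hc : (Nat.card Y).Coprime 3 := ((Nat.prime_three.coprime_iff_not_dvd).2 hY).symm
    refine hc.dvd_of_dvd_mul_left (show Nat.card Y ∣ 3 * 2 from ?_)
    rcases hG with e | e <;> rw [e] at hd
    · exact hd.trans ⟨2, rfl⟩
    · exact hd
  rcases (Nat.dvd_prime Nat.prime_two).1 this with e | e <;> omega

theorem not_three_of_coprime {n : ℕ} (hn : n.Coprime 3) : ¬ 3 ∣ n :=
  (Nat.prime_three.coprime_iff_not_dvd).1 hn.symm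

theorem coprime_of_not_three {n : ℕ} (hn : ¬ 3 ∣ n) : n.Coprime 3 :=
  ((Nat.prime_three.coprime_iff_not_dvd).2 hn).symm

theorem not_three_map {H : Type*} [Group H] (f : G →* H) {Y : Subgroup G} (hY : ¬ 3 ∣ Nat.card Y) :
    ¬ 3 ∣ Nat.card (Y.map f : Subgroup H) := fun e => hY (e.trans (Subgroup.card_map_dvd Y f))

theorem not_three_sup {A B : Subgroup G} (h : B ≤ Subgroup.normalizer (A : Set G)) (hA : ¬ 3 ∣ Nat.card A)
    (hB : ¬ 3 ∣ Nat.card B) : ¬ 3 ∣ Nat.card (A ⊔ B : Subgroup G) := fun e => by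
  have := e.trans (CfsgLib.Solvable.card_sup_dvd (N := A) (H := B) h)
  rcases Nat.prime_three.dvd_mul.1 this with e' | e'
  · exact hA e'
  · exact hB e'

/-- Order at most six with a self-centralising element of order three. -/
theorem SC.perm_three (h : SC x) (hG : Nat.card G = 6) : Nonempty (G ≃* Equiv.Perm (Fin 3)) := by
  classical
  haveI : Fact (Nat.Prime 2) := ⟨Nat.prime_two⟩
  obtain ⟨t, ht⟩ := exists_prime_orderOf_dvd_card' (G := G) 2 (by rw [hG]; norm_num)
  set T := Subgroup.zpowers t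
  have hT : Nat.card T = 2 := by rw [Nat.card_zpowers, ht]
  have hidx : T.index = 3 := by
    have := Subgroup.card_mul_index T
    rw [hT, hG] at this; omega
  let f : G →* Equiv.Perm (G ⧸ T) := MulAction.toPermHom G (G ⧸ T)
  have hf : Function.Injective f := by
    rw [← MonoidHom.ker_eq_bot_iff, ← Subgroup.normalCore_eq_ker]
    haveI := Subgroup.normalCore_normal T
    refine h.eq_bot_of_small (Or.inr hG) (fun e => ?_) ?_
    · have := e.trans (Subgroup.card_dvd_of_le (Subgroup.normalCore_le T))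
      rw [hT] at this; norm_num at this
    · rw [Subgroup.normalizer_eq_top (H := T.normalCore)]; exact Subgroup.mem_top x
  obtain ⟨e⟩ : Nonempty (G ⧸ T ≃ Fin 3) := ⟨Finite.equivFinOfCardEq (by rw [← Subgroup.index_eq_card, hidx])⟩
  let f' := e.permCongrHom.toMonoidHom.comp f
  exact ⟨MulEquiv.ofBijective f' ((Nat.bijective_iff_injective_and_card f').2
    ⟨e.permCongrHom.injective.comp hf, by rw [hG, Nat.card_perm, Nat.card_fin]; rfl⟩)⟩

theorem TypeI.card_quot {N : Subgroup G} [N.Normal]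
    (hq : Nat.card (G ⧸ N) = 3 ∨ Nonempty (G ⧸ N ≃* Equiv.Perm (Fin 3))) :
    Nat.card (G ⧸ N) = 3 ∨ Nat.card (G ⧸ N) = 6 :=
  hq.imp_right fun ⟨e⟩ => by rw [Nat.card_congr e.toEquiv, Nat.card_perm, Nat.card_fin]; rfl

/-- In type I every invariant 3'-subgroup lies in the kernel. -/
theorem SC.le_of_typeI (h : SC x) {N : Subgroup G} [N.Normal] (hN : ¬ 3 ∣ Nat.card N)
    (hq : Nat.card (G ⧸ N) = 3 ∨ Nat.card (G ⧸ N) = 6) {Y : Subgroup G} (hY : ¬ 3 ∣ Nat.card Y)
    (hx : x ∈ Subgroup.normalizer (Y : Set G)) : Y ≤ N := by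
  have : Y.map (QuotientGroup.mk' N) = ⊥ := by
    refine (h.quotient N hN).eq_bot_of_small hq (not_three_map _ hY) ?_
    rw [Subgroup.mem_normalizer_iff]
    intro w
    constructor
    · rintro ⟨y, hy, rfl⟩
      exact ⟨x * y * x⁻¹, (Subgroup.mem_normalizer_iff.1 hx y).1 hy, by simp⟩
    · rintro ⟨y, hy, e⟩
      refine ⟨x⁻¹ * y * x, conj'_mem_of_mem_normalizer hx hy, ?_⟩
      simp only [map_mul, map_inv, e, QuotientGroup.mk'_apply]
      group
  rwa [Subgroup.map_eq_bot_iff, QuotientGroup.ker_mk'] at this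

end CfsgLib.SelfCentThree
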