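import Cfsg.Agent.Lib.SelfCentThree.TwoFour
import Cfsg.Agent.Lib.SelfCentThree.LocalTools
import Cfsg.Agent.Lib.Transfer.Fusion

/-!
No local subgroup is of type II.
-/

set_option autoImplicit false
set_option maxHeartbeats 400000

namespace CfsgLib.SelfCentThree

universe u

variable {G : Type u} [Group G] [Finite G] {x i s : G} {E : Subgroup G}

theorem Two.s_flat (T : Two x i s E) : s ∈ T.flat :=
  T.mem_flat.2 ⟨s, Or.inr (Or.inl rfl), 1, one_mem E, by simp, by simp⟩

theorem Two.e_le_big (T : Two x i s E) : E ≤ T.big := le_sup_right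

theorem Two.flat_le_big (T : Two x i s E) : T.flat ≤ T.big := inf_le_left

/-- The basic numbers. -/
theorem Two.numbers (T : Two x i s E) : ∃ k m : ℕ, Nat.card (E ⊓ Subgroup.centralizer {s} : Subgroup G) = k ∧
    k = 2 ^ m ∧ Nat.card E = k ^ 2 ∧ Nat.card T.big = 4 * k ^ 2 ∧ Nat.card T.flat = 4 * k ∧ 4 ≤ k := by
  haveI : Fact (Nat.Prime 2) := ⟨Nat.prime_two⟩
  set C := (E ⊓ Subgroup.centralizer {s} : Subgroup G) with hC
  obtain ⟨m, hm⟩ := IsPGroup.iff_card.1 ((isPGroup_two_of_exp T.exp).to_le (inf_le_left : C ≤ E))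
  have hx : x ∈ Subgroup.normalizer (C : Set G) := mem_normalizer_of_forall fun z hz => by
    rw [hC, Subgroup.mem_inf, Subgroup.mem_centralizer_singleton_iff] at hz ⊢
    exact ⟨conj_mem_of_mem_normalizer T.i3.2 hz.1, T.conj_x_fixed hz.1 hz.2⟩
  have hmod := T.sc.card_mod_three (Y := C) (hm ▸ not_three_two_pow m) hx
  have hEc : Nat.card E = Nat.card C ^ 2 := T.card_cent.symm
  refine ⟨_, m, rfl, hm, hEc, by rw [T.card_big, hEc], T.card_flat, ?_⟩
  have h1 : Nat.card C ≠ 1 := fun e => T.ne (Subgroup.card_eq_one.1 (by rw [hEc, e, one_pow]))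
  rw [hm] at h1 hmod ⊢
  match m with
  | 0 => simp at h1
  | 1 => norm_num at hmod
  | m + 2 => calc 4 = 2 ^ 2 := by norm_num
      _ ≤ 2 ^ (m + 2) := Nat.pow_le_pow_right (by norm_num) (by omega)

/-- A conjugate of `E` inside the big two-group. -/
theorem Two.conj_cases (T : Two x i s E) {g : G} (hg : g ∈ Subgroup.normalizer (T.big : Set G))
    (hne : cj g E ≠ E) : cj g E = T.flat ∧ Nat.card (E ⊓ Subgroup.centralizer {s} : Subgroup G) = 4 := by
  classical
  obtain ⟨k, m, hk, -, hE, -, hA, h4⟩ := T.numbers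
  set E1 := cj g E
  have hsub : E1 ≤ T.big := fun u hu => by
    have := (Subgroup.mem_normalizer_iff.1 hg (g⁻¹ * u * g)).1 (T.e_le_big (mem_cj.1 hu))
    simpa [mul_assoc] using this
  have hexp : ∀ u ∈ E1, u * u = 1 := fun u hu => by
    have := T.exp _ (mem_cj.1 hu)
    calc u * u = g * ((g⁻¹ * u * g) * (g⁻¹ * u * g)) * g⁻¹ := by group
      _ = 1 := by rw [this]; group
  have hcomm : ∀ u ∈ E1, ∀ v ∈ E1, u * v = v * u := fun u hu v hv => by
    have := T.comm _ (mem_cj.1 hu) _ (mem_cj.1 hv)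
    calc u * v = g * ((g⁻¹ * u * g) * (g⁻¹ * v * g)) * g⁻¹ := by group
      _ = g * ((g⁻¹ * v * g) * (g⁻¹ * u * g)) * g⁻¹ := by rw [this]
      _ = v * u := by group
  have hc1 : Nat.card E1 = Nat.card E := card_cj g E
  have key : ∀ u ∈ E1, u ∉ E → ∃ w ∈ T.four, w ≠ 1 ∧ ∃ e ∈ E, e * s = s * e ∧ e * w = w * e ∧ w * e = u := by
    intro u hu huE
    obtain ⟨w, hw, e, he, rfl⟩ := T.mem_big.1 (hsub hu)
    have hw1 : w ≠ 1 := fun e1 => huE (by rw [e1, one_mul]; exact he)
    have hew : e * w = w * e := by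
      calc e * w = e⁻¹ * w⁻¹ := by
            rw [inv_eq_of_mul_eq_one_right (T.exp e he), inv_eq_of_mul_eq_one_right (T.four_sq hw)]
        _ = (w * e)⁻¹ := (mul_inv_rev w e).symm
        _ = w * e := inv_eq_of_mul_eq_one_right (hexp _ hu)
    exact ⟨w, hw, hw1, e, he, T.fixed_of_four he hw hw1 hew, hew, rfl⟩
  obtain ⟨u, hu, huE⟩ : ∃ u ∈ E1, u ∉ E := by
    by_contra! hall
    exact hne (Subgroup.eq_of_le_of_card_ge hall hc1.ge)
  obtain ⟨w, hw, hw1, e, he, hes, hew, rfl⟩ := key u hu huE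
  have hle : E1 ≤ T.flat := by
    intro z hz
    by_cases hzE : z ∈ E
    · have h1 : z * (w * e) = (w * e) * z := hcomm z hz _ hu
      have h2 : z * e = e * z := T.comm z hzE e he
      have hzw : z * w = w * z := by
        refine mul_right_cancel (b := e) ?_
        calc z * w * e = w * e * z := by rw [mul_assoc, h1]
          _ = w * z * e := by rw [mul_assoc, ← h2, mul_assoc]
      exact T.mem_flat.2 ⟨1, one_mem _, z, hzE, T.fixed_of_four hzE hw hw1 hzw, one_mul z⟩
    · obtain ⟨w', hw', -, e', he', hes', -, rfl⟩ := key z hz hzE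
      exact T.mem_flat.2 ⟨w', hw', e', he', hes', rfl⟩
  have hcard : k ^ 2 ≤ 4 * k := by
    rw [← hE, ← hc1, ← hA]; exact Nat.le_of_dvd Nat.card_pos (Subgroup.card_dvd_of_le hle)
  have hk4 : k = 4 := by nlinarith
  refine ⟨Subgroup.eq_of_le_of_card_ge hle ?_, hk.trans hk4⟩
  rw [hc1, hE, hA, hk4]
  norm_num

/-- The big two-group is a Sylow subgroup, the two-part of the kernel of its normaliser. -/
theorem Two.big_sylow [IsSimpleGroup G] (T : Two x i s E)
    (hprop : ∀ L : Subgroup G, L ≠ ⊤ → x ∈ L → Concl L) :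
    ∃ N : Subgroup G, T.big ≤ N ∧ N ≤ Subgroup.normalizer (T.big : Set G) ∧
      Subgroup.normalizer (T.big : Set G) ≤ Subgroup.normalizer (N : Set G) ∧ Inv3 x N ∧
      Nat.card (Subgroup.normalizer (T.big : Set G)) = 3 * Nat.card N ∧
      Nat.card T.big = 2 ^ (Nat.card N).factorization 2 ∧
      Nat.card T.big = 2 ^ (Nat.card G).factorization 2 := by
  classical
  haveI : Fact (Nat.Prime 2) := ⟨Nat.prime_two⟩
  obtain ⟨k, m, hk, hkm, hE, hS, hA, h4⟩ := T.numbers
  have hSp : IsPGroup 2 T.big := IsPGroup.of_card (n := 2 * m + 2) (by rw [hS, hkm]; ring)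
  have hSne : T.big ≠ ⊥ := fun e => T.s_not (by
    have : s ∈ (⊥ : Subgroup G) := e ▸ T.flat_le_big T.s_flat
    rw [Subgroup.mem_bot.1 this]; exact one_mem E)
  have hSi : Inv3 x T.big := ⟨not_three_of_two_group hSp, T.x_big⟩
  have hiS : i ∉ Subgroup.normalizer (T.big : Set G) := fun e =>
    T.swap' (conj_mem_of_mem_normalizer e (T.flat_le_big T.s_flat))
  obtain ⟨N, hN1, hN2, hNi, hNc, hNmax⟩ := local_kernel T.sc T.inv hprop hSne hSi hiS
  have hSN : T.big ≤ N := hNmax _ Subgroup.le_normalizer hSi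
  obtain ⟨P, hPN, hPc, hPp, hPn⟩ := exists_part T.sc hNi 2
  have hSP : T.big ≤ P := le_part hPc hPN (Subgroup.le_normalizer.trans hPn) hSN hSp
  have hR : P ⊓ Subgroup.normalizer (E : Set G) ≤ T.big := by
    set R := P ⊓ Subgroup.normalizer (E : Set G)
    have hSR : T.big ≤ R := le_inf hSP (sup_le T.four_le Subgroup.le_normalizer)
    obtain ⟨r, hr⟩ := IsPGroup.iff_card.1 (hPp.to_le (inf_le_left : R ≤ P))
    have hd : 2 ^ r ∣ 15 * (4 * k ^ 2) := by
      rw [← hr]
      refine (Subgroup.card_dvd_of_le (inf_le_right : R ≤ _)).trans (dvd_of_eq ?_)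
      rw [T.card_l, hE]; ring
    have hd' : 2 ^ r ∣ 4 * k ^ 2 := (Nat.Coprime.pow_left r (by norm_num : Nat.Coprime 2 15)).dvd_of_dvd_mul_left hd
    exact (Subgroup.eq_of_le_of_card_ge hSR (by rw [hr, hS]; exact Nat.le_of_dvd (by positivity) hd')).ge
  have hPS : P = T.big := by
    refine le_antisymm ?_ hSP
    by_contra hle
    obtain ⟨p, hp, hpS⟩ := SetLike.not_le_iff_exists.1 hle
    have hout : ∀ q ∈ P, q ∉ T.big → cj q E = T.flat := fun q hq hqS =>
      (T.conj_cases (hN1 (hPN hq)) fun e => hqS (hR ⟨hq, cj_eq_self_iff.1 e⟩)).1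
    have hsur : Function.Surjective (Sum.elim (fun b : T.big => (⟨(b : G), hSP b.2⟩ : P))
        (fun b : T.big => (⟨p * b, mul_mem hp (hSP b.2)⟩ : P))) := by
      intro q
      by_cases hq : (q : G) ∈ T.big
      · exact ⟨Sum.inl ⟨q, hq⟩, rfl⟩
      · refine ⟨Sum.inr ⟨p⁻¹ * q, hR (Subgroup.mem_inf.2 ⟨mul_mem (inv_mem hp) q.2, cj_eq_self_iff.1 ?_⟩)⟩, Subtype.ext (mul_inv_cancel_left p _)⟩
        rw [cj_mul, hout q q.2 hq, ← hout p hp hpS, ← cj_mul, inv_mul_cancel, cj_one]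
    have hle2 : Nat.card P ≤ 2 * Nat.card T.big := by
      have := Nat.card_le_card_of_surjective _ hsur
      rw [Nat.card_sum] at this; omega
    have hlt : Nat.card T.big < Nat.card P :=
      lt_of_not_ge fun hge => hle (Subgroup.eq_of_le_of_card_ge hSP hge).ge
    obtain ⟨d, hd⟩ := Subgroup.card_dvd_of_le hSP
    have hm1 := T.sc.card_mod_three hSi.1 hSi.2
    have hm2 := T.sc.card_mod_three (Y := P) (not_three_of_two_group hPp) (hPn (hN2 hSi.2))
    have hd2 : d = 2 := by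
      have : 0 < Nat.card T.big := Nat.card_pos
      rw [hd] at hle2 hlt
      nlinarith
    rw [hd, hd2, Nat.mul_mod, hm1] at hm2
    norm_num at hm2
  subst hPS
  refine ⟨N, hSN, hN1, hN2, hNi, hNc, hPc, ?_⟩
  refine hPc.trans (congrArg (2 ^ ·) (le_antisymm ?_ ?_))
  · exact (Nat.prime_two.pow_dvd_iff_le_factorization Nat.card_pos.ne').1
      ((Nat.ordProj_dvd _ 2).trans (Subgroup.card_subgroup_dvd_card N))
  · by_contra hlt
    refine not_dvd_succ hPc ?_ ((pow_dvd_pow 2 (Nat.succ_le_of_lt (Nat.lt_of_not_le hlt))).trans (Nat.ordProj_dvd _ 2))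
    rw [hNc]
    exact fun hd => Nat.pow_succ_factorization_not_dvd Nat.card_pos.ne' Nat.prime_two
      ((Nat.Coprime.pow_left _ (by norm_num : Nat.Coprime 2 3)).dvd_of_dvd_mul_left hd)

/-- Fusion in the centre of the big two-group: `|C_E(s)| = 4`. -/
theorem Two.cent_four [IsSimpleGroup G] (T : Two x i s E)
    (hprop : ∀ L : Subgroup G, L ≠ ⊤ → x ∈ L → Concl L)
    (hconj : ∀ u v : G, orderOf u = 2 → orderOf v = 2 → IsConj u v) :
    Nat.card (E ⊓ Subgroup.centralizer {s} : Subgroup G) = 4 := by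
  classical
  haveI : Fact (Nat.Prime 2) := ⟨Nat.prime_two⟩
  obtain ⟨k, m, hk, hkm, hE, hS, hA, h4⟩ := T.numbers
  obtain ⟨N, hSN, hN1, hN2, hNi, hNc, hSc, hSG⟩ := T.big_sylow hprop
  set Z := (E ⊓ Subgroup.centralizer {s} : Subgroup G) with hZ
  have hZc : ∀ z ∈ Z, ∀ a ∈ T.big, z * a = a * z := by
    intro z hz a ha
    rw [hZ, Subgroup.mem_inf, Subgroup.mem_centralizer_singleton_iff] at hz
    obtain ⟨w, hw, e, he, rfl⟩ := T.mem_big.1 ha
    rw [← mul_assoc, T.fixed_four hz.1 hz.2 hw, mul_assoc, T.comm z hz.1 e he, mul_assoc]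
  haveI := T.sc.isNilpotent hNi.1 hNi.2
  -- `N` centralises `Z`
  have hNZ : ∀ z ∈ Z, ∀ a ∈ N, a * z = z * a := by
    intro z hz a ha
    have hzN : z ∈ N := hSN (T.e_le_big hz.1)
    set C := Subgroup.centralizer ({⟨z, hzN⟩} : Set N)
    have hC : C = ⊤ := by
      refine Subgroup.eq_top_of_le_card _ (Nat.le_of_dvd Nat.card_pos ?_)
      rw [Nat.dvd_iff_prime_pow_dvd_dvd]
      intro q j hq hd
      haveI := Fact.mk hq
      obtain ⟨Q⟩ : Nonempty (Sylow q N) := inferInstance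
      have hQC : (Q : Subgroup N) ≤ C := by
        intro b hb
        rw [Subgroup.mem_centralizer_singleton_iff]
        by_cases hq2 : q = 2
        · subst hq2
          have hbS : (b : G) ∈ T.big := le_part hSc hSN (hN1) (Subgroup.map_subtype_le _)
            (Q.isPGroup'.map N.subtype) ⟨b, hb, rfl⟩
          exact Subtype.ext (hZc z hz b hbS).symm
        · obtain ⟨n, hn⟩ := IsPGroup.iff_orderOf.1 Q.isPGroup' ⟨b, hb⟩
          rw [Subgroup.orderOf_mk] at hn
          refine (CfsgLib.NilpPerm.commute_of_coprime_order (a := b) (b := (⟨z, hzN⟩ : N)) ?_).eq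
          have h2 : orderOf (⟨z, hzN⟩ : N) ∣ 2 ^ 1 := orderOf_dvd_of_pow_eq_one (Subtype.ext (by
            simpa [sq] using T.exp z hz.1))
          rw [hn]
          exact Nat.Coprime.coprime_dvd_right h2 (Nat.Coprime.pow _ _ ((Nat.coprime_primes hq Nat.prime_two).2 hq2))
      exact (Q.pow_dvd_card_of_pow_dvd_card hd).trans (Subgroup.card_dvd_of_le hQC)
    have hmem : (⟨a, ha⟩ : N) ∈ C := by rw [hC]; exact Subgroup.mem_top _
    exact congrArg Subtype.val (Subgroup.mem_centralizer_singleton_iff.1 hmem)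
  -- the orbit of one of them
  haveI hZn : Nontrivial Z := Finite.one_lt_card_iff_nontrivial.1 (by omega)
  obtain ⟨⟨z0, hz0⟩, hz01⟩ := exists_ne (1 : Z)
  set L := Subgroup.normalizer (T.big : Set G) with hL
  haveI : (N.subgroupOf L).Normal := (Subgroup.normal_subgroupOf_iff_le_normalizer hN1).2 hN2
  have hq3 : Nat.card (L ⧸ N.subgroupOf L) = 3 := by
    have := Subgroup.card_eq_card_quotient_mul_card_subgroup (N.subgroupOf L)
    rw [Nat.card_congr (Subgroup.subgroupOfEquivOfLe hN1).toEquiv, hNc] at this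
    exact (Nat.eq_of_mul_eq_mul_right Nat.card_pos this).symm
  have hord : ∀ w ∈ Z, w ≠ 1 → orderOf w = 2 := fun w hw hw1 =>
    orderOf_eq_prime (by rw [sq]; exact T.exp w hw.1) hw1
  have hcentS : ∀ w ∈ Z, w ∈ Subgroup.centralizer (T.big : Set G) := fun w hw =>
    Subgroup.mem_centralizer_iff.2 fun a ha => (hZc w hw a ha).symm
  have horb : ∀ w : {w : Z // w ≠ 1}, ∃ q : L ⧸ N.subgroupOf L, (q.out : G) * z0 * (q.out : G)⁻¹ = (w.1 : G) := by
    rintro ⟨⟨w, hw⟩, hw1⟩
    have hw1' : w ≠ 1 := fun e => hw1 (Subtype.ext e)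
    have hz01' : z0 ≠ 1 := fun e => hz01 (Subtype.ext e)
    obtain ⟨g, hg⟩ := isConj_iff.1 (hconj z0 w (hord z0 hz0 hz01') (hord w hw hw1'))
    obtain ⟨n, hn, hnz⟩ := CfsgLib.Transfer.burnside_fusion_central (Sylow.ofCard T.big hSG)
      (hcentS z0 hz0) (hcentS w hw) hg
    replace hn : n ∈ L := hn
    refine ⟨((⟨n, hn⟩ : L) : L ⧸ N.subgroupOf L), ?_⟩
    obtain ⟨⟨a, ha⟩, hout⟩ := QuotientGroup.mk_out_eq_mul (N.subgroupOf L) (⟨n, hn⟩ : L)
    rw [hout]
    show n * (a : G) * z0 * (n * (a : G))⁻¹ = w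
    calc n * (a : G) * z0 * (n * (a : G))⁻¹ = n * ((a : G) * z0 * (a : G)⁻¹) * n⁻¹ := by group
      _ = w := by rw [hNZ z0 hz0 a (Subgroup.mem_subgroupOf.1 ha), mul_inv_cancel_right, hnz]
  have hcount : Nat.card {w : Z // w ≠ 1} ≤ 3 := by
    rw [← hq3]
    refine Nat.card_le_card_of_injective (fun w => (horb w).choose) fun a b e => ?_
    have ha := (horb a).choose_spec
    simp only at e
    rw [e, (horb b).choose_spec] at ha
    exact Subtype.ext (Subtype.ext ha.symm)
  have : Nat.card {w : Z // w ≠ 1} = Nat.card Z - 1 := by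
    haveI := Fintype.ofFinite Z
    rw [Nat.card_eq_fintype_card, Nat.card_eq_fintype_card, Fintype.card_subtype_compl,
      Fintype.card_subtype_eq]
  omega

/-- There is no local subgroup of type II. -/
theorem no_two [IsSimpleGroup G] (hprop : ∀ L : Subgroup G, L ≠ ⊤ → x ∈ L → Concl L)
    (hconj : ∀ u v : G, orderOf u = 2 → orderOf v = 2 → IsConj u v) (T : Two x i s E) : False := by
  classical
  haveI : Fact (Nat.Prime 2) := ⟨Nat.prime_two⟩
  obtain ⟨k, m, hk, hkm, hE, hS, hA, h4⟩ := T.numbers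
  obtain ⟨N, hSN, hN1, hN2, hNi, hNc, hSc, hSG⟩ := T.big_sylow hprop
  have hk4 : k = 4 := hk.symm.trans (T.cent_four hprop hconj)
  subst hk4
  norm_num at hE hS hA
  have hSp : IsPGroup 2 T.big := IsPGroup.of_card (n := 6) (by rw [hS]; norm_num)
  have hAp : IsPGroup 2 T.flat := hSp.to_le T.flat_le_big
  have hAne : T.flat ≠ ⊥ := fun e => by rw [e, Subgroup.card_bot] at hA; omega
  have hAi : Inv3 x T.flat := ⟨not_three_of_two_group hAp, T.x_flat⟩
  have hiA : i ∉ Subgroup.normalizer (T.flat : Set G) := fun e =>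
    T.swap' (T.flat_le_big (conj_mem_of_mem_normalizer e T.s_flat))
  obtain ⟨NA, hA1, hA2, hAN, hAc, hAmax⟩ := local_kernel T.sc T.inv hprop hAne hAi hiA
  have hSNA : T.big ≤ NA := hAmax _ T.big_le_normalizer_flat ⟨not_three_of_two_group hSp, T.x_big⟩
  obtain ⟨P, hPN, hPc, hPp, hPn⟩ := exists_part T.sc hAN 2
  have hPS : T.big = P := by
    refine Subgroup.eq_of_le_of_card_ge (le_part hPc hPN (Subgroup.le_normalizer.trans hPn) hSNA hSp) ?_
    rw [hPc, hSG]
    exact Nat.pow_le_pow_right (by norm_num) ((Nat.prime_two.pow_dvd_iff_le_factorization Nat.card_pos.ne').1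
      ((Nat.ordProj_dvd _ 2).trans (Subgroup.card_subgroup_dvd_card NA)))
  have hAS : Subgroup.normalizer (T.flat : Set G) ≤ Subgroup.normalizer (T.big : Set G) := by
    rw [hPS]; exact hA2.trans hPn
  -- `64` divides `|C(s)|`
  set C := Subgroup.centralizer ({s} : Set G) with hC
  have h64 : 2 ^ 6 ∣ Nat.card C := by
    have hZ1 : Nat.card (E ⊓ Subgroup.centralizer {s} : Subgroup G) ≠ 1 := by rw [hk]; norm_num
    obtain ⟨z, hz, hz1⟩ := ((E ⊓ Subgroup.centralizer {s} : Subgroup G).bot_or_exists_ne_one).resolve_left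
      fun e => hZ1 (by rw [e, Subgroup.card_bot])
    obtain ⟨g, hg⟩ := isConj_iff.1 (hconj s z
      (orderOf_eq_prime (by rw [sq]; exact T.s2) fun e => T.s_not (e ▸ one_mem E))
      (orderOf_eq_prime (by rw [sq]; exact T.exp z hz.1) hz1))
    rw [← card_cj g C, show (2 : ℕ) ^ 6 = Nat.card T.big by rw [hS]; norm_num]
    refine Subgroup.card_dvd_of_le fun a ha => ?_
    rw [mem_cj, hC, Subgroup.mem_centralizer_singleton_iff]
    obtain ⟨w, hw, e, he, rfl⟩ := T.mem_big.1 ha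
    have hzz := Subgroup.mem_centralizer_singleton_iff.1 hz.2
    have : (w * e) * (g * s * g⁻¹) = (g * s * g⁻¹) * (w * e) := by
      rw [hg, ← mul_assoc, T.fixed_four hz.1 hzz hw, mul_assoc, ← T.comm z hz.1 e he, mul_assoc]
    calc g⁻¹ * (w * e) * g * s = g⁻¹ * ((w * e) * (g * s * g⁻¹)) * g := by group
      _ = s * (g⁻¹ * (w * e) * g) := by rw [this]; group
  have hAC : T.flat ≤ C := inf_le_right
  have hc : Nat.card (T.flat.subgroupOf C) = 2 ^ 4 := by
    rw [Nat.card_congr (Subgroup.subgroupOfEquivOfLe hAC).toEquiv, hA]; norm_num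
  have h32 := Sylow.prime_pow_dvd_card_normalizer (p := 2) (n := 4) ((pow_dvd_pow 2 (by norm_num)).trans h64) hc
  obtain ⟨Q, hQ⟩ := Sylow.exists_subgroup_card_pow_prime 2 h32
  set Q' := (Q.map (Subgroup.normalizer (T.flat.subgroupOf C : Set C)).subtype).map C.subtype with hQ'
  have hQc : Nat.card Q' = 2 ^ 5 := by
    rw [hQ', Subgroup.card_map_of_injective C.subtype_injective,
      Subgroup.card_map_of_injective (Subgroup.subtype_injective _), hQ]
  have hQC : Q' ≤ C := Subgroup.map_subtype_le _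
  have hQn : Q' ≤ Subgroup.normalizer (T.flat : Set G) := by
    rintro _ ⟨c, ⟨n, -, rfl⟩, rfl⟩
    refine mem_normalizer_of_forall fun y hy => ?_
    have := (Subgroup.mem_normalizer_iff.1 n.2 ⟨y, hAC hy⟩).1 (Subgroup.mem_subgroupOf.2 hy)
    exact Subgroup.mem_subgroupOf.1 this
  have hSL : Nat.card T.big = 2 ^ (Nat.card (Subgroup.normalizer (T.big : Set G))).factorization 2 := by
    rw [hNc, Nat.factorization_mul (by norm_num) Nat.card_pos.ne', hSc]
    simp [Nat.factorization_eq_zero_of_not_dvd (show ¬ 2 ∣ 3 by norm_num)]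
  have hQS : Q' ≤ T.big := le_part hSL Subgroup.le_normalizer le_rfl (hQn.trans hAS) (IsPGroup.of_card hQc)
  have hle : Q' ≤ T.flat := le_inf hQS hQC
  have := Nat.le_of_dvd Nat.card_pos (Subgroup.card_dvd_of_le hle)
  rw [hQc, hA] at this
  norm_num at this

end CfsgLib.SelfCentThree
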