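import Cfsg.Agent.Lib.SelfCentThree.TwoSetup

/-!
The preimage of the four group and its elementary abelian subgroup.
-/

set_option autoImplicit false
set_option maxHeartbeats 400000

namespace CfsgLib.SelfCentThree

universe u

variable {G : Type u} [Group G] [Finite G] {x i s : G} {E : Subgroup G}

/-- The relations between the three involutions. -/
theorem Two.rels (T : Two x i s E) :
    (x * s * x⁻¹) * (x * s * x⁻¹) = 1 ∧ s * (x * s * x⁻¹) = x⁻¹ * s * x ∧
      (x * s * x⁻¹) * s = x⁻¹ * s * x := by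
  have h := T.sc
  have hs := T.s2
  have hxx : x⁻¹ * x⁻¹ = x := by rw [← mul_inv_rev, ← h.inv_eq, inv_inv]
  have hsinv : s⁻¹ = s := inv_eq_of_mul_eq_one_right hs
  obtain ⟨c1, -⟩ := cube_of_order T.sx.order
  have hxs : SC (x * s) := by
    have := T.sx.conj x
    rwa [show x * (s * x) * x⁻¹ = x * s by group] at this
  obtain ⟨c2, -⟩ := cube_of_order hxs.order
  have e1 : s * (x * s * x⁻¹) * (x⁻¹ * s * x) = 1 := by
    calc s * (x * s * x⁻¹) * (x⁻¹ * s * x) = s * x * s * (x⁻¹ * x⁻¹) * s * x := by simp [mul_assoc]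
      _ = (s * x) * (s * x) * (s * x) := by rw [hxx]; simp [mul_assoc]
      _ = 1 := c1
  have e2 : s * (x⁻¹ * s * x) * (x * s * x⁻¹) = 1 := by
    calc s * (x⁻¹ * s * x) * (x * s * x⁻¹) = s * x⁻¹ * s * (x * x) * s * x⁻¹ := by simp [mul_assoc]
      _ = (s * x⁻¹) * (s * x⁻¹) * (s * x⁻¹) := by rw [← h.inv_eq]; simp [mul_assoc]
      _ = ((x * s) * (x * s) * (x * s))⁻¹ := by simp [hsinv, mul_assoc]
      _ = 1 := by rw [c2, inv_one]
  have sq1 : (x * s * x⁻¹) * (x * s * x⁻¹) = 1 := by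
    calc (x * s * x⁻¹) * (x * s * x⁻¹) = x * (s * s) * x⁻¹ := by simp [mul_assoc]
      _ = 1 := by rw [hs]; group
  have sq2 : (x⁻¹ * s * x) * (x⁻¹ * s * x) = 1 := by
    calc (x⁻¹ * s * x) * (x⁻¹ * s * x) = x⁻¹ * (s * s) * x := by simp [mul_assoc]
      _ = 1 := by rw [hs]; group
  have a1 : s * (x * s * x⁻¹) = x⁻¹ * s * x :=
    mul_right_cancel (e1.trans sq2.symm)
  have a2 : s * (x⁻¹ * s * x) = x * s * x⁻¹ := mul_right_cancel (e2.trans sq1.symm)
  refine ⟨sq1, a1, ?_⟩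
  calc (x * s * x⁻¹) * s = (x⁻¹ * s * x) * (x⁻¹ * s * x) * ((x * s * x⁻¹) * s) := by rw [sq2, one_mul]
    _ = (x⁻¹ * s * x) * ((x⁻¹ * s * x) * (x * s * x⁻¹) * s) := by simp [mul_assoc]
    _ = x⁻¹ * s * x := by
      rw [show (x⁻¹ * s * x) * (x * s * x⁻¹) * s = s * (s * (x⁻¹ * s * x) * (x * s * x⁻¹)) * s by
        simp [← mul_assoc, hs], e2, mul_one, hs, mul_one]

/-- The four group generated by `s` and its conjugates. -/
def Two.four (T : Two x i s E) : Subgroup G where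
  carrier := {w | w = 1 ∨ w = s ∨ w = x * s * x⁻¹ ∨ w = x⁻¹ * s * x}
  one_mem' := Or.inl rfl
  mul_mem' := by
    obtain ⟨r1, r2, r3⟩ := T.rels
    intro a b ha hb
    set u := x * s * x⁻¹ with hu
    set v := x⁻¹ * s * x with hv
    have hs := T.s2
    have e1 : u * v = s := by rw [← r3, ← mul_assoc, r1, one_mul]
    have e2 : v * u = s := by rw [← r2, mul_assoc, r1, mul_one]
    have e3 : s * v = u := by rw [← r2, ← mul_assoc, hs, one_mul]
    have e4 : v * s = u := by rw [← r3, mul_assoc, hs, mul_one]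
    have e5 : v * v = 1 := by nth_rewrite 1 [← r2]; rw [mul_assoc, e1, hs]
    simp only [Set.mem_ofPred_eq] at ha hb ⊢
    rcases ha with e | e | e | e <;> rcases hb with e' | e' | e' | e' <;> subst e e' <;>
      simp only [one_mul, mul_one, hs, r1, r2, r3, e1, e2, e3, e4, e5, true_or, or_true]
  inv_mem' := by
    obtain ⟨r1, r2, r3⟩ := T.rels
    intro a ha
    have hs : s⁻¹ = s := inv_eq_of_mul_eq_one_right T.s2
    simp only [Set.mem_ofPred_eq] at ha ⊢
    rcases ha with e | e | e | e <;> subst e <;> simp [hs, mul_assoc]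

theorem Two.mem_four (T : Two x i s E) {w : G} :
    w ∈ T.four ↔ w = 1 ∨ w = s ∨ w = x * s * x⁻¹ ∨ w = x⁻¹ * s * x := Iff.rfl

theorem Two.four_le (T : Two x i s E) : T.four ≤ Subgroup.normalizer (E : Set G) := by
  intro w hw
  have hx := T.i3.2
  rcases hw with rfl | rfl | rfl | rfl
  exacts [one_mem _, T.s_mem, mul_mem (mul_mem hx T.s_mem) (inv_mem hx), mul_mem (mul_mem (inv_mem hx) T.s_mem) hx]

theorem Two.four_inter (T : Two x i s E) {w : G} (hw : w ∈ T.four) (hE : w ∈ E) : w = 1 := by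
  rcases hw with rfl | rfl | rfl | rfl
  exacts [rfl, absurd hE T.s_not, absurd hE T.s'_not, absurd hE T.ss'_not]

theorem Two.four_sq (T : Two x i s E) {w : G} (hw : w ∈ T.four) : w * w = 1 := by
  rcases hw with rfl | rfl | rfl | rfl
  · exact one_mul 1
  · exact T.s2
  · exact T.rels.1
  · calc (x⁻¹ * s * x) * (x⁻¹ * s * x) = x⁻¹ * (s * s) * x := by simp [mul_assoc]
      _ = 1 := by rw [T.s2]; group

theorem Two.four_comm (T : Two x i s E) {v w : G} (hv : v ∈ T.four) (hw : w ∈ T.four) : v * w = w * v := by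
  have hinv : ∀ {u}, u ∈ T.four → u⁻¹ = u := fun hu => inv_eq_of_mul_eq_one_right (T.four_sq hu)
  calc v * w = (v * w)⁻¹ := (hinv (mul_mem hv hw)).symm
    _ = w * v := by rw [mul_inv_rev, hinv hv, hinv hw]

theorem Two.card_four (T : Two x i s E) : Nat.card T.four = 4 := by
  classical
  have hs : s ≠ 1 := fun e => T.s_not (e ▸ one_mem E)
  have h' : x * s * x⁻¹ ≠ 1 := fun e => T.s'_not (e ▸ one_mem E)
  have h'' : x⁻¹ * s * x ≠ 1 := fun e => T.ss'_not (e ▸ one_mem E)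
  obtain ⟨r1, r2, r3⟩ := T.rels
  have n1 : s ≠ x * s * x⁻¹ := fun e => h'' (by rw [← r2, ← e, T.s2])
  have n2 : s ≠ x⁻¹ * s * x := fun e => h' (mul_left_cancel (a := s) (by rw [r2, ← e, mul_one]))
  have n3 : x * s * x⁻¹ ≠ x⁻¹ * s * x := fun e => hs (mul_left_cancel (a := x * s * x⁻¹) (by rw [r3, ← e, mul_one]))
  rw [Nat.card_congr (Equiv.subtypeEquivRight (q := fun w => w ∈ ({1, s, x * s * x⁻¹, x⁻¹ * s * x} : Finset G))
    (fun w => by simp [T.mem_four])), Nat.card_eq_fintype_card, Fintype.card_coe]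
  rw [Finset.card_insert_of_notMem, Finset.card_insert_of_notMem, Finset.card_insert_of_notMem, Finset.card_singleton]
  · simpa using n3
  · simp [n1, n2]
  · simp [hs.symm, h'.symm, h''.symm]

/-- The preimage of the four group. -/
def Two.big (T : Two x i s E) : Subgroup G := T.four ⊔ E

theorem Two.mem_big (T : Two x i s E) {g : G} : g ∈ T.big ↔ ∃ w ∈ T.four, ∃ e ∈ E, w * e = g := by
  rw [Two.big, ← SetLike.mem_coe, Subgroup.coe_mul_of_left_le_normalizer_right T.four E T.four_le, Set.mem_mul]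
  rfl

theorem Two.unique_rep (T : Two x i s E) {w w' e e' : G} (hw : w ∈ T.four) (hw' : w' ∈ T.four) (he : e ∈ E)
    (he' : e' ∈ E) (heq : w * e = w' * e') : w = w' ∧ e = e' := by
  have h1 : w'⁻¹ * w = e' * e⁻¹ :=
    calc w'⁻¹ * w = w'⁻¹ * (w * e) * e⁻¹ := by group
      _ = e' * e⁻¹ := by rw [heq]; group
  have h2 : w'⁻¹ * w ∈ E := h1 ▸ mul_mem he' (inv_mem he)
  have hww : w = w' := (inv_mul_eq_one.1 (T.four_inter (mul_mem (inv_mem hw') hw) h2)).symm
  subst hww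
  exact ⟨rfl, mul_left_cancel heq⟩

theorem Two.card_big (T : Two x i s E) : Nat.card T.big = 4 * Nat.card E := by
  rw [← T.card_four, ← Nat.card_prod]
  refine (Nat.card_eq_of_bijective (fun p : T.four × E =>
    (⟨p.1.1 * p.2.1, T.mem_big.2 ⟨_, p.1.2, _, p.2.2, rfl⟩⟩ : T.big)) ⟨fun p q e => ?_, fun g => ?_⟩).symm
  · obtain ⟨h1, h2⟩ := T.unique_rep p.1.2 q.1.2 p.2.2 q.2.2 (congrArg Subtype.val e)
    exact Prod.ext (Subtype.ext h1) (Subtype.ext h2)
  · obtain ⟨w, hw, e, he, hwe⟩ := T.mem_big.1 g.2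
    exact ⟨(⟨w, hw⟩, ⟨e, he⟩), Subtype.ext hwe⟩

theorem Two.conj_x_four (T : Two x i s E) {w : G} (hw : w ∈ T.four) : x * w * x⁻¹ ∈ T.four := by
  rcases hw with rfl | rfl | rfl | rfl
  · simp [T.four.one_mem]
  · exact Or.inr (Or.inr (Or.inl rfl))
  · exact Or.inr (Or.inr (Or.inr (T.sc.conj_conj s)))
  · exact Or.inr (Or.inl (show x * (x⁻¹ * s * x) * x⁻¹ = s by group))

theorem mem_normalizer_of_forall {H : Subgroup G} {g : G} (hg : ∀ y ∈ H, g * y * g⁻¹ ∈ H) :
    g ∈ Subgroup.normalizer (H : Set G) := by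
  rw [Subgroup.mem_normalizer_iff_map_conj_eq]
  refine Subgroup.eq_of_le_of_card_ge ?_ (le_of_eq (Subgroup.card_map_of_injective (MulAut.conj g).injective).symm)
  rintro _ ⟨y, hy, rfl⟩
  exact hg y hy

theorem Two.x_big (T : Two x i s E) : x ∈ Subgroup.normalizer (T.big : Set G) := by
  refine mem_normalizer_of_forall fun g hg => ?_
  obtain ⟨w, hw, e, he, rfl⟩ := T.mem_big.1 hg
  rw [show x * (w * e) * x⁻¹ = (x * w * x⁻¹) * (x * e * x⁻¹) by group]
  exact T.mem_big.2 ⟨_, T.conj_x_four hw, _, conj_mem_of_mem_normalizer T.i3.2 he, rfl⟩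

/-- `C_E(s)` is invariant under `x`. -/
theorem Two.conj_x_fixed (T : Two x i s E) {z : G} (hz : z ∈ E) (hzs : z * s = s * z) :
    (x * z * x⁻¹) * s = s * (x * z * x⁻¹) := by
  have hsxn : s * x ∈ Subgroup.normalizer (E : Set G) := mul_mem T.s_mem T.i3.2
  have t1 := T.sx.triple T.i3.1 hsxn hz
  have t2 := T.sc.triple T.i3.1 T.i3.2 hz
  have hsinv : s⁻¹ = s := inv_eq_of_mul_eq_one_right T.s2
  have e : (s * x)⁻¹ * z * (s * x) = x⁻¹ * z * x := by
    calc (s * x)⁻¹ * z * (s * x) = x⁻¹ * (s * (z * s)) * x := by rw [mul_inv_rev, hsinv]; simp [mul_assoc]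
      _ = x⁻¹ * z * x := by rw [hzs, ← mul_assoc s, T.s2, one_mul]
  rw [e] at t1
  have e2 : s * x * z * (s * x)⁻¹ = x * z * x⁻¹ := mul_left_cancel (mul_right_cancel (t1.trans t2.symm))
  calc (x * z * x⁻¹) * s = (s * x * z * (s * x)⁻¹) * s := by rw [e2]
    _ = s * (x * z * x⁻¹) := by simp [mul_assoc]

theorem Two.fixed_four (T : Two x i s E) {z w : G} (hz : z ∈ E) (hzs : z * s = s * z) (hw : w ∈ T.four) :
    z * w = w * z := by
  have h1 := conj_mem_of_mem_normalizer T.i3.2 hz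
  have e1 := T.conj_x_fixed hz hzs
  have e2 := T.conj_x_fixed h1 e1
  have e3 : (x⁻¹ * z * x) * s = s * (x⁻¹ * z * x) := by rw [← T.sc.conj_conj z]; exact e2
  rcases hw with rfl | rfl | rfl | rfl
  · simp
  · exact hzs
  · calc z * (x * s * x⁻¹) = x * ((x⁻¹ * z * x) * s) * x⁻¹ := by group
      _ = x * (s * (x⁻¹ * z * x)) * x⁻¹ := by rw [e3]
      _ = x * s * x⁻¹ * z := by group
  · calc z * (x⁻¹ * s * x) = x⁻¹ * ((x * z * x⁻¹) * s) * x := by group
      _ = x⁻¹ * (s * (x * z * x⁻¹)) * x := by rw [e1]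
      _ = x⁻¹ * s * x * z := by group

theorem Two.fixed_of_four (T : Two x i s E) {e w : G} (he : e ∈ E) (hw : w ∈ T.four) (hw1 : w ≠ 1)
    (hew : e * w = w * e) : e * s = s * e := by
  rcases hw with rfl | rfl | rfl | rfl
  · exact absurd rfl hw1
  · exact hew
  · have h0 : (x⁻¹ * e * x) * s = s * (x⁻¹ * e * x) := by
      calc (x⁻¹ * e * x) * s = x⁻¹ * (e * (x * s * x⁻¹)) * x := by group
        _ = x⁻¹ * ((x * s * x⁻¹) * e) * x := by rw [hew]
        _ = s * (x⁻¹ * e * x) := by group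
    have := T.conj_x_fixed (conj'_mem_of_mem_normalizer T.i3.2 he) h0
    rwa [show x * (x⁻¹ * e * x) * x⁻¹ = e by group] at this
  · have h0 : (x * e * x⁻¹) * s = s * (x * e * x⁻¹) := by
      calc (x * e * x⁻¹) * s = x * (e * (x⁻¹ * s * x)) * x⁻¹ := by group
        _ = x * ((x⁻¹ * s * x) * e) * x⁻¹ := by rw [hew]
        _ = s * (x * e * x⁻¹) := by group
    have h1 := T.conj_x_fixed (conj_mem_of_mem_normalizer T.i3.2 he) h0
    have h2 := T.conj_x_fixed (conj_mem_of_mem_normalizer T.i3.2 (conj_mem_of_mem_normalizer T.i3.2 he)) h1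
    have hx3 : x * x * x = 1 := by simpa [pow_succ] using T.sc.pow_three
    rwa [show x * (x * (x * e * x⁻¹) * x⁻¹) * x⁻¹ = (x * x * x) * e * (x * x * x)⁻¹ by simp [mul_assoc], hx3,
      one_mul, inv_one, mul_one] at h2

/-- The elementary abelian subgroup `C(s) ∩ big`. -/
def Two.flat (T : Two x i s E) : Subgroup G := T.big ⊓ Subgroup.centralizer {s}

theorem Two.mem_flat (T : Two x i s E) {g : G} :
    g ∈ T.flat ↔ ∃ w ∈ T.four, ∃ e ∈ E, e * s = s * e ∧ w * e = g := by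
  rw [Two.flat, Subgroup.mem_inf, T.mem_big, Subgroup.mem_centralizer_singleton_iff]
  have hs : s ∈ T.four := Or.inr (Or.inl rfl)
  constructor
  · rintro ⟨⟨w, hw, e, he, rfl⟩, hg⟩
    refine ⟨w, hw, e, he, mul_left_cancel (a := w) ?_, rfl⟩
    calc w * (e * s) = s * (w * e) := by rw [← hg, mul_assoc]
      _ = w * (s * e) := by rw [← mul_assoc, T.four_comm hs hw, mul_assoc]
  · rintro ⟨w, hw, e, he, hes, rfl⟩
    refine ⟨⟨w, hw, e, he, rfl⟩, ?_⟩
    rw [mul_assoc, hes, ← mul_assoc, T.four_comm hw hs, mul_assoc]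

theorem Two.card_flat (T : Two x i s E) :
    Nat.card T.flat = 4 * Nat.card (E ⊓ Subgroup.centralizer {s} : Subgroup G) := by
  rw [← T.card_four, ← Nat.card_prod]
  refine (Nat.card_eq_of_bijective (fun p : T.four × (E ⊓ Subgroup.centralizer {s} : Subgroup G) =>
    (⟨p.1.1 * p.2.1, T.mem_flat.2 ⟨_, p.1.2, _, (Subgroup.mem_inf.1 p.2.2).1,
      Subgroup.mem_centralizer_singleton_iff.1 (Subgroup.mem_inf.1 p.2.2).2, rfl⟩⟩ : T.flat))
    ⟨fun p q e => ?_, fun g => ?_⟩).symm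
  · obtain ⟨h1, h2⟩ := T.unique_rep p.1.2 q.1.2 (Subgroup.mem_inf.1 p.2.2).1 (Subgroup.mem_inf.1 q.2.2).1
      (congrArg Subtype.val e)
    exact Prod.ext (Subtype.ext h1) (Subtype.ext h2)
  · obtain ⟨w, hw, e, he, hes, hwe⟩ := T.mem_flat.1 g.2
    exact ⟨(⟨w, hw⟩, ⟨e, Subgroup.mem_inf.2 ⟨he, Subgroup.mem_centralizer_singleton_iff.2 hes⟩⟩), Subtype.ext hwe⟩

theorem Two.x_flat (T : Two x i s E) : x ∈ Subgroup.normalizer (T.flat : Set G) := by
  refine mem_normalizer_of_forall fun g hg => ?_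
  obtain ⟨w, hw, e, he, hes, rfl⟩ := T.mem_flat.1 hg
  rw [show x * (w * e) * x⁻¹ = (x * w * x⁻¹) * (x * e * x⁻¹) by group]
  exact T.mem_flat.2 ⟨_, T.conj_x_four hw, _, conj_mem_of_mem_normalizer T.i3.2 he, T.conj_x_fixed he hes, rfl⟩

theorem Two.big_le_normalizer_flat (T : Two x i s E) :
    T.big ≤ Subgroup.normalizer (T.flat : Set G) := by
  intro g hg
  refine mem_normalizer_of_forall fun a ha => ?_
  obtain ⟨v, hv, e, he, rfl⟩ := T.mem_big.1 hg
  obtain ⟨w, hw, z, hz, hzs, rfl⟩ := T.mem_flat.1 ha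
  have hwinv : w⁻¹ = w := inv_eq_of_mul_eq_one_right (T.four_sq hw)
  have heinv : e⁻¹ = e := inv_eq_of_mul_eq_one_right (T.exp e he)
  have hzw : ∀ {u}, u ∈ T.four → z * u = u * z := fun hu => T.fixed_four hz hzs hu
  set k := w * e * w * e with hk
  have hwe : w * e * w ∈ E := by
    have := conj_mem_of_mem_normalizer (T.four_le hw) he; rwa [hwinv] at this
  have hkE : k ∈ E := mul_mem hwe he
  have hkw : k * w = w * k := by
    have h1 : (w * e * w) * e = e * (w * e * w) := T.comm _ hwe _ he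
    calc k * w = (e * (w * e * w)) * w := by rw [hk, h1]
      _ = e * w * e * (w * w) := by simp [mul_assoc]
      _ = e * w * e := by rw [T.four_sq hw, mul_one]
      _ = (w * w) * (e * w * e) := by rw [T.four_sq hw, one_mul]
      _ = w * k := by simp [hk, mul_assoc]
  have hkz : k * s = s * k := by
    by_cases hw1 : w = 1
    · subst hw1
      rw [hk]; simp only [one_mul, mul_one]; rw [T.exp e he]; simp
    · exact T.fixed_of_four hkE hw hw1 hkw
  have main : v * e * (w * z) * (v * e)⁻¹ = w * (v * (k * z) * v⁻¹) := by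
    calc v * e * (w * z) * (v * e)⁻¹ = v * (e * w * (z * e)) * v⁻¹ := by
          rw [mul_inv_rev, heinv]; simp [mul_assoc]
      _ = v * (e * w * (e * z)) * v⁻¹ := by rw [T.comm z hz e he]
      _ = v * (w * k * z) * v⁻¹ := by
          rw [show w * k = e * w * e by
            calc w * k = (w * w) * (e * w * e) := by simp [hk, mul_assoc]
              _ = e * w * e := by rw [T.four_sq hw, one_mul]]
          simp [mul_assoc]
      _ = (v * w * v⁻¹) * (v * (k * z) * v⁻¹) := by group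
      _ = w * (v * (k * z) * v⁻¹) := by rw [T.four_comm hv hw, mul_inv_cancel_right]
  rw [main]
  have hkzs : (k * z) * s = s * (k * z) := by rw [mul_assoc, hzs, ← mul_assoc, hkz, mul_assoc]
  have hfix : v * (k * z) * v⁻¹ = k * z := by
    rw [← T.fixed_four (mul_mem hkE hz) hkzs hv, mul_inv_cancel_right]
  rw [hfix]
  exact T.mem_flat.2 ⟨w, hw, k * z, mul_mem hkE hz, hkzs, rfl⟩

theorem Two.swap' (T : Two x i s E) : i * s * i⁻¹ ∉ T.big := fun hg => by
  obtain ⟨w, hw, e, he, heq⟩ := T.mem_big.1 hg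
  exact T.swap w hw e he heq.symm

end CfsgLib.SelfCentThree
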