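import Cfsg.Agent.Lib.SelfCentThree.Lifts
import Cfsg.Agent.Lib.SelfCentThree.Parts

/-!
A local subgroup of type II: the four group over the kernel and its lift.
-/

set_option autoImplicit false
set_option maxHeartbeats 400000

namespace CfsgLib.SelfCentThree

universe u

variable {G : Type u} [Group G] [Finite G]

/-- The data of a local subgroup of type II. -/
structure Two (x i s : G) (E : Subgroup G) : Prop where
  sc : SC x
  inv : i * x * i⁻¹ = x⁻¹
  ne : E ≠ ⊥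
  i3 : Inv3 x E
  i_mem : i ∈ Subgroup.normalizer (E : Set G)
  comm : ∀ a ∈ E, ∀ b ∈ E, a * b = b * a
  exp : ∀ e ∈ E, e * e = 1
  s_mem : s ∈ Subgroup.normalizer (E : Set G)
  s2 : s * s = 1
  s_not : s ∉ E
  s'_not : x * s * x⁻¹ ∉ E
  ss'_not : x⁻¹ * s * x ∉ E
  sx : SC (s * x)
  swap : ∀ w : G, (w = 1 ∨ w = s ∨ w = x * s * x⁻¹ ∨ w = x⁻¹ * s * x) → ∀ e ∈ E, i * s * i⁻¹ ≠ w * e
  cent : ∀ g ∈ Subgroup.normalizer (E : Set G), (∀ e ∈ E, g * e = e * g) → g ∈ E
  card_cent : Nat.card (E ⊓ Subgroup.centralizer {s} : Subgroup G) ^ 2 = Nat.card E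
  card_l : Nat.card (Subgroup.normalizer (E : Set G)) = 60 * Nat.card E

theorem exists_two {x i : G} {E : Subgroup G} (h : SC x) (hi : i * x * i⁻¹ = x⁻¹) (hne : E ≠ ⊥)
    (hE : Inv3 x E) (hA : HasA5 (Subgroup.normalizer (E : Set G)) E) : ∃ s, Two x i s E := by
  classical
  set L := Subgroup.normalizer (E : Set G) with hL
  obtain ⟨-, hcomm, h2, f, hf, hker⟩ := hA
  have hxL : x ∈ L := hE.2
  have hexp : ∀ e ∈ E, e * e = 1 := fun e he => by rw [← sq]; exact h2 e he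
  have hkc : Nat.card f.ker = Nat.card E :=
    Nat.card_congr
      { toFun := fun g => ⟨(g : L), (hker g).1 (MonoidHom.mem_ker.1 g.2)⟩
        invFun := fun e => ⟨⟨e, Subgroup.le_normalizer e.2⟩, MonoidHom.mem_ker.2 ((hker _).2 e.2)⟩
        left_inv := fun g => rfl
        right_inv := fun e => rfl }
  set y := f ⟨x, hxL⟩ with hy
  have hy1 : y ≠ 1 := fun e => hE.1 (h.order ▸ Subgroup.orderOf_dvd_natCard E ((hker _).1 e))
  have hy3 : y * y * y = 1 := by
    rw [hy, ← map_mul, ← map_mul, show (⟨x, hxL⟩ : L) * ⟨x, hxL⟩ * ⟨x, hxL⟩ = 1 from Subtype.ext (by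
      simpa [pow_succ] using h.pow_three), map_one]
  obtain ⟨t, ht2, ht⟩ := a5_inverted y hy3 hy1
  obtain ⟨g, hg⟩ := hf t
  have hiL : i ∈ L := h.inverter_mem hi hxL f (by rw [hkc]; exact hE.1) (g := g) (by
    rw [hg, inv_eq_of_mul_eq_one_right ht2]; exact ht)
  set tb := f ⟨i, hiL⟩ with htb
  have hi2 := h.inverter_sq hi
  have htb2 : tb * tb = 1 := by
    rw [htb, ← map_mul, show (⟨i, hiL⟩ : L) * ⟨i, hiL⟩ = 1 from Subtype.ext hi2, map_one]
  have htby : tb * y * tb = y⁻¹ := by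
    rw [htb, hy, ← map_mul, ← map_mul, ← map_inv]
    congr 1
    exact Subtype.ext (show i * x * i = x⁻¹ by rw [← hi, inv_eq_of_mul_eq_one_right hi2])
  have htb1 : tb ≠ 1 := fun e => h.inverter_not_mem_inv hi hE ((hker _).1 e)
  obtain ⟨sb, hsb2, hsb1, hsy, hsy1⟩ := a5_four y hy3 hy1
  obtain ⟨c, hc⟩ := a5_isConj tb sb htb2 htb1 hsb2 hsb1
  obtain ⟨cg, hcg⟩ := hf c
  set s : G := (cg : G) * i * (cg : G)⁻¹ with hs
  have hsL : s ∈ L := mul_mem (mul_mem cg.2 hiL) (inv_mem cg.2)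
  have hfs : f ⟨s, hsL⟩ = sb := by
    rw [show (⟨s, hsL⟩ : L) = cg * ⟨i, hiL⟩ * cg⁻¹ from Subtype.ext rfl, map_mul, map_mul, map_inv, hcg, ← htb, hc,
      mul_inv_cancel_right]
  have hsx : SC (s * x) := by
    refine h.sc_of_image f (a := (⟨s, hsL⟩ : L) * ⟨x, hxL⟩) ?_
    rw [map_mul, hfs, ← hy]
    exact orderOf_three_of hsy hsy1
  have hfx' : ∀ (w : G) (hw : w ∈ L) (hw' : x * w * x⁻¹ ∈ L), f ⟨x * w * x⁻¹, hw'⟩ = y * f ⟨w, hw⟩ * y⁻¹ :=
    fun w hw hw' => by rw [hy, ← map_inv, ← map_mul, ← map_mul]; rfl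
  have hfx'' : ∀ (w : G) (hw : w ∈ L) (hw' : x⁻¹ * w * x ∈ L), f ⟨x⁻¹ * w * x, hw'⟩ = y⁻¹ * f ⟨w, hw⟩ * y :=
    fun w hw hw' => by rw [hy, ← map_inv, ← map_mul, ← map_mul]; rfl
  have hs' : x * s * x⁻¹ ∈ L := mul_mem (mul_mem hxL hsL) (inv_mem hxL)
  have hs'' : x⁻¹ * s * x ∈ L := mul_mem (mul_mem (inv_mem hxL) hsL) hxL
  refine ⟨s, h, hi, hne, hE, hiL, fun a ha b hb => setLike_mul_comm ha hb, hexp, hsL, ?_, ?_, ?_, ?_, hsx, ?_, ?_, ?_, ?_⟩
  · calc s * s = (cg : G) * (i * i) * (cg : G)⁻¹ := by simp [hs, mul_assoc]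
      _ = 1 := by rw [hi2]; group
  · intro e
    exact hsb1 (hfs ▸ (hker ⟨s, hsL⟩).2 e)
  · intro e
    have := (hker ⟨_, hs'⟩).2 e
    rw [hfx' s hsL, hfs, conj_eq_one_iff] at this
    exact hsb1 this
  · intro e
    have := (hker ⟨_, hs''⟩).2 e
    rw [hfx'' s hsL, hfs] at this
    exact hsb1 (by
      calc sb = y * (y⁻¹ * sb * y) * y⁻¹ := by group
        _ = 1 := by rw [this]; group)
  · intro w hw e he heq
    obtain ⟨e1, e2, e3⟩ := a5_swap y hy3 hy1 tb htb2 htby sb hsb2 hsb1 hsy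
    have hwL : w ∈ L := by
      rcases hw with rfl | rfl | rfl | rfl
      exacts [one_mem L, hsL, hs', hs'']
    have him : f (⟨i, hiL⟩ * ⟨s, hsL⟩ * ⟨i, hiL⟩⁻¹) = f (⟨w, hwL⟩ * ⟨e, Subgroup.le_normalizer he⟩) :=
      congrArg f (Subtype.ext heq)
    rw [map_mul, map_mul, map_mul, (hker ⟨e, _⟩).2 he, mul_one, hfs, map_inv, ← htb,
      inv_eq_of_mul_eq_one_right htb2] at him
    rcases hw with rfl | rfl | rfl | rfl
    · have : f (⟨(1 : G), hwL⟩ : L) = 1 := map_one f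
      rw [this] at him
      refine hsb1 ?_
      calc sb = (tb * tb) * sb * (tb * tb) := by rw [htb2, one_mul, mul_one]
        _ = tb * (tb * sb * tb) * tb := by simp [mul_assoc]
        _ = 1 := by rw [him, mul_one, htb2]
    · exact e1 (by rw [him, ← hfs])
    · exact e2 (by rw [him, hfx' s hsL hwL, hfs])
    · exact e3 (by rw [him, hfx'' s hsL hwL, hfs])
  · intro g hg hge
    by_contra hgE
    have hKn : ((Subgroup.centralizer (E : Set G)).subgroupOf L).Normal := by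
      refine ⟨fun k hk a => ?_⟩
      rw [Subgroup.mem_subgroupOf, Subgroup.mem_centralizer_iff] at hk ⊢
      intro e he
      have := hk _ (conj'_mem_of_mem_normalizer a.2 he)
      simp only [Subgroup.coe_mul, Subgroup.coe_inv]
      calc e * ((a : G) * k * (a : G)⁻¹) = a * ((a : G)⁻¹ * e * a * k) * (a : G)⁻¹ := by group
        _ = a * ((k : G) * ((a : G)⁻¹ * e * a)) * (a : G)⁻¹ := by rw [this]
        _ = a * k * (a : G)⁻¹ * e := by group
    haveI : IsSimpleGroup A5 := alternatingGroup.isSimpleGroup (by simp)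
    have hgK : (⟨g, hg⟩ : L) ∈ (Subgroup.centralizer (E : Set G)).subgroupOf L := by
      rw [Subgroup.mem_subgroupOf, Subgroup.mem_centralizer_iff]
      exact fun e he => (hge e he).symm
    have htop := ((Subgroup.Normal.map hKn f hf).eq_bot_or_eq_top).resolve_left fun e0 => hgE ((hker ⟨g, hg⟩).1 (by
      rw [← Subgroup.mem_bot, ← e0]; exact Subgroup.mem_map_of_mem f hgK))
    obtain ⟨k, hk, hky⟩ := Subgroup.mem_map.1 (htop ▸ Subgroup.mem_top y : y ∈ ((Subgroup.centralizer (E : Set G)).subgroupOf L).map f)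
    have hkx : ((k⁻¹ * ⟨x, hxL⟩ : L) : G) ∈ E := (hker _).1 (by rw [map_mul, map_inv, hky, ← hy, inv_mul_cancel])
    obtain ⟨e0, he0, he1⟩ := (E.bot_or_exists_ne_one).resolve_left hne
    refine he1 (h.fpf hE.1 he0 ?_)
    have hk' := Subgroup.mem_centralizer_iff.1 (Subgroup.mem_subgroupOf.1 hk) e0 he0
    have hx' : x = (k : G) * ((k⁻¹ * ⟨x, hxL⟩ : L) : G) := by simp
    rw [hx', ← mul_assoc, hk', mul_assoc, setLike_mul_comm he0 hkx, ← mul_assoc]
  · have := h.card_eq_sq hE.1 hE.2 hi2 hi hiL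
    rw [this]
    congr 1
    have hcgn : (cg : G) ∈ Subgroup.normalizer (E : Set G) := cg.2
    rw [← card_cj (cg : G) (E ⊓ Subgroup.centralizer {i})]
    congr 1
    have : E ⊓ Subgroup.centralizer {s} = cj (cg : G) (E ⊓ Subgroup.centralizer {i}) := by
      ext w
      rw [mem_cj, Subgroup.mem_inf, Subgroup.mem_inf, Subgroup.mem_centralizer_singleton_iff,
        Subgroup.mem_centralizer_singleton_iff]
      refine and_congr ⟨fun hw => conj'_mem_of_mem_normalizer hcgn hw, fun hw => ?_⟩ ⟨fun hw => ?_, fun hw => ?_⟩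
      · simpa [mul_assoc] using conj_mem_of_mem_normalizer hcgn hw
      · calc (cg : G)⁻¹ * w * cg * i = (cg : G)⁻¹ * (w * s) * cg := by simp [hs, mul_assoc]
          _ = (cg : G)⁻¹ * (s * w) * cg := by rw [hw]
          _ = i * ((cg : G)⁻¹ * w * cg) := by simp [hs, mul_assoc]
      · calc w * s = (cg : G) * ((cg : G)⁻¹ * w * cg * i) * (cg : G)⁻¹ := by simp [hs, mul_assoc]
          _ = (cg : G) * (i * ((cg : G)⁻¹ * w * cg)) * (cg : G)⁻¹ := by rw [hw]
          _ = s * w := by simp [hs, mul_assoc]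
    rw [this]
  · rw [Subgroup.card_eq_card_quotient_mul_card_subgroup f.ker, hkc,
      Nat.card_congr (QuotientGroup.quotientKerEquivOfSurjective f hf).toEquiv]
    congr 1
    rw [Nat.card_eq_fintype_card]; decide

end CfsgLib.SelfCentThree
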